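import Cfsg.Agent.Lib.EightThree88.ModelHom
import Mathlib.GroupTheory.Perm.Cycle.Type

/-!
# Decidable facts in the alternating group of degree eight
-/

set_option autoImplicit false
set_option maxRecDepth 100000
set_option synthInstance.maxSize 2000
set_option synthInstance.maxHeartbeats 400000

namespace Cfsg.Agent.Lib.EightThree88.Model

open Equiv

/- Bounded quantifiers over lists must not range over the whole group. -/
attribute [local instance 2000] List.decidableBAll List.decidableBEx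

/-- An element has a fixed point. -/
def HasFix (a : A8) : Prop := ∃ i : Fin 8, (a : P8) i = i

instance : DecidablePred HasFix := fun a => by unfold HasFix; infer_instance

def t1A : A8 := iotaA v1
def sA : A8 := iotaA v2
def s3A : A8 := iotaA v3
def zA : A8 := iotaA zK
def jA (x : K) : A8 := sigmaA * iotaA x * sigmaA⁻¹
def q1 : A8 := jA v1
def q2 : A8 := jA v2
def q3 : A8 := jA v3
/-- `(01)(45)` -/
def cA : A8 := ⟨swap 0 1 * swap 4 5, Perm.mem_alternatingGroup.2 (by decide +kernel)⟩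
/-- `(01)(56)` -/
def rA : A8 := ⟨swap 0 1 * swap 5 6, Perm.mem_alternatingGroup.2 (by decide +kernel)⟩
/-- `(05)(16)` -/
def s0A : A8 := ⟨swap 0 5 * swap 1 6, Perm.mem_alternatingGroup.2 (by decide +kernel)⟩
/-- `(16)(27)` -/
def s1A : A8 := ⟨swap 1 6 * swap 2 7, Perm.mem_alternatingGroup.2 (by decide +kernel)⟩
/-- `(01)(56)(23)(47)` -/
def qA : A8 :=
  ⟨swap 0 1 * swap 5 6 * swap 2 3 * swap 4 7, Perm.mem_alternatingGroup.2 (by decide +kernel)⟩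
/-- `(0156)(27)` -/
def fA : A8 :=
  ⟨swap 0 1 * swap 1 5 * swap 5 6 * swap 2 7, Perm.mem_alternatingGroup.2 (by decide +kernel)⟩

/-- The elementary abelian subgroup of order sixteen. -/
def El : List A8 :=
  [1, t1A, sA, s3A].flatMap fun u => [1, q1, q2, q3].map fun v => u * v

def Sl : List A8 := El ++ El.map (· * cA)

/-- The centraliser of the four group. -/
def Xl : List A8 := El ++ El.map (· * zA) ++ El.map (· * zA ^ 2)

/-- The centraliser of an element with fixed points. -/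
def Kl : List A8 := Xl ++ Xl.map (· * cA)

theorem El_mem : ∀ u v : K, InV u → InV v → ∀ i : Fin 3,
    iotaA u * (sigmaA * iotaA v * sigmaA⁻¹) * iotaA zK ^ i.val ∈ Xl := by decide +kernel

theorem El_group : (1 : A8) ∈ El ∧ (∀ a ∈ El, ∀ b ∈ El, a * b ∈ El ∧ a * b = b * a) ∧
    (∀ a ∈ El, a⁻¹ = a ∧ a * a = 1) := by decide +kernel

theorem Sl_group : (1 : A8) ∈ Sl ∧ (∀ a ∈ Sl, ∀ b ∈ Sl, a * b ∈ Sl) ∧ (∀ a ∈ Sl, a⁻¹ ∈ Sl) := by
  decide +kernel

theorem Sl_index : ∀ a ∈ Sl, ∀ b ∈ Sl, (a * b ∈ El ↔ (a ∈ El ↔ b ∈ El)) := by decide +kernel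

theorem El_Sl : ∀ a ∈ El, a ∈ Sl := by decide +kernel

theorem nodup_El : El.Nodup ∧ El.length = 16 := by decide +kernel
theorem nodup_Sl : Sl.Nodup ∧ Sl.length = 32 := by decide +kernel

theorem mem_misc : t1A ∈ El ∧ sA ∈ El ∧ s3A ∈ El ∧ q1 ∈ El ∧ q2 ∈ El ∧ q3 ∈ El ∧ cA ∈ Sl ∧ cA ∉ El ∧
    cA * cA = 1 ∧ cA ≠ 1 ∧ t1A * cA = cA * t1A ∧ t1A ∈ Sl := by decide +kernel

theorem Sl_comm_t1 : ∀ a ∈ Sl, a * t1A = t1A * a := by decide +kernel

theorem El_big : ∀ x ∈ Sl, x ∉ El → x * x = 1 →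
    (Sl.filter fun b => decide (b * b = 1 ∧ b * x = x * b)).length < 16 := by decide +kernel

theorem Sl_outer : ∀ x ∈ Sl, x ∉ El → x * x = 1 →
    HasFix x ∧ HasFix (t1A * x) ∧
      ∃ w ∈ El, w * x = x * w ∧ HasFix w ∧ w ≠ 1 ∧ HasFix (x * w) ∧ ¬ HasFix (t1A * w) := by
  decide +kernel

theorem pick_s : ∀ x ∈ El, x ≠ 1 → x ≠ t1A → HasFix x → HasFix (t1A * x) → x = sA ∨ x = s3A := by
  decide +kernel

theorem no_pick : ∀ y ∈ El, ∀ x ∈ [sA, s3A], y ≠ 1 → HasFix y → ¬ HasFix (t1A * y) → ¬ HasFix (x * y) := by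
  decide +kernel

theorem Xl_facts : (∀ a ∈ Xl, (a * a = 1 → a ∈ El) ∧ a * sA = sA * a ∧ a * t1A = t1A * a ∧
      a * s3A = s3A * a ∧ a ^ 6 = 1 ∧ (a ^ 3 = 1 → a ≠ 1 → ∃ q ∈ El, a * q * a⁻¹ * q⁻¹ ≠ 1) ∧
      ∀ q ∈ El, a * q * a⁻¹ * q⁻¹ ∈ El) := by decide +kernel

theorem Kl_facts : ∀ b ∈ Kl, b ^ 24 = 1 ∧ (b ^ 8 = 1 → (∀ x ∈ [cA], b * x * b⁻¹ ∈ Sl) → b ∈ Sl) ∧
    (∀ x ∈ El, b * x * b⁻¹ ∈ El) := by decide +kernel

theorem Xl_Kl : ∀ a ∈ Xl, a ∈ Kl ∧ cA * a ∈ Kl := by decide +kernel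

theorem Xl_cube : ∀ a ∈ Xl, a ^ 3 ∈ El := by decide +kernel

theorem cA_facts : cA * sA * cA⁻¹ = s3A ∧ cA * s3A * cA⁻¹ = sA ∧ cA * t1A * cA⁻¹ = t1A ∧
    cA⁻¹ = cA ∧ ∀ x ∈ El, cA * x * cA⁻¹ ∈ El := by decide +kernel

theorem Kl_split : ∀ b ∈ Kl, b ∈ Xl ∨ b * cA ∈ Xl := by decide +kernel

theorem rot : ∀ i : Fin 3, ∀ x ∈ El,
    zA ^ i.val * x * (zA ^ i.val)⁻¹ ∈ El ∧ sigmaA * x * sigmaA⁻¹ ∈ El := by decide +kernel

theorem L_four : (1 : A8) ∈ [1, q1, q2, q3] ∧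
    (∀ x ∈ [1, q1, q2, q3], ∀ z ∈ [1, q1, q2, q3], x * z ∈ [1, q1, q2, q3] ∧ x * z = z * x) ∧
    (∀ x ∈ [1, q1, q2, q3], x⁻¹ ∈ [1, q1, q2, q3]) ∧ [1, q1, q2, q3].Nodup ∧
    (∀ x ∈ [1, q1, q2, q3], x * x = 1 ∧ x ∈ El) := by decide +kernel

theorem q_moves : ∀ q ∈ [q1, q2, q3], ∃ i : Fin 3,
    (zA ^ i.val * sigmaA) * t1A * (zA ^ i.val * sigmaA)⁻¹ = q := by decide +kernel

/-- Carries the pairs of `(02)(13)(46)(57)` to those of `sigma`. -/
def n0 : A8 :=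
  ⟨swap 2 5 * swap 5 3 * swap 3 6 * swap 4 7, Perm.mem_alternatingGroup.2 (by decide +kernel)⟩

theorem frames : ∀ i : Fin 3, ∃ n ∈ [n0, n0 * zA, n0 * zA ^ 2],
    n * t1A * n⁻¹ = rA ∧ n * sA * n⁻¹ = s0A ∧
      n * (sA * ((zA ^ i.val * sigmaA) * sA * (zA ^ i.val * sigmaA)⁻¹)) * n⁻¹ = sigmaA := by
  decide +kernel

theorem cent_y : ∀ d : K, InD d → ∀ b ∈ [iotaA d, sigmaA * iotaA d],
    b * sigmaA = sigmaA * b →
      b = 1 ∨ b = iotaA (zK * wK) ∨ b = (iotaA (zK * wK))⁻¹ ∨ b = sigmaA ∨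
        b = iotaA (zK * wK) * sigmaA ∨ b = (iotaA (zK * wK))⁻¹ * sigmaA := by decide +kernel

theorem sigma_facts :
    let y := iotaA (zK * wK)
    y ^ 3 = 1 ∧ y ≠ 1 ∧ y ≠ sigmaA ∧ y * sigmaA = sigmaA * y ∧ sigmaA * sigmaA = 1 ∧ sigmaA ≠ 1 ∧
    ¬ HasFix sigmaA ∧ s0A * sigmaA = sigmaA * s0A ∧ s1A * sigmaA = sigmaA * s1A ∧
    rA * sigmaA = sigmaA * rA ∧ qA * sigmaA = sigmaA * qA ∧ fA * sigmaA = sigmaA * fA ∧
    rA * rA = 1 ∧ rA * y * rA = y⁻¹ ∧ s0A * s0A = 1 ∧ rA * s0A = s0A * rA ∧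
    s0A * (y * s0A * y⁻¹) = (y * s0A * y⁻¹) * s0A ∧ HasFix s0A ∧ s0A ≠ 1 := by decide +kernel

/-- Eight elements, commuting involutions modulo `sigmaA`. -/
def El8 : List A8 := [1, s0A, s1A, s0A * s1A, qA, s0A * qA, s1A * qA, s0A * s1A * qA]

theorem El8_facts : (∀ a ∈ El8, ∀ b ∈ El8, (∃ c ∈ El8, a * b = c ∨ a * b = c * sigmaA) ∧
      (a⁻¹ * b = 1 ∨ a⁻¹ * b = sigmaA → a = b)) ∧
    (∀ a ∈ El8, (a * a = 1 ∨ a * a = sigmaA) ∧ a * sigmaA = sigmaA * a) ∧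
    El8.length = 8 ∧ El8.Nodup ∧
    fA ^ 4 = 1 ∧ fA ^ 2 ≠ 1 ∧ fA ^ 2 ≠ sigmaA := by decide +kernel

theorem small_five : ∀ y : Perm (Fin 5), y * y * y = 1 → y ≠ 1 → ∀ r : Perm (Fin 5), r * r = 1 →
    r * y * r = y⁻¹ → ∀ x : Perm (Fin 5), x * x = 1 → r * x = x * r →
    x * (y * x * y⁻¹) = (y * x * y⁻¹) * x → Perm.sign r = 1 → Perm.sign x = 1 → x = 1 := by
  decide +kernel

theorem small_three : ∀ x y r : Perm (Fin 3), y * y * y = 1 → y ≠ 1 → r * r = 1 → r * y * r = y⁻¹ →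
    x * x = 1 → r * x = x * r → x * (y * x * y⁻¹) = (y * x * y⁻¹) * x → x = 1 := by decide +kernel

theorem odd_five : ∀ r : Perm (Fin 5), r * r = 1 → r ≠ 1 → Perm.sign r = 1 → ∀ x : Perm (Fin 5),
    x * r = r * x → Perm.sign x = 1 → x ^ 15 = 1 → x = 1 := by decide +kernel

theorem odd_three : ∀ x r : Perm (Fin 3), x ^ 3 = 1 → r * r = 1 →
    r ≠ 1 → x * r = r * x → x = 1 := by decide +kernel

/-- The involutions: one class with fixed points, one without. -/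
theorem invol_cases (a : A8) (h2 : a * a = 1) (h1 : a ≠ 1) :
    (IsConj t1A a ∧ HasFix a) ∨ (IsConj sigmaA a ∧ ¬ HasFix a) := by
  have ha2 : (a : P8) ^ 2 = 1 := by rw [pow_two]; exact congrArg Subtype.val h2
  haveI : Fact (Nat.Prime 2) := ⟨Nat.prime_two⟩
  have hct := Perm.cycleType_of_pow_prime_eq_one ha2
  set m := (a : P8).cycleType.card with hm
  have hct' : (a : P8).cycleType = Multiset.replicate m 2 := hct
  have hsum : 2 * m ≤ 8 := by
    have := Perm.sum_cycleType_le (a : P8)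
    rw [hct', Multiset.sum_replicate, smul_eq_mul, Fintype.card_fin] at this
    omega
  have hev : Even m := by
    have hs : Perm.sign (a : P8) = 1 := Perm.mem_alternatingGroup.1 a.2
    rw [Perm.sign_of_cycleType, hct', Multiset.sum_replicate, Multiset.card_replicate, smul_eq_mul] at hs
    rw [show m * 2 + m = 3 * m by ring] at hs
    rcases Nat.even_or_odd m with h | h
    · exact h
    · rw [(Odd.mul (by decide : Odd 3) h).neg_one_pow] at hs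
      exact absurd hs (by decide)
  have hm0 : m ≠ 0 := fun e => h1 (Subtype.ext (Perm.cycleType_eq_zero.1 (by rw [hct', e]; rfl)))
  have key : ∀ b : A8, (b : P8).cycleType = (a : P8).cycleType → (∃ o : P8, Perm.sign o = -1 ∧
      o * b = b * o) → IsConj b a := by
    rintro b hb ⟨o, ho, hob⟩
    obtain ⟨c, hc⟩ := isConj_iff.1 (Perm.isConj_iff_cycleType_eq.2 hb)
    rcases Int.units_eq_one_or (Perm.sign c) with h | h
    · exact isConj_iff.2 ⟨⟨c, Perm.mem_alternatingGroup.2 h⟩, Subtype.ext hc⟩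
    · refine isConj_iff.2 ⟨⟨c * o, Perm.mem_alternatingGroup.2 (by rw [map_mul, h, ho]; rfl)⟩,
        Subtype.ext ?_⟩
      show c * o * (b : P8) * (c * o)⁻¹ = (a : P8)
      rw [← hc]
      calc c * o * (b : P8) * (c * o)⁻¹ = c * (o * b) * o⁻¹ * c⁻¹ := by group
        _ = c * (b * o) * o⁻¹ * c⁻¹ := by rw [hob]
        _ = _ := by group
  have fixconj : ∀ b : A8, IsConj b a → (HasFix b ↔ HasFix a) := by
    intro b hb
    obtain ⟨c, hc⟩ := isConj_iff.1 hb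
    rw [← hc]
    constructor
    · rintro ⟨i, hi⟩
      exact ⟨(c : P8) i, by simp [hi]⟩
    · rintro ⟨i, hi⟩
      exact ⟨(c : P8)⁻¹ i, by simpa [Perm.eq_inv_iff_eq] using congrArg ((c : P8)⁻¹ ·) hi⟩
  have ct : ∀ (b : P8) (k : ℕ), b ^ 2 = 1 → (Finset.univ.filter fun i => b i ≠ i).card = 2 * k →
      b.cycleType = Multiset.replicate k 2 := by
    intro b k hb hk
    have hc : b.cycleType = Multiset.replicate b.cycleType.card 2 := Perm.cycleType_of_pow_prime_eq_one hb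
    have h' := Perm.sum_cycleType b
    rw [hc, Multiset.sum_replicate, smul_eq_mul, show b.support = Finset.univ.filter fun i => b i ≠ i from
      rfl, hk] at h'
    rw [hc, show b.cycleType.card = k by omega]
  rcases (show m = 2 ∨ m = 4 by obtain ⟨k, hk⟩ := hev; omega) with e | e
  · have hc := key t1A (by
      rw [hct', e]; exact ct _ 2 (by decide +kernel) (by decide +kernel))
      ⟨swap 0 1, by decide +kernel, by decide +kernel⟩
    exact Or.inl ⟨hc, (fixconj _ hc).1 (by decide +kernel)⟩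
  · have hc := key sigmaA (by
      rw [hct', e]; exact ct _ 4 (by decide +kernel) (by decide +kernel))
      ⟨swap 0 5, by decide +kernel, by decide +kernel⟩
    exact Or.inr ⟨hc, fun h => (by decide +kernel : ¬ HasFix sigmaA) ((fixconj _ hc).2 h)⟩

theorem a'_t1 : IsConj t1A (iotaA a'K) := by
  obtain ⟨g, hg⟩ : ∃ g : K, g * v1 * g⁻¹ = a'K := by decide +kernel
  exact isConj_iff.2 ⟨iotaA g, by rw [t1A, ← map_inv, ← map_mul, ← map_mul, hg]⟩

end Cfsg.Agent.Lib.EightThree88.Model
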