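import Cfsg.Agent.Lib.EightThree88.Hom
import Cfsg.Agent.Lib.EightThree88.ModelEight
import Cfsg.Agent.Lib.ZStar.StronglyClosed
import Cfsg.Agent.Lib.Fusion.Thompson
import Cfsg.Agent.Lib.Coprime.Generation
import Cfsg.Agent.Lib.MixedPQ.Real
import Cfsg.Agent.Lib.KegelWielandt.Components
import Cfsg.Agent.S3331

/-!
# The centralisers of the involutions lie in the alternating group
-/

set_option autoImplicit false
set_option maxHeartbeats 800000

namespace Cfsg.Agent.Lib.EightThree88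

open Subgroup Model

universe u

theorem z2_sq : ∀ z : Multiplicative (ZMod 2), z * z = 1 := by decide
theorem z2_sq' : ∀ z : Multiplicative (ZMod 2), z ^ 2 = 1 := by decide
theorem z2_one_ne : Multiplicative.ofAdd (1 : ZMod 2) ≠ 1 := by decide
theorem z2_mul : ∀ x y : Multiplicative (ZMod 2), x ≠ 1 → y ≠ 1 → x * y = 1 := by decide

variable {G : Type u} [Group G] [Finite G] (E : Emb G)

namespace Emb

include E

theorem f_ne_one {a : A8} (ha : a ≠ 1) : E.f a ≠ 1 := fun h =>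
  ha (E.inj (h.trans (map_one _).symm))

theorem f_sq {a : A8} (ha : a * a = 1) : E.f a * E.f a = 1 := by rw [← map_mul, ha, map_one]

theorem f_conj (g a : A8) : E.f (g * a * g⁻¹) = E.f g * E.f a * (E.f g)⁻¹ := by
  rw [map_mul, map_mul, map_inv]

/-- The classes of involutions of the image are not fused in `G`. -/
theorem fix_of_conj {a b : A8} (ha : a * a = 1) (ha1 : a ≠ 1) (g : G)
    (h : g * E.f a * g⁻¹ = E.f b) : HasFix a ↔ HasFix b := by
  have hb : b * b = 1 := E.inj (by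
    rw [map_mul, ← h, map_one]
    calc g * E.f a * g⁻¹ * (g * E.f a * g⁻¹) = g * (E.f a * E.f a) * g⁻¹ := by group
      _ = 1 := by rw [E.f_sq ha]; group)
  have hb1 : b ≠ 1 := by
    rintro rfl
    rw [map_one, mul_inv_eq_one, mul_eq_left] at h
    exact E.f_ne_one ha1 h
  have key : ∀ x y : A8, IsConj t1A x → IsConj sigmaA y → ∀ g : G, g * E.f x * g⁻¹ ≠ E.f y := by
    intro x y hx hy g he
    obtain ⟨p, hp⟩ := isConj_iff.1 (a'_t1.symm.trans hx)
    obtain ⟨q, hq⟩ := isConj_iff.1 hy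
    rw [← hp, ← hq, E.f_conj, E.f_conj] at he
    refine E.not_conj ((E.f q)⁻¹ * g * E.f p) ?_
    calc (E.f q)⁻¹ * g * E.f p * E.f (iotaA a'K) * ((E.f q)⁻¹ * g * E.f p)⁻¹
        = (E.f q)⁻¹ * (g * (E.f p * E.f (iotaA a'K) * (E.f p)⁻¹) * g⁻¹) * E.f q := by group
      _ = _ := by rw [he]; group
  rcases invol_cases a ha ha1 with ⟨ca, fa⟩ | ⟨ca, fa⟩ <;>
    rcases invol_cases b hb hb1 with ⟨cb, fb⟩ | ⟨cb, fb⟩
  · exact iff_of_true fa fb
  · exact absurd h (key a b ca cb g)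
  · exfalso
    refine key b a cb ca g⁻¹ ?_
    rw [← h]; group
  · exact iff_of_false fa fb

/-- The centraliser of the four group. -/
theorem cent_four {g : G} (h1 : g * E.f t1A = E.f t1A * g) (h2 : g * E.f sA = E.f sA * g) :
    ∃ a ∈ Xl, g = E.f a := by
  obtain ⟨u, v, hu, hv, i, rfl⟩ := E.cv_mem g (by
    rw [mem_centralizer_iff]
    rintro x (rfl | rfl)
    · exact h1.symm
    · exact h2.symm)
  exact ⟨_, El_mem u v hu hv i, rfl⟩

/-- The image of a list of elements closed under the operations, as a subgroup. -/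
def listSub (L : List A8) (h1 : (1 : A8) ∈ L) (hm : ∀ a ∈ L, ∀ b ∈ L, a * b ∈ L)
    (hi : ∀ a ∈ L, a⁻¹ ∈ L) : Subgroup G :=
  (⟨⟨⟨{x | x ∈ L}, fun {a b} ha hb => hm a ha b hb⟩, h1⟩, fun {a} ha => hi a ha⟩ : Subgroup A8).map E.f

theorem mem_listSub {L : List A8} {h1 hm hi} {g : G} :
    g ∈ E.listSub L h1 hm hi ↔ ∃ a ∈ L, E.f a = g := Iff.rfl

theorem card_listSub {L : List A8} {h1 hm hi} (hn : L.Nodup) :
    Nat.card (E.listSub L h1 hm hi) = L.length := by
  classical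
  rw [listSub, Nat.card_congr (Subgroup.equivMapOfInjective _ _ E.inj).toEquiv.symm]
  rw [← List.toFinset_card_of_nodup hn, ← Fintype.card_coe, ← Nat.card_eq_fintype_card]
  exact Nat.card_congr (Equiv.subtypeEquivRight fun x => List.mem_toFinset.symm)

/-- The elementary abelian subgroup of order sixteen. -/
def EG : Subgroup G :=
  E.listSub El El_group.1 (fun a ha b hb => (El_group.2.1 a ha b hb).1)
    (fun a ha => (El_group.2.2 a ha).1.symm ▸ ha)

def SG : Subgroup G := E.listSub Sl Sl_group.1 Sl_group.2.1 Sl_group.2.2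

theorem mem_EG {g : G} : g ∈ E.EG ↔ ∃ a ∈ El, E.f a = g := Iff.rfl
theorem mem_SG {g : G} : g ∈ E.SG ↔ ∃ a ∈ Sl, E.f a = g := Iff.rfl

theorem card_EG : Nat.card E.EG = 16 := by rw [EG, E.card_listSub nodup_El.1, nodup_El.2]
theorem card_SG : Nat.card E.SG = 32 := by rw [SG, E.card_listSub nodup_Sl.1, nodup_Sl.2]

theorem EG_le : E.EG ≤ E.SG := by
  rintro g ⟨a, ha, rfl⟩
  exact ⟨a, El_Sl a ha, rfl⟩

/-- Elements centralising `t` and normalising the elementary abelian group. -/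
theorem normE {g : G} (h1 : g * E.f t1A = E.f t1A * g)
    (h2 : ∀ a ∈ El, ∃ b ∈ El, g * E.f a * g⁻¹ = E.f b) : ∃ b ∈ Kl, g = E.f b := by
  obtain ⟨ht, hs, -, -, -, -, -, -, -, -, -, -⟩ := mem_misc
  obtain ⟨x, hx, he⟩ := h2 sA hs
  have hgt : g * E.f t1A * g⁻¹ = E.f t1A := mul_inv_eq_iff_eq_mul.2 h1
  have hsA : sA * sA = 1 ∧ sA ≠ 1 ∧ sA ≠ t1A ∧ HasFix sA ∧ (t1A * sA) * (t1A * sA) = 1 ∧
      t1A * sA ≠ 1 ∧ HasFix (t1A * sA) := by decide +kernel
  have hfix1 : HasFix x := (E.fix_of_conj hsA.1 hsA.2.1 g he).1 hsA.2.2.2.1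
  have hfix2 : HasFix (t1A * x) :=
    (E.fix_of_conj hsA.2.2.2.2.1 hsA.2.2.2.2.2.1 g (by
      rw [map_mul, map_mul, ← he]
      conv_rhs => rw [← hgt]
      group)).1 hsA.2.2.2.2.2.2
  have hx1 : x ≠ 1 := by
    rintro rfl
    rw [map_one, mul_inv_eq_one, mul_eq_left] at he
    exact E.f_ne_one hsA.2.1 he
  have hxt : x ≠ t1A := by
    rintro rfl
    exact hsA.2.2.1 (E.inj (mul_left_cancel (mul_right_cancel (he.trans hgt.symm))))
  rcases pick_s x hx hx1 hxt hfix1 hfix2 with rfl | rfl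
  · obtain ⟨a, ha, rfl⟩ := E.cent_four h1 (mul_inv_eq_iff_eq_mul.1 he)
    exact ⟨a, (Xl_Kl a ha).1, rfl⟩
  · obtain ⟨hcs, hcs3, hct, hcinv, -⟩ := cA_facts
    obtain ⟨a, ha, hga⟩ := E.cent_four (g := E.f cA * g) (by
        rw [← mul_inv_eq_iff_eq_mul]
        calc E.f cA * g * E.f t1A * (E.f cA * g)⁻¹ = E.f cA * (g * E.f t1A * g⁻¹) * (E.f cA)⁻¹ := by group
          _ = _ := by rw [hgt, ← E.f_conj, hct]) (by
        rw [← mul_inv_eq_iff_eq_mul]
        calc E.f cA * g * E.f sA * (E.f cA * g)⁻¹ = E.f cA * (g * E.f sA * g⁻¹) * (E.f cA)⁻¹ := by group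
          _ = _ := by rw [he, ← E.f_conj, hcs3])
    refine ⟨cA * a, (Xl_Kl a ha).2, ?_⟩
    rw [map_mul, ← hga, ← mul_assoc, ← map_mul,
      show cA * cA = 1 from mem_misc.2.2.2.2.2.2.2.2.1, map_one, one_mul]

/-- A 2-subgroup of the centraliser of `t` containing `SG` equals it. -/
theorem eq_SG {Q : Subgroup G} (hQ : IsPGroup 2 Q) (hle : E.SG ≤ Q)
    (hQt : ∀ g ∈ Q, g * E.f t1A = E.f t1A * g) : Q = E.SG := by
  classical
  by_contra hne
  haveI : Fact (Nat.Prime 2) := ⟨Nat.prime_two⟩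
  haveI := hQ.isNilpotent
  have hlt : E.SG.subgroupOf Q < ⊤ :=
    lt_top_iff_ne_top.2 fun e => hne (le_antisymm (subgroupOf_eq_top.1 e) hle)
  obtain ⟨n, hn, hn'⟩ := SetLike.exists_of_lt (normalizerCondition_of_isNilpotent _ hlt)
  have hconj : ∀ a ∈ Sl, ∃ b ∈ Sl, (n : G) * E.f a * (n : G)⁻¹ = E.f b := by
    intro a ha
    have hm : E.f a ∈ E.SG := ⟨a, ha, rfl⟩
    obtain ⟨b, hb, e⟩ := mem_subgroupOf.1 ((mem_normalizer_iff.1 hn ⟨E.f a, hle hm⟩).1
      (mem_subgroupOf.2 hm))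
    exact ⟨b, hb, e.symm⟩
  have hEl : ∀ a ∈ El, ∃ b ∈ El, (n : G) * E.f a * (n : G)⁻¹ = E.f b := by
    intro a ha
    obtain ⟨b, hb, he⟩ := hconj a (El_Sl a ha)
    refine ⟨b, ?_, he⟩
    by_contra hbE
    obtain ⟨-, hcomm, hinv⟩ := El_group
    have hb2 : b * b = 1 := E.inj (by
      rw [map_mul, ← he, map_one]
      calc (n : G) * E.f a * (n : G)⁻¹ * ((n : G) * E.f a * (n : G)⁻¹)
          = (n : G) * (E.f a * E.f a) * (n : G)⁻¹ := by group
        _ = 1 := by rw [E.f_sq (hinv a ha).2]; group)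
    have hbig := El_big b hb hbE hb2
    let F : {x // x ∈ El} → {x // x ∈ Sl.filter fun c => decide (c * c = 1 ∧ c * b = b * c)} := fun x =>
      ⟨Classical.choose (hconj x.1 (El_Sl _ x.2)), by
        obtain ⟨h1, h2⟩ := Classical.choose_spec (hconj x.1 (El_Sl _ x.2))
        set c := Classical.choose (hconj x.1 (El_Sl _ x.2))
        refine List.mem_filter.2 ⟨h1, decide_eq_true ⟨E.inj ?_, E.inj ?_⟩⟩
        · rw [map_mul, ← h2, map_one]
          calc (n : G) * E.f x.1 * (n : G)⁻¹ * ((n : G) * E.f x.1 * (n : G)⁻¹)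
              = (n : G) * (E.f x.1 * E.f x.1) * (n : G)⁻¹ := by group
            _ = 1 := by rw [E.f_sq (hinv x.1 x.2).2]; group
        · rw [map_mul, map_mul, ← h2, ← he]
          calc (n : G) * E.f x.1 * (n : G)⁻¹ * ((n : G) * E.f a * (n : G)⁻¹)
              = (n : G) * E.f (x.1 * a) * (n : G)⁻¹ := by rw [map_mul]; group
            _ = _ := by rw [(hcomm x.1 x.2 a ha).2, map_mul]; group⟩
    have hF : Function.Injective F := by
      intro x y h
      have h' := congrArg Subtype.val h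
      have hx := (Classical.choose_spec (hconj x.1 (El_Sl _ x.2))).2
      have hy := (Classical.choose_spec (hconj y.1 (El_Sl _ y.2))).2
      simp only [F] at h'
      rw [h', ← hy] at hx
      exact Subtype.ext (E.inj (mul_left_cancel (mul_right_cancel hx)))
    have h16 : Nat.card {x // x ∈ El} = 16 := by
      rw [Nat.card_congr (Equiv.subtypeEquivRight fun x => List.mem_toFinset.symm),
        Nat.card_eq_fintype_card, Fintype.card_coe, List.toFinset_card_of_nodup nodup_El.1, nodup_El.2]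
    have hle' : Nat.card {x // x ∈ Sl.filter fun c => decide (c * c = 1 ∧ c * b = b * c)} ≤
        (Sl.filter fun c => decide (c * c = 1 ∧ c * b = b * c)).length := by
      rw [Nat.card_congr (Equiv.subtypeEquivRight fun x => List.mem_toFinset.symm),
        Nat.card_eq_fintype_card, Fintype.card_coe]
      exact List.toFinset_card_le _
    haveI : Finite {x // x ∈ Sl.filter fun c => decide (c * c = 1 ∧ c * b = b * c)} := Subtype.finite
    have := Nat.card_le_card_of_injective F hF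
    omega
  obtain ⟨b, hb, hnb⟩ := E.normE (hQt n n.2) hEl
  apply hn'
  refine mem_subgroupOf.2 ⟨b, ?_, hnb.symm⟩
  obtain ⟨h24, h8, -⟩ := Kl_facts b hb
  refine h8 ?_ ?_
  · obtain ⟨k, hk⟩ := IsPGroup.iff_orderOf.1 hQ n
    rw [← orderOf_coe, hnb, orderOf_injective E.f E.inj] at hk
    have h2 : 2 ^ k ∣ 8 * 3 := hk ▸ orderOf_dvd_of_pow_eq_one h24
    have hco : (2 ^ k).Coprime 3 := Nat.Coprime.pow_left k (by norm_num)
    exact orderOf_dvd_iff_pow_eq_one.1 (hk.symm ▸ hco.dvd_of_dvd_mul_right h2)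
  · intro x hx
    simp only [List.mem_singleton] at hx
    subst hx
    obtain ⟨c, hc, he⟩ := hconj cA mem_misc.2.2.2.2.2.2.1
    rw [hnb, ← E.f_conj] at he
    rw [E.inj he]; exact hc

/-- No involution outside is fused in `C(t)` into the elementary abelian group. -/
theorem not_fused {v x : A8} (hv : v ∈ Sl) (hvE : v ∉ El) (hv2 : v * v = 1) (hx : x ∈ El)
    {n : G} (hn : n * E.f t1A = E.f t1A * n) : n * E.f v * n⁻¹ ≠ E.f x := by
  intro he
  obtain ⟨hfv, hftv, w, hw, hwv, hfw, hw1, hfvw, hftw⟩ := Sl_outer v hv hvE hv2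
  obtain ⟨ht1, -, -, -, -, -, -, -, -, -, -, -⟩ := mem_misc
  obtain ⟨-, hcomm, hinv⟩ := El_group
  have hnt : n * E.f t1A * n⁻¹ = E.f t1A := mul_inv_eq_iff_eq_mul.2 hn
  have hv1 : v ≠ 1 := fun e => hvE (e ▸ El_group.1)
  have hvt : v * t1A = t1A * v := Sl_comm_t1 v hv
  have hx1 : x ≠ 1 := by
    rintro rfl
    rw [map_one, mul_inv_eq_one, mul_eq_left] at he
    exact E.f_ne_one hv1 he
  have hxt : x ≠ t1A := fun e => by
    have : v = t1A := E.inj (mul_left_cancel (mul_right_cancel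
      ((he.trans (congrArg E.f e)).trans hnt.symm)))
    exact hvE (this.symm ▸ ht1)
  have hfx : HasFix x := (E.fix_of_conj hv2 hv1 n he).1 hfv
  have ht2 : t1A * t1A = 1 := (hinv _ ht1).2
  have htv2 : (t1A * v) * (t1A * v) = 1 := by
    calc (t1A * v) * (t1A * v) = t1A * (v * t1A) * v := by group
      _ = t1A * t1A * (v * v) := by rw [hvt]; group
      _ = 1 := by rw [ht2, hv2]; group
  have hftx : HasFix (t1A * x) := by
    refine (E.fix_of_conj htv2 ?_ n ?_).1 hftv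
    · intro e
      exact hvE ((eq_inv_of_mul_eq_one_right e).symm ▸ (hinv _ ht1).1.symm ▸ ht1)
    · rw [map_mul, map_mul, ← he]
      conv_rhs => rw [← hnt]
      group
  have hxs := pick_s x hx hx1 hxt hfx hftx
  have hwt : w * t1A = t1A * w := (hcomm w hw t1A ht1).2
  -- the partner of `v` moves into the centraliser of the four group
  have e1 : n * E.f w * n⁻¹ * E.f t1A = E.f t1A * (n * E.f w * n⁻¹) := by
    conv_lhs => rw [← hnt]
    conv_rhs => rw [← hnt]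
    calc n * E.f w * n⁻¹ * (n * E.f t1A * n⁻¹) = n * E.f (w * t1A) * n⁻¹ := by rw [map_mul]; group
      _ = _ := by rw [hwt, map_mul]; group
  have e2 : n * E.f w * n⁻¹ * E.f x = E.f x * (n * E.f w * n⁻¹) := by
    rw [← he]
    calc n * E.f w * n⁻¹ * (n * E.f v * n⁻¹) = n * E.f (w * v) * n⁻¹ := by rw [map_mul]; group
      _ = _ := by rw [hwv, map_mul]; group
  have e3 : n * E.f w * n⁻¹ * E.f sA = E.f sA * (n * E.f w * n⁻¹) := by
    rcases hxs with rfl | rfl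
    · exact e2
    · have hs3 : sA = t1A * s3A := by decide +kernel
      rw [hs3, map_mul]
      exact ((show Commute _ _ from e1).mul_right e2).eq
  obtain ⟨y, hy, hye⟩ := E.cent_four e1 e3
  have hw2 := (hinv w hw).2
  have hy2 : y * y = 1 := E.inj (by
    rw [map_mul, ← hye, map_one]
    calc n * E.f w * n⁻¹ * (n * E.f w * n⁻¹) = n * (E.f w * E.f w) * n⁻¹ := by group
      _ = 1 := by rw [E.f_sq hw2]; group)
  have hyE : y ∈ El := (Xl_facts y hy).1 hy2
  have hy1 : y ≠ 1 := by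
    rintro rfl
    rw [map_one, mul_inv_eq_one, mul_eq_left] at hye
    exact E.f_ne_one hw1 hye
  have hvw2 : (v * w) * (v * w) = 1 := by
    calc (v * w) * (v * w) = v * (w * v) * w := by group
      _ = (v * v) * (w * w) := by rw [hwv]; group
      _ = 1 := by rw [hv2, hw2]; group
  have hvw1 : v * w ≠ 1 := fun e =>
    hvE ((eq_inv_of_mul_eq_one_left e).symm ▸ (hinv w hw).1.symm ▸ hw)
  have htw2 : (t1A * w) * (t1A * w) = 1 := (hinv _ (hcomm _ ht1 _ hw).1).2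
  refine no_pick y hyE x (by simp only [List.mem_cons, List.not_mem_nil, or_false]; exact hxs) hy1
    ((E.fix_of_conj hw2 hw1 n hye).1 hfw) ?_ ?_
  · by_cases htw : t1A * w = 1
    · exfalso
      exact hftw (htw ▸ ⟨0, rfl⟩)
    · intro hf
      refine hftw ((E.fix_of_conj htw2 htw n ?_).2 hf)
      rw [map_mul, map_mul, ← hye]
      conv_rhs => rw [← hnt]
      group
  · refine (E.fix_of_conj hvw2 hvw1 n ?_).1 hfvw
    rw [map_mul, map_mul, ← he, ← hye]; group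

/-- The elements of odd order centralising `t` lie in a subgroup in which `s` is isolated. -/
theorem exists_half : ∃ K2 : Subgroup G,
    (∀ g ∈ K2, g * E.f t1A = E.f t1A * g) ∧ E.EG ≤ K2 ∧ E.f cA ∉ K2 ∧
    (∀ g, g * E.f t1A = E.f t1A * g → Odd (orderOf g) → g ∈ K2) ∧
    ∀ g, g * E.f t1A = E.f t1A * g → g ∈ K2 ∨ g * E.f cA ∈ K2 := by
  classical
  haveI : Fact (Nat.Prime 2) := ⟨Nat.prime_two⟩
  set C := centralizer ({E.f t1A} : Set G)
  have memC : ∀ g, g ∈ C ↔ g * E.f t1A = E.f t1A * g := fun g => mem_centralizer_singleton_iff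
  have hSC : E.SG ≤ C := by
    rintro g ⟨a, ha, rfl⟩
    rw [memC, ← map_mul, ← map_mul, Sl_comm_t1 a ha]
  set H := E.SG.subgroupOf C with hH
  have hHc : Nat.card H = 32 := by
    rw [hH, Nat.card_congr (subgroupOfEquivOfLe hSC).toEquiv, E.card_SG]
  obtain ⟨P, hP⟩ := (IsPGroup.of_card (p := 2) (n := 5) (show Nat.card H = 2 ^ 5 by rw [hHc]; norm_num)).exists_le_sylow
  have hPH : (P : Subgroup C) = H := by
    have := E.eq_SG (Q := (P : Subgroup C).map C.subtype) (P.2.map _) (fun g hg =>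
      ⟨⟨g, hSC hg⟩, hP (mem_subgroupOf.2 hg), rfl⟩) (fun g hg => (memC g).1 (map_subtype_le _ hg))
    rw [hH, ← this, subgroupOf, comap_map_eq_self_of_injective (subtype_injective _)]
  have hodd : ¬ 2 ∣ H.index := hPH ▸ P.not_dvd_index
  let χ : H →* Multiplicative (ZMod 2) :=
    { toFun := fun x => if ((x : C) : G) ∈ E.EG then Multiplicative.ofAdd 0 else Multiplicative.ofAdd 1
      map_one' := by rw [if_pos (show ((((1 : H) : C) : G)) ∈ E.EG from one_mem _)]; rfl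
      map_mul' := fun x y => by
        obtain ⟨a, ha, hax⟩ := mem_subgroupOf.1 x.2
        obtain ⟨b, hb, hby⟩ := mem_subgroupOf.1 y.2
        have hmem : ∀ c : A8, E.f c ∈ E.EG ↔ c ∈ El := fun c =>
          ⟨fun ⟨d, hd, e⟩ => E.inj e ▸ hd, fun hc => ⟨c, hc, rfl⟩⟩
        have hxy : (((x * y : H) : C) : G) = E.f (a * b) := by rw [map_mul, hax, hby]; rfl
        rw [hxy, ← hax, ← hby]
        simp only [hmem, Sl_index a ha b hb]
        by_cases ha' : a ∈ El <;> by_cases hb' : b ∈ El <;> simp [ha', hb'] <;> exact (z2_sq _).symm }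
  set τ := MonoidHom.transfer χ with hτ
  have hmem : ∀ c : A8, E.f c ∈ E.EG ↔ c ∈ El := fun c =>
    ⟨fun ⟨d, hd, e⟩ => E.inj e ▸ hd, fun hc => ⟨c, hc, rfl⟩⟩
  have htr : ∀ (a : A8) (ha : a ∈ Sl), a * a = 1 →
      ∀ h : (⟨E.f a, hSC ⟨a, ha, rfl⟩⟩ : C) ∈ H,
        τ ⟨E.f a, hSC ⟨a, ha, rfl⟩⟩ = χ ⟨_, h⟩ ^ H.index := by
    intro a ha ha2 h
    set g : C := ⟨E.f a, hSC ⟨a, ha, rfl⟩⟩
    have hg2 : g ^ 2 = 1 := Subtype.ext (by
      show E.f a ^ 2 = 1
      rw [pow_two, E.f_sq ha2])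
    refine Cfsg.Agent.Lib.Fusion.Thompson.transfer_controlled χ g h fun m n hn => ?_
    rcases Nat.even_or_odd m with ⟨j, rfl⟩ | ⟨j, rfl⟩
    · have e : g ^ (j + j) = 1 := by rw [← two_mul, pow_mul, hg2, one_pow]
      have e' : χ ⟨g, h⟩ ^ (j + j) = 1 := by
        rw [← map_pow, show (⟨g, h⟩ : H) ^ (j + j) = 1 from Subtype.ext e, map_one]
      rw [e']
      have : (⟨n * g ^ (j + j) * n⁻¹, hn⟩ : H) = 1 := Subtype.ext (by
        show n * g ^ (j + j) * n⁻¹ = 1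
        rw [e]; group)
      rw [this, map_one]
    · have e : g ^ (2 * j + 1) = g := by rw [pow_succ, pow_mul, hg2, one_pow, one_mul]
      have e' : χ ⟨g, h⟩ ^ (2 * j + 1) = χ ⟨g, h⟩ := by
        rw [← map_pow, show (⟨g, h⟩ : H) ^ (2 * j + 1) = ⟨g, h⟩ from Subtype.ext e]
      rw [e']
      obtain ⟨b, hb, hbe⟩ := mem_subgroupOf.1 hn
      have hb' : (n : G) * E.f a * (n : G)⁻¹ = E.f b := by
        rw [hbe]; show _ = (n : G) * ((g ^ (2 * j + 1) : C) : G) * (n : G)⁻¹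
        rw [e]
      show (if _ ∈ E.EG then _ else _) = (if _ ∈ E.EG then _ else _)
      have h1 : ((n * g ^ (2 * j + 1) * n⁻¹ : C) : G) = E.f b := hbe.symm
      rw [h1, show ((g : C) : G) = E.f a from rfl]
      simp only [hmem]
      have hb2 : b * b = 1 := E.inj (by
        rw [map_mul, ← hb', map_one]
        calc (n : G) * E.f a * (n : G)⁻¹ * ((n : G) * E.f a * (n : G)⁻¹)
            = (n : G) * (E.f a * E.f a) * (n : G)⁻¹ := by group
          _ = 1 := by rw [E.f_sq ha2]; group)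
      have hnt := (memC _).1 n.2
      by_cases haE : a ∈ El <;> by_cases hbE : b ∈ El
      · rw [if_pos haE, if_pos hbE]
      · exfalso
        refine E.not_fused hb hbE hb2 haE (n := (n : G)⁻¹) ((show Commute (n : G) (E.f t1A) from hnt).inv_left.eq) ?_
        rw [← hb']; group
      · exact absurd hb' (E.not_fused ha haE ha2 hbE hnt)
      · rw [if_neg haE, if_neg hbE]
  refine ⟨(τ.ker).map C.subtype, fun g hg => (memC g).1 (map_subtype_le _ hg), ?_, ?_, ?_, ?_⟩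
  · rintro g ⟨a, ha, rfl⟩
    have ha' := El_Sl a ha
    refine ⟨⟨E.f a, hSC ⟨a, ha', rfl⟩⟩, ?_, rfl⟩
    show τ _ = 1
    rw [htr a ha' (El_group.2.2 a ha).2 (mem_subgroupOf.2 ⟨a, ha', rfl⟩)]
    show (if E.f a ∈ E.EG then _ else _) ^ H.index = 1
    rw [if_pos ⟨a, ha, rfl⟩]
    exact one_pow _
  · obtain ⟨-, -, -, -, -, -, hc, hcE, hc2, -⟩ := mem_misc
    rintro ⟨x, hx, hxe⟩
    have hxc : x = ⟨E.f cA, hSC ⟨cA, hc, rfl⟩⟩ := Subtype.ext hxe
    have hx' : τ x = 1 := hx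
    rw [hxc, htr cA hc hc2 (mem_subgroupOf.2 ⟨cA, hc, rfl⟩)] at hx'
    have hv : χ ⟨⟨E.f cA, hSC ⟨cA, hc, rfl⟩⟩, mem_subgroupOf.2 ⟨cA, hc, rfl⟩⟩ = Multiplicative.ofAdd 1 :=
      if_neg fun h => hcE ((hmem _).1 h)
    rw [hv] at hx'
    have h2 : orderOf (Multiplicative.ofAdd (1 : ZMod 2)) = 2 :=
      orderOf_eq_prime (z2_sq' _) z2_one_ne
    exact hodd (h2 ▸ orderOf_dvd_of_pow_eq_one hx')
  · intro g hg ho
    refine ⟨⟨g, (memC g).2 hg⟩, ?_, rfl⟩
    have h1 := orderOf_map_dvd τ ⟨g, (memC g).2 hg⟩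
    rw [Subgroup.orderOf_mk] at h1
    have h2 : orderOf (τ ⟨g, (memC g).2 hg⟩) ∣ 2 :=
      orderOf_dvd_of_pow_eq_one (z2_sq' _)
    exact orderOf_eq_one_iff.1 (Nat.eq_one_of_dvd_coprimes (Nat.coprime_two_right.2 ho) h1 h2)
  · intro g hg
    have hc := mem_misc.2.2.2.2.2.2.1
    by_cases h : τ ⟨g, (memC g).2 hg⟩ = 1
    · exact Or.inl ⟨⟨g, _⟩, h, rfl⟩
    · refine Or.inr ⟨⟨g, (memC g).2 hg⟩ * ⟨E.f cA, hSC ⟨cA, hc, rfl⟩⟩, ?_, rfl⟩
      show τ _ = 1
      have hne : τ ⟨E.f cA, hSC ⟨cA, hc, rfl⟩⟩ ≠ 1 := by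
        rw [htr cA hc mem_misc.2.2.2.2.2.2.2.2.1 (mem_subgroupOf.2 ⟨cA, hc, rfl⟩)]
        rw [show χ ⟨⟨E.f cA, hSC ⟨cA, hc, rfl⟩⟩, mem_subgroupOf.2 ⟨cA, hc, rfl⟩⟩ = Multiplicative.ofAdd 1
          from if_neg fun h => mem_misc.2.2.2.2.2.2.2.1 ((hmem _).1 h)]
        intro e
        have h2 : orderOf (Multiplicative.ofAdd (1 : ZMod 2)) = 2 :=
          orderOf_eq_prime (z2_sq' _) z2_one_ne
        exact hodd (h2 ▸ orderOf_dvd_of_pow_eq_one e)
      rw [map_mul]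
      exact z2_mul _ _ h hne

/-- An odd order subgroup of `C(t)` normalised by `E` is inverted by `s`. -/
theorem inverted {A : Subgroup G} (hA : Odd (Nat.card A))
    (hAt : ∀ a ∈ A, a * E.f t1A = E.f t1A * a)
    (hAE : ∀ e ∈ El, ∀ a ∈ A, E.f e * a * (E.f e)⁻¹ ∈ A) :
    ∀ a ∈ A, E.f sA * a * (E.f sA)⁻¹ = a⁻¹ ∧ E.f s3A * a * (E.f s3A)⁻¹ = a⁻¹ := by
  obtain ⟨-, hs, hs3, -⟩ := mem_misc
  have fix : ∀ a ∈ A, a * E.f sA = E.f sA * a → a = 1 := by
    intro a ha hc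
    obtain ⟨b, hb, rfl⟩ := E.cent_four (hAt a ha) hc
    obtain ⟨-, -, -, -, h6, hq, hqE⟩ := Xl_facts b hb
    have ho : Odd (orderOf b) := by
      rw [← orderOf_injective E.f E.inj]
      exact hA.of_dvd_nat (A.orderOf_dvd_natCard ha)
    have h3 : b ^ 3 = 1 := orderOf_dvd_iff_pow_eq_one.1
      ((Nat.coprime_two_right.2 ho).dvd_of_dvd_mul_right
        (show orderOf b ∣ 3 * 2 from orderOf_dvd_of_pow_eq_one h6))
    by_contra h1
    obtain ⟨q, hqm, hne⟩ := hq h3 (fun e => h1 (by rw [e, map_one]))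
    apply hne
    have hm : E.f (b * q * b⁻¹ * q⁻¹) ∈ A := by
      have hinv := hAE q hqm _ (inv_mem ha)
      have := mul_mem ha hinv
      rw [map_mul, map_mul, map_mul, map_inv, map_inv]
      convert this using 1
      group
    by_contra hne'
    have ho2 : Odd (orderOf (b * q * b⁻¹ * q⁻¹)) := by
      rw [← orderOf_injective E.f E.inj]
      exact hA.of_dvd_nat (A.orderOf_dvd_natCard hm)
    have h2 : orderOf (b * q * b⁻¹ * q⁻¹) ∣ 2 :=
      orderOf_dvd_of_pow_eq_one (by rw [pow_two]; exact (El_group.2.2 _ (hqE q hqm)).2)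
    exact hne' (orderOf_eq_one_iff.1 (Nat.eq_one_of_dvd_coprimes (Nat.coprime_two_right.2 ho2) dvd_rfl h2))
  have hs2 := E.f_sq (El_group.2.2 _ hs).2
  have hinvs : ∀ a ∈ A, E.f sA * a * (E.f sA)⁻¹ = a⁻¹ := fun a ha =>
    Cfsg.Agent.Lib.MixedPQ.inverts_of_fpf hs2 (hAE sA hs) (fun c hc hcc => fix c hc hcc.eq) ha
  intro a ha
  refine ⟨hinvs a ha, ?_⟩
  rw [show s3A = sA * t1A by decide +kernel, map_mul,
    show E.f sA * E.f t1A * a * (E.f sA * E.f t1A)⁻¹ = E.f sA * (E.f t1A * a * (E.f t1A)⁻¹) * (E.f sA)⁻¹ by group,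
    ← hAt a ha, mul_inv_cancel_right, hinvs a ha]

end Emb

end Cfsg.Agent.Lib.EightThree88
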