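import Cfsg.Agent.Lib.EightThree88.Central
import Cfsg.Agent.Lib.ZStar.Elements
import Cfsg.Agent.S0494

/-!
# The centraliser of a fixed point free involution, and the end of the recognition
-/

set_option autoImplicit false
set_option maxHeartbeats 800000

namespace Cfsg.Agent.Lib.EightThree88

open Subgroup Model

universe u

variable {G : Type u} [Group G] [Finite G] (E : Emb G)

namespace Emb

include E

/-- A normal nilpotent subgroup of the centraliser of `sigma`. -/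
theorem cent_sigma : ∃ N : Subgroup G, Group.IsNilpotent N ∧
    (∀ n ∈ N, n * E.f sigmaA = E.f sigmaA * n) ∧
    (∀ g, g * E.f sigmaA = E.f sigmaA * g → ∀ n ∈ N, g * n * g⁻¹ ∈ N) ∧ E.f s0A ∈ N ∧
    ∀ a, a * E.f sigmaA = E.f sigmaA * a → a * E.f rA = E.f rA * a → Odd (orderOf a) → a ∈ N := by
  classical
  haveI : Fact (Nat.Prime 2) := ⟨Nat.prime_two⟩
  obtain ⟨hy3, hy1, hyσne, hyσ, hσ2, hσ1, -, hs0, hs1, hr, hq, hf, hr2, hry, hs02, hrs0, hsys, -, -⟩ :=
    sigma_facts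
  set y : A8 := iotaA (zK * wK) with hydef
  set C := centralizer ({E.f sigmaA} : Set G)
  have memC : ∀ g, g ∈ C ↔ g * E.f sigmaA = E.f sigmaA * g := fun g => mem_centralizer_singleton_iff
  let v : C := ⟨E.f sigmaA, (memC _).2 rfl⟩
  set Z : Subgroup C := zpowers v with hZdef
  have hZc : Z ≤ center C := zpowers_le.2 (mem_center_iff.2 fun g => Subtype.ext ((memC _).1 g.2))
  haveI : Z.Normal := ⟨fun n hn g => by
    rw [mem_center_iff.1 (hZc hn) g, mul_inv_cancel_right]; exact hn⟩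
  have hv2 : v * v = 1 := Subtype.ext (E.f_sq hσ2)
  have hZmem : ∀ x ∈ Z, (x : G) = 1 ∨ (x : G) = E.f sigmaA := by
    intro x hx
    obtain ⟨i, rfl⟩ := mem_zpowers_iff.1 hx
    rcases Int.emod_two_eq_zero_or_one i with e | e <;>
      rw [← Int.mul_ediv_add_emod i 2, zpow_add, zpow_mul, zpow_two, hv2, one_zpow, one_mul, e]
    · exact Or.inl (by rw [zpow_zero]; rfl)
    · exact Or.inr (by rw [zpow_one])
  let q : C →* C ⧸ Z := QuotientGroup.mk' Z
  set CA := centralizer ({sigmaA} : Set A8)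
  have mk : ∀ {b : A8}, b * sigmaA = sigmaA * b → b ∈ CA := fun h => mem_centralizer_singleton_iff.2 h
  let φ : CA →* C := (E.f.comp CA.subtype).codRestrict C fun b => by
    rw [memC]
    show E.f b * E.f sigmaA = E.f sigmaA * E.f b
    rw [← map_mul, ← map_mul, (mem_centralizer_singleton_iff.1 b.2)]
  let θ : CA →* C ⧸ Z := q.comp φ
  have hker : ∀ b : CA, θ b = 1 → (b : A8) = 1 ∨ (b : A8) = sigmaA := by
    intro b hb
    rcases hZmem _ ((QuotientGroup.eq_one_iff (φ b)).1 hb) with h | h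
    · exact Or.inl (E.inj (h.trans (map_one _).symm))
    · exact Or.inr (E.inj h)
  let y' : CA := ⟨y, mk hyσ⟩
  let r' : CA := ⟨rA, mk hr⟩
  let s' : CA := ⟨s0A, mk hs0⟩
  have hy'3 : y' ^ 3 = 1 := Subtype.ext hy3
  have hθy : θ y' ≠ 1 := fun e => (hker y' e).elim hy1 hyσne
  have hs : Cfsg.Agent.Lib.Spectrum.SelfThree.SC (θ y') := by
    refine ⟨?_, ?_⟩
    · haveI : Fact (Nat.Prime 3) := ⟨Nat.prime_three⟩
      exact orderOf_eq_prime (by rw [← map_pow, hy'3, map_one]) hθy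
    intro w hw
    obtain ⟨g, rfl⟩ := QuotientGroup.mk'_surjective Z w
    change q g * q (φ y') = q (φ y') * q g at hw
    rw [← map_mul, ← map_mul] at hw
    have hgy : (g : G) * E.f y = E.f y * g := by
      rcases hZmem _ (QuotientGroup.eq.1 hw) with h | h
      · change ((g : G) * E.f y)⁻¹ * (E.f y * g) = 1 at h
        exact inv_mul_eq_one.1 h
      · exfalso
        change ((g : G) * E.f y)⁻¹ * (E.f y * g) = E.f sigmaA at h
        rw [inv_mul_eq_iff_eq_mul] at h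
        have h2 : (g : G)⁻¹ * E.f y * g = E.f y * E.f sigmaA := by
          rw [mul_assoc, h]; group
        have hc : Commute (E.f y) (E.f sigmaA) := by
          show _ = _
          rw [← map_mul, ← map_mul, hyσ]
        have h3 : ((g : G)⁻¹ * E.f y * g) ^ 3 = 1 := by
          have : ((g : G)⁻¹ * E.f y * g) ^ 3 = (g : G)⁻¹ * E.f y ^ 3 * g := by
            simp only [pow_succ, pow_zero, one_mul]; group
          rw [this, ← map_pow, hy3, map_one]; group
        rw [h2, hc.mul_pow, ← map_pow, hy3, map_one, one_mul, pow_succ, pow_two, E.f_sq hσ2, one_mul] at h3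
        exact E.f_ne_one hσ1 h3
    obtain ⟨d, hd, hg⟩ := E.cw g (mem_centralizer_singleton_iff.2 hgy)
    obtain ⟨b, hbm, hgb⟩ : ∃ b ∈ [iotaA d, sigmaA * iotaA d], (g : G) = E.f b := by
      rcases hg with h | h
      · exact ⟨_, by simp, h⟩
      · exact ⟨_, by simp, h⟩
    have hbσ : b * sigmaA = sigmaA * b := E.inj (by
      rw [map_mul, map_mul, ← hgb]; exact (memC _).1 g.2)
    have hgq : q g = θ ⟨b, mk hbσ⟩ := congrArg q (Subtype.ext hgb)
    change q g ∈ _
    rw [hgq]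
    have hσZ : ∀ (c : CA), (c : A8) = sigmaA → θ c = 1 := fun c hc =>
      (QuotientGroup.eq_one_iff _).2 (by
        rw [show φ c = v from Subtype.ext (congrArg E.f hc)]
        exact mem_zpowers v)
    let σ' : CA := ⟨sigmaA, mk rfl⟩
    rcases cent_y d hd b hbm hbσ with h | h | h | h | h | h
    · rw [show (⟨b, mk hbσ⟩ : CA) = 1 from Subtype.ext h, map_one]; exact one_mem _
    · rw [show (⟨b, mk hbσ⟩ : CA) = y' from Subtype.ext h]; exact mem_zpowers _
    · rw [show (⟨b, mk hbσ⟩ : CA) = y'⁻¹ from Subtype.ext h, map_inv]; exact inv_mem (mem_zpowers _)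
    · rw [hσZ ⟨b, mk hbσ⟩ h]; exact one_mem _
    · rw [show (⟨b, mk hbσ⟩ : CA) = y' * σ' from Subtype.ext h, map_mul, hσZ σ' rfl, mul_one]
      exact mem_zpowers _
    · rw [show (⟨b, mk hbσ⟩ : CA) = y'⁻¹ * σ' from Subtype.ext h, map_mul, hσZ σ' rfl, mul_one, map_inv]
      exact inv_mem (mem_zpowers _)
  have ey : y' * y' * y' = 1 := by rw [← pow_two, ← pow_succ, hy'3]
  have er : r' * r' = 1 := Subtype.ext hr2
  have ery : r' * y' * r' = y'⁻¹ := Subtype.ext hry
  have es : s' * s' = 1 := Subtype.ext hs02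
  have ers : r' * s' = s' * r' := Subtype.ext hrs0
  have esys : s' * (y' * s' * y'⁻¹) = (y' * s' * y'⁻¹) * s' := Subtype.ext hsys
  -- a nilpotent normal subgroup of the quotient suffices
  have finish : ∀ N0 : Subgroup (C ⧸ Z), N0.Normal → Group.IsNilpotent N0 → θ s' ∈ N0 →
      (∀ a : C, (a : G) * E.f rA = E.f rA * a → Odd (orderOf a) → q a ∈ N0) →
      ∃ N : Subgroup G, Group.IsNilpotent N ∧
        (∀ n ∈ N, n * E.f sigmaA = E.f sigmaA * n) ∧
        (∀ g, g * E.f sigmaA = E.f sigmaA * g → ∀ n ∈ N, g * n * g⁻¹ ∈ N) ∧ E.f s0A ∈ N ∧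
        ∀ a, a * E.f sigmaA = E.f sigmaA * a → a * E.f rA = E.f rA * a → Odd (orderOf a) → a ∈ N := by
    intro N0 hn hnil hs' ha
    haveI := hn
    haveI := hnil
    haveI : Group.IsNilpotent (N0.comap q) := _root_.isNilpotent_of_ker_le_center (q.subgroupComap N0) (by
      intro x hx
      have hxZ : (x : C) ∈ Z := (QuotientGroup.eq_one_iff _).1 (congrArg Subtype.val hx)
      exact mem_center_iff.2 fun g => Subtype.ext (mem_center_iff.1 (hZc hxZ) g))
    refine ⟨(N0.comap q).map C.subtype,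
      Group.nilpotent_of_mulEquiv (Subgroup.equivMapOfInjective _ C.subtype (subtype_injective C)),
      fun n hn => (memC n).1 (map_subtype_le _ hn), ?_, ⟨φ s', hs', rfl⟩, ?_⟩
    · rintro g hg n ⟨m, hm, rfl⟩
      exact ⟨⟨g, (memC g).2 hg⟩ * m * ⟨g, (memC g).2 hg⟩⁻¹,
        (Subgroup.Normal.comap hn q).conj_mem m hm _, rfl⟩
    · intro a h1 h2 h3
      exact ⟨⟨a, (memC a).2 h1⟩, ha ⟨a, (memC a).2 h1⟩ h2 (by rwa [Subgroup.orderOf_mk]), rfl⟩
  have imgs : ∀ {P : Type u} [Group P] (π : C ⧸ Z →* P), π (θ y') ≠ 1 →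
      π (θ r') ≠ 1 ∧ (∀ a : C, (a : G) * E.f rA = E.f rA * a →
        π (q a) * π (θ r') = π (θ r') * π (q a)) := by
    intro P _ π hY
    refine ⟨fun e => hY ?_, fun a ha => ?_⟩
    · have h1 := congrArg (fun x => π (θ x)) ery
      simp only [map_mul, map_inv, e, one_mul, mul_one] at h1
      have h2 := congrArg (fun x => π (θ x)) ey
      simp only [map_mul, map_one] at h2
      generalize π (θ y') = Y at h1 h2
      have h3 : Y * Y = 1 := mul_eq_one_iff_eq_inv.2 h1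
      rwa [h3, one_mul] at h2
    · rw [← map_mul, ← map_mul]
      exact congrArg π ((map_mul q _ _).symm.trans
        ((congrArg q (show a * φ r' = φ r' * a from Subtype.ext ha)).trans (map_mul q _ _)))
  have oddpow : ∀ {P : Type u} [Group P] [Finite P] (F : C →* P) (m k : ℕ), Nat.card P = m * 2 ^ k →
      ∀ a : C, Odd (orderOf a) → F a ^ m = 1 := by
    intro P _ _ F m k hP a ha
    refine orderOf_dvd_iff_pow_eq_one.1 (Nat.Coprime.dvd_of_dvd_mul_right ?_ (hP ▸ _root_.orderOf_dvd_natCard (F a)))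
    exact Nat.Coprime.pow_right _ (Nat.coprime_two_right.2 (ha.of_dvd_nat (orderOf_map_dvd F a)))
  rcases Cfsg.Agent.Lib.Spectrum.SelfThree.shape hs with
    ⟨N0, hN, hN3, hidx⟩ | ⟨N0, hN, hexp, h60, hsimp⟩ | ⟨h168, hsimp⟩
  · haveI := hN
    let π : C ⧸ Z →* (C ⧸ Z) ⧸ N0 := QuotientGroup.mk' N0
    have hsq := hs.quotient hN3
    have hπy : π (θ y') ≠ 1 := hsq.ne_one
    obtain ⟨hR, hcomm⟩ := imgs π hπy
    rcases hidx with h3 | h6
    · exfalso
      refine hR ?_
      have e2 : π (θ r') * π (θ r') = 1 := by rw [← map_mul, ← map_mul, er, map_one, map_one]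
      have e3 : π (θ r') ^ 3 = 1 := h3 ▸ pow_card_eq_one'
      rwa [pow_succ, pow_two, e2, one_mul] at e3
    · obtain ⟨e⟩ := Cfsg.Agent.S3331.iso_perm_three hsq h6
      have hinj : ∀ w, e (π w) = 1 → w ∈ N0 := fun w hw => by
        rw [← QuotientGroup.eq_one_iff]
        exact e.injective (hw.trans (map_one e).symm)
      have hR' : e (π (θ r')) ≠ 1 := fun h => hR (e.injective (h.trans (map_one e).symm))
      refine finish N0 hN (Cfsg.Agent.Lib.Spectrum.SelfThree.Inv.isNilpotent hs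
        ⟨hN3, by rw [normalizer_eq_top]; exact mem_top _⟩) (hinj _ ?_) fun a ha ho => hinj _ ?_
      · refine small_three (e (π (θ s'))) (e (π (θ y'))) (e (π (θ r'))) ?_ ?_ ?_ ?_ ?_ ?_ ?_
        · rw [← map_mul e, ← map_mul e, ← map_mul π, ← map_mul π, ← map_mul θ, ← map_mul θ, ey]; simp
        · exact fun h => hπy (e.injective (h.trans (map_one e).symm))
        · rw [← map_mul e, ← map_mul π, ← map_mul θ, er]; simp
        · rw [← map_mul e, ← map_mul e, ← map_mul π, ← map_mul π, ← map_mul θ, ← map_mul θ, ery]; simp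
        · rw [← map_mul e, ← map_mul π, ← map_mul θ, es]; simp
        · rw [← map_mul e, ← map_mul e, ← map_mul π, ← map_mul π, ← map_mul θ, ← map_mul θ, ers]
        · have h := congrArg (fun x => e (π (θ x))) esys
          simpa only [map_mul, map_inv] using h
      · have h := oddpow (π.comp q) 3 1 (by show N0.index = 3 * 2 ^ 1; rw [h6]; norm_num) a ho
        refine odd_three (e (π (q a))) (e (π (θ r'))) ?_ ?_ hR' ?_
        · rw [← map_pow]; exact (congrArg e h).trans (map_one e)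
        · rw [← map_mul e, ← map_mul π, ← map_mul θ, er]; simp
        · rw [← map_mul e, ← map_mul e]; exact congrArg e (hcomm a ha)
  · haveI := hN
    haveI := hsimp
    obtain ⟨e⟩ := Cfsg.Agent.S0494.result h60
    have hY0 : θ y' ∉ N0 := by
      intro hm
      have h2 := hexp _ hm
      have h3 := hs.pow_three
      rw [pow_succ, h2, one_mul] at h3
      exact hθy h3
    let π : C ⧸ Z →* (C ⧸ Z) ⧸ N0 := QuotientGroup.mk' N0
    have hπy : π (θ y') ≠ 1 := fun h => hY0 ((QuotientGroup.eq_one_iff _).1 h)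
    obtain ⟨hR, hcomm⟩ := imgs π hπy
    let F : (C ⧸ Z) ⧸ N0 →* Equiv.Perm (Fin 5) := (alternatingGroup (Fin 5)).subtype.comp e.toMonoidHom
    have hFinj : Function.Injective F := Subtype.coe_injective.comp e.injective
    have hinj : ∀ w, F (π w) = 1 → w ∈ N0 := fun w hw => by
      rw [← QuotientGroup.eq_one_iff]
      exact hFinj (hw.trans (map_one F).symm)
    have hsign : ∀ w, Equiv.Perm.sign (F w) = 1 := fun w => Equiv.Perm.mem_alternatingGroup.1 (e w).2
    have hR' : F (π (θ r')) ≠ 1 := fun h => hR (hFinj (h.trans (map_one F).symm))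
    refine finish N0 hN ((IsPGroup.isNilpotent (p := 2)
      (fun n => ⟨1, Subtype.ext (by simpa using hexp n.1 n.2)⟩))) (hinj _ ?_) fun a ha ho => hinj _ ?_
    · refine small_five (F (π (θ y'))) ?_ ?_ (F (π (θ r'))) ?_ ?_ (F (π (θ s'))) ?_ ?_ ?_ (hsign _) (hsign _)
      · rw [← map_mul F, ← map_mul F, ← map_mul π, ← map_mul π, ← map_mul θ, ← map_mul θ, ey]; simp
      · exact fun h => hπy (hFinj (h.trans (map_one F).symm))
      · rw [← map_mul F, ← map_mul π, ← map_mul θ, er]; simp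
      · rw [← map_mul F, ← map_mul F, ← map_mul π, ← map_mul π, ← map_mul θ, ← map_mul θ, ery]; simp
      · rw [← map_mul F, ← map_mul π, ← map_mul θ, es]; simp
      · rw [← map_mul F, ← map_mul F, ← map_mul π, ← map_mul π, ← map_mul θ, ← map_mul θ, ers]
      · have h := congrArg (fun x => F (π (θ x))) esys
        simpa only [map_mul, map_inv] using h
    · have h := oddpow (π.comp q) 15 2 (by simpa using h60) a ho
      refine odd_five (F (π (θ r'))) ?_ hR' (hsign _) (F (π (q a))) ?_ (hsign _) ?_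
      · rw [← map_mul F, ← map_mul π, ← map_mul θ, er]; simp
      · rw [← map_mul F, ← map_mul F]; exact congrArg F (hcomm a ha)
      · rw [← map_pow]; exact (congrArg F h).trans (map_one F)
  · exfalso
    obtain ⟨hpairs, hsq, hlen, hnd, hf4, hf2, hf2σ⟩ := El8_facts
    have h1 : (1 : A8) ∈ El8 := by simp [El8]
    have hmemCA : ∀ b ∈ El8, b ∈ CA := fun b hb => mk (hsq b hb).2
    have hσZ : ∀ (c : CA), (c : A8) = sigmaA → θ c = 1 := fun c hc =>
      (QuotientGroup.eq_one_iff _).2 (by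
        rw [show φ c = v from Subtype.ext (congrArg E.f hc)]
        exact mem_zpowers v)
    let T : {b // b ∈ El8} → C ⧸ Z := fun b => θ ⟨b.1, hmemCA _ b.2⟩
    have Tsq : ∀ b, T b * T b = 1 := by
      intro b
      show θ _ * θ _ = 1
      rw [← map_mul]
      rcases (hsq b.1 b.2).1 with h | h
      · rw [show (⟨b.1, hmemCA _ b.2⟩ : CA) * ⟨b.1, hmemCA _ b.2⟩ = 1 from Subtype.ext h, map_one]
      · exact hσZ _ h
    let W : Subgroup (C ⧸ Z) :=
      { carrier := Set.range T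
        one_mem' := ⟨⟨1, h1⟩, map_one θ⟩
        mul_mem' := by
          rintro _ _ ⟨a, rfl⟩ ⟨b, rfl⟩
          obtain ⟨c, hc, h | h⟩ := (hpairs a.1 a.2 b.1 b.2).1
          · refine ⟨⟨c, hc⟩, ?_⟩
            show θ _ = θ _ * θ _
            rw [← map_mul]
            exact congrArg θ (Subtype.ext h.symm)
          · refine ⟨⟨c, hc⟩, ?_⟩
            show θ _ = θ _ * θ _
            rw [← map_mul, show (⟨a.1, hmemCA _ a.2⟩ : CA) * ⟨b.1, hmemCA _ b.2⟩ =
              ⟨c, hmemCA _ hc⟩ * ⟨sigmaA, mk rfl⟩ from Subtype.ext h, map_mul, hσZ ⟨sigmaA, mk rfl⟩ rfl, mul_one]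
        inv_mem' := by
          rintro _ ⟨a, rfl⟩
          exact ⟨a, (inv_eq_of_mul_eq_one_right (Tsq a)).symm⟩ }
    have hTinj : Function.Injective T := by
      intro a b hab
      have : θ ((⟨a.1, hmemCA _ a.2⟩ : CA)⁻¹ * ⟨b.1, hmemCA _ b.2⟩) = 1 := by
        rw [map_mul, map_inv]; exact inv_mul_eq_one.2 hab
      exact Subtype.ext ((hpairs a.1 a.2 b.1 b.2).2 (hker _ this))
    have hW : Nat.card W = 8 := by
      rw [show Nat.card W = Nat.card (Set.range T) from rfl, Nat.card_range_of_injective hTinj,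
        Nat.card_congr (Equiv.subtypeEquivRight fun x => List.mem_toFinset.symm),
        Nat.card_eq_fintype_card, Fintype.card_coe, List.toFinset_card_of_nodup hnd, hlen]
    obtain ⟨P, hP⟩ := (IsPGroup.of_card (p := 2) (n := 3) (show Nat.card W = 2 ^ 3 by rw [hW]; norm_num)).exists_le_sylow
    have hPW : W = (P : Subgroup (C ⧸ Z)) := by
      refine eq_of_le_of_card_ge hP ?_
      obtain ⟨k, hk⟩ := IsPGroup.iff_card.1 P.2
      have hd : 2 ^ k ∣ 168 := h168 ▸ hk ▸ card_subgroup_dvd_card _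
      rw [hW, hk]
      by_contra hlt
      have : 4 ≤ k := by
        by_contra hk4
        interval_cases k <;> simp_all
      exact absurd ((pow_dvd_pow 2 this).trans hd) (by norm_num)
    have hfm : fA * sigmaA = sigmaA * fA := hf
    let f' : CA := ⟨fA, mk hfm⟩
    have hf'4 : f' ^ 4 = 1 := Subtype.ext hf4
    have hpf : IsPGroup 2 (zpowers (θ f')) := by
      have hd : orderOf (θ f') ∣ 2 ^ 2 := orderOf_dvd_of_pow_eq_one (by
        rw [← map_pow, show f' ^ 2 ^ 2 = f' ^ 4 from rfl, hf'4, map_one])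
      obtain ⟨k, -, hk⟩ := (Nat.dvd_prime_pow Nat.prime_two).1 hd
      exact IsPGroup.of_card (n := k) (by rw [Nat.card_zpowers, hk])
    obtain ⟨P', hP'⟩ := hpf.exists_le_sylow
    obtain ⟨h, hh⟩ := MulAction.exists_smul_eq (C ⧸ Z) P' P
    have hm := Cfsg.Agent.Lib.ZStar.Elements.smul_mem hh (hP' (mem_zpowers _))
    have hm' : h * θ f' * h⁻¹ ∈ W := hPW ▸ hm
    obtain ⟨b, hb⟩ := hm'
    have hsqf : θ f' * θ f' = 1 := by
      have := Tsq b
      rw [hb] at this
      calc θ f' * θ f' = h⁻¹ * (h * θ f' * h⁻¹ * (h * θ f' * h⁻¹)) * h := by group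
        _ = 1 := by rw [this]; group
    rw [← map_mul] at hsqf
    rcases hker _ hsqf with e | e
    · exact hf2 (by rw [pow_two]; exact e)
    · exact hf2σ (by rw [pow_two]; exact e)

/-- The subgroups of odd order of `C(t)` normalised by `E` are trivial. -/
theorem core_trivial {A : Subgroup G} (hA : Odd (Nat.card A))
    (hAt : ∀ a ∈ A, a * E.f t1A = E.f t1A * a)
    (hAE : ∀ e ∈ El, ∀ a ∈ A, E.f e * a * (E.f e)⁻¹ ∈ A) : A = ⊥ := by
  classical
  obtain ⟨ht1, hs, -, hq1, hq2, hq3, -⟩ := mem_misc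
  obtain ⟨h1E, hmulE, hinvE⟩ := El_group
  obtain ⟨N, hNnil, hNC, -, hs0N, hoddN⟩ := E.cent_sigma
  have key : ∀ qq ∈ [q1, q2, q3], ∀ a ∈ A, a * E.f qq = E.f qq * a → a = 1 := by
    intro qq hqq a ha haq
    obtain ⟨i, hi⟩ := q_moves qq hqq
    set b : A8 := zA ^ i.val * sigmaA with hb
    have hqE : qq ∈ El := by
      simp only [List.mem_cons, List.not_mem_nil, or_false] at hqq
      rcases hqq with rfl | rfl | rfl
      · exact hq1
      · exact hq2
      · exact hq3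
    set Aq : Subgroup G := A ⊓ centralizer ({E.f qq} : Set G) with hAq
    set A' : Subgroup G := Aq.map (MulAut.conj (E.f b)⁻¹).toMonoidHom with hA'
    have hrot : ∀ e ∈ El, b * e * b⁻¹ ∈ El := by
      intro e he
      have := (rot i _ (rot 0 e he).2).1
      rwa [show b * e * b⁻¹ = zA ^ i.val * (sigmaA * e * sigmaA⁻¹) * (zA ^ i.val)⁻¹ by rw [hb]; group]
    have memA' : ∀ x, x ∈ A' ↔ E.f b * x * (E.f b)⁻¹ ∈ Aq := by
      intro x
      rw [hA', mem_map]
      constructor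
      · rintro ⟨c, hc, rfl⟩
        convert hc using 1
        simp only [MulEquiv.coe_toMonoidHom, MulAut.conj_apply]; group
      · intro h
        exact ⟨_, h, by simp only [MulEquiv.coe_toMonoidHom, MulAut.conj_apply]; group⟩
    have hA'odd : Odd (Nat.card A') := by
      rw [← Nat.card_congr (Subgroup.equivMapOfInjective Aq _ (MulEquiv.injective (MulAut.conj (E.f b)⁻¹))).toEquiv]
      exact hA.of_dvd_nat (card_dvd_of_le inf_le_left)
    have hA't : ∀ x ∈ A', x * E.f t1A = E.f t1A * x := by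
      intro x hx
      have hc : E.f b * x * (E.f b)⁻¹ * E.f qq = E.f qq * (E.f b * x * (E.f b)⁻¹) :=
        mem_centralizer_singleton_iff.1 ((memA' x).1 hx).2
      rw [← hi, E.f_conj] at hc
      calc x * E.f t1A = (E.f b)⁻¹ * (E.f b * x * (E.f b)⁻¹ * (E.f b * E.f t1A * (E.f b)⁻¹)) * E.f b := by group
        _ = _ := by rw [hc]; group
    have hA'E : ∀ e ∈ El, ∀ x ∈ A', E.f e * x * (E.f e)⁻¹ ∈ A' := by
      intro e he x hx
      rw [memA']
      obtain ⟨hxA, hxq⟩ := (memA' x).1 hx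
      have hm := hrot e he
      have heq : E.f b * (E.f e * x * (E.f e)⁻¹) * (E.f b)⁻¹ =
          E.f (b * e * b⁻¹) * (E.f b * x * (E.f b)⁻¹) * (E.f (b * e * b⁻¹))⁻¹ := by
        rw [E.f_conj]; group
      rw [heq]
      refine ⟨hAE _ hm _ hxA, mem_centralizer_singleton_iff.2 ?_⟩
      have hcq : Commute (E.f (b * e * b⁻¹)) (E.f qq) := by
        show _ = _
        rw [← map_mul, ← map_mul, (hmulE _ hm _ hqE).2]
      exact ((hcq.mul_left (mem_centralizer_singleton_iff.1 hxq)).mul_left hcq.inv_left).eq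
    set x := (E.f b)⁻¹ * a * E.f b with hxdef
    have hax : E.f b * x * (E.f b)⁻¹ = a := by rw [hxdef]; group
    have hxA' : x ∈ A' := (memA' x).2 (hax.symm ▸ ⟨ha, mem_centralizer_singleton_iff.2 haq⟩)
    have hinv := (E.inverted hA'odd hA't hA'E x hxA').1
    have hinva := (E.inverted hA hAt hAE a ha).1
    set s' : A8 := b * sA * b⁻¹ with hs'def
    have hs'inv : E.f s' * a * (E.f s')⁻¹ = a⁻¹ := by
      rw [hs'def, E.f_conj, ← hax]
      calc E.f b * E.f sA * (E.f b)⁻¹ * (E.f b * x * (E.f b)⁻¹) * (E.f b * E.f sA * (E.f b)⁻¹)⁻¹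
          = E.f b * (E.f sA * x * (E.f sA)⁻¹) * (E.f b)⁻¹ := by group
        _ = _ := by rw [hinv]; group
    obtain ⟨n, -, hn1, hn2, hn3⟩ := frames i
    rw [← hb, ← hs'def] at hn3
    have hprod : E.f (sA * s') * a * (E.f (sA * s'))⁻¹ = a := by
      rw [map_mul, show E.f sA * E.f s' * a * (E.f sA * E.f s')⁻¹ = E.f sA * (E.f s' * a * (E.f s')⁻¹) * (E.f sA)⁻¹ by group,
        hs'inv, show E.f sA * a⁻¹ * (E.f sA)⁻¹ = (E.f sA * a * (E.f sA)⁻¹)⁻¹ by group, hinva, inv_inv]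
    set a' := E.f n * a * (E.f n)⁻¹ with ha'
    have tr : ∀ c c' : A8, n * c * n⁻¹ = c' → ∀ d, E.f c * a * (E.f c)⁻¹ = d →
        E.f c' * a' * (E.f c')⁻¹ = E.f n * d * (E.f n)⁻¹ := by
      intro c c' hc d hd
      rw [← hc, E.f_conj, ← hd, ha']
      group
    have hoa : Odd (orderOf a) := hA.of_dvd_nat (A.orderOf_dvd_natCard ha)
    have hoa' : Odd (orderOf a') := by
      rw [ha', ← MulAut.conj_apply, MulEquiv.orderOf_eq]; exact hoa
    have h1 : E.f sigmaA * a' * (E.f sigmaA)⁻¹ = a' := tr _ _ hn3 a hprod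
    have h2 : E.f rA * a' * (E.f rA)⁻¹ = a' := tr _ _ hn1 a (mul_inv_eq_iff_eq_mul.2 (hAt a ha).symm)
    have h3 : E.f s0A * a' * (E.f s0A)⁻¹ = a'⁻¹ := by
      rw [tr _ _ hn2 a⁻¹ hinva, ha']; group
    have haN := hoddN a' (mul_inv_eq_iff_eq_mul.1 h1).symm (mul_inv_eq_iff_eq_mul.1 h2).symm hoa'
    have hs0o : orderOf (E.f s0A) ∣ 2 := orderOf_dvd_of_pow_eq_one (by
      rw [pow_two]; exact E.f_sq (sigma_facts.2.2.2.2.2.2.2.2.2.2.2.2.2.2.1))
    have hc : E.f s0A * a' = a' * E.f s0A :=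
      Cfsg.Agent.Lib.KegelWielandt.commute_of_coprime hNnil hs0N haN
        ((Nat.coprime_two_left.2 hoa').coprime_dvd_left hs0o)
    rw [mul_inv_eq_iff_eq_mul.2 hc] at h3
    have hsq : a' ^ 2 = 1 := by rw [pow_two]; exact mul_eq_one_iff_eq_inv.2 h3
    have : a' = 1 := orderOf_eq_one_iff.1 (Nat.eq_one_of_dvd_coprimes
      (Nat.coprime_two_right.2 hoa') dvd_rfl (orderOf_dvd_of_pow_eq_one hsq))
    rwa [ha', conj_eq_one_iff] at this
  -- the four group generated by `q₁, q₂`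
  let L : List A8 := [1, q1, q2, q3]
  have hL : (1 : A8) ∈ L ∧ (∀ x ∈ L, ∀ z ∈ L, x * z ∈ L ∧ x * z = z * x) ∧ (∀ x ∈ L, x⁻¹ ∈ L) ∧
      L.Nodup ∧ (∀ x ∈ L, x * x = 1 ∧ x ∈ El) := L_four
  set V := E.listSub L hL.1 (fun x hx z hz => (hL.2.1 x hx z hz).1) hL.2.2.1 with hV
  have hV4 : Nat.card V = 4 := E.card_listSub hL.2.2.2.1
  haveI : IsMulCommutative V := ⟨⟨fun ⟨g, hg⟩ ⟨g', hg'⟩ => by
    obtain ⟨c, hc, rfl⟩ := hg
    obtain ⟨c', hc', rfl⟩ := hg'
    exact Subtype.ext (show E.f c * E.f c' = E.f c' * E.f c by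
      rw [← map_mul, ← map_mul, (hL.2.1 c hc c' hc').2])⟩⟩
  have hnc : ¬ IsCyclic V := by
    intro h
    obtain ⟨g, hg⟩ := h.exists_ofOrder_eq_natCard
    obtain ⟨c, hc, hcg⟩ := g.2
    have : orderOf g ∣ 2 := orderOf_dvd_of_pow_eq_one (Subtype.ext (by
      show (g : G) ^ 2 = 1
      rw [← hcg, pow_two, E.f_sq (hL.2.2.2.2 c hc).1]))
    rw [hg, hV4] at this
    norm_num at this
  have hVA : V ≤ normalizer (A : Set G) := by
    rintro g ⟨c, hc, rfl⟩
    rw [mem_normalizer_iff]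
    intro x
    have hcE := (hL.2.2.2.2 c hc).2
    refine ⟨fun hx => hAE c hcE x hx, fun hx => ?_⟩
    have := hAE c hcE _ hx
    have h2 := E.f_sq (hL.2.2.2.2 c hc).1
    rw [show (E.f c)⁻¹ = E.f c from inv_eq_of_mul_eq_one_right h2] at this
    rwa [show E.f c * (E.f c * x * E.f c) * E.f c = E.f c * E.f c * x * (E.f c * E.f c) by group,
      h2, one_mul, mul_one] at this
  rw [← Cfsg.Agent.Lib.Coprime.iSup_centralizer_eq hnc hVA (by
    rw [hV4, show 4 = 2 ^ 2 by norm_num]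
    exact Nat.Coprime.pow_left 2 (Nat.coprime_two_left.2 hA))]
  refine le_bot_iff.1 (iSup₂_le fun g hg => ?_)
  obtain ⟨⟨c, hc, rfl⟩, hg1⟩ := hg
  rintro a ⟨ha, hac⟩
  have hc' : c ∈ [q1, q2, q3] := by
    rcases List.mem_cons.1 hc with h | h
    · exact absurd (by rw [h, map_one]) hg1
    · exact h
  exact mem_bot.2 (key c hc' a ha (mem_centralizer_singleton_iff.1 hac))

/-- The centraliser of `t` lies in the image. -/
theorem cent_t {g : G} (hg : g * E.f t1A = E.f t1A * g) : g ∈ E.f.range := by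
  classical
  haveI : Fact (Nat.Prime 2) := ⟨Nat.prime_two⟩
  obtain ⟨K2, hKt, hEK, hcK, hodd, hsplit⟩ := E.exists_half
  obtain ⟨ht1, hs, hs3, -, -, -, hcS, hcE, hc2, -⟩ := mem_misc
  obtain ⟨h1E, hmulE, hinvE⟩ := El_group
  have hfK : ∀ e ∈ El, E.f e ∈ K2 := fun e he => hEK ⟨e, he, rfl⟩
  have hXK : ∀ x ∈ Xl, E.f x ∈ K2 := by
    intro x hx
    obtain ⟨-, -, hxt, -, h6, -⟩ := Xl_facts x hx
    have h4 : E.f (x ^ 4) ∈ K2 := by
      refine hodd _ (by rw [← map_mul, ← map_mul, ((show Commute x t1A from hxt).pow_left 4).eq]) ?_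
      refine (by decide : Odd 3).of_dvd_nat (orderOf_dvd_of_pow_eq_one ?_)
      rw [← map_pow, ← pow_mul, show 4 * 3 = 6 * 2 from rfl, pow_mul, h6, one_pow, map_one]
    have h3 := hfK _ (Xl_cube x hx)
    rw [show x = x ^ 4 * (x ^ 3)⁻¹ by group, map_mul, map_inv]
    exact mul_mem h4 (inv_mem h3)
  have hnotc : ∀ b, E.f b ∈ K2 → b * cA ∉ Xl := by
    intro b hb hbc
    refine hcK ?_
    have := mul_mem (inv_mem hb) (hXK _ hbc)
    rwa [map_mul, inv_mul_cancel_left] at this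
  -- the elementary abelian group is a Sylow subgroup of `K2`
  have hEp : IsPGroup 2 E.EG := IsPGroup.of_card (n := 4) (by rw [E.card_EG]; norm_num)
  obtain ⟨P, hP⟩ := (hEp.comap_of_injective K2.subtype (subtype_injective _)).exists_le_sylow
  have hPeq : ∀ x : K2, x ∈ P → (x : G) ∈ E.EG := by
    intro x hx
    by_contra hxE
    set Q : Subgroup G := (P : Subgroup K2).map K2.subtype with hQdef
    have hQ : IsPGroup 2 Q := P.2.map _
    have hle : E.EG ≤ Q := fun e he => ⟨⟨e, hEK he⟩, hP (mem_subgroupOf.2 he), rfl⟩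
    haveI := hQ.isNilpotent
    have hlt : E.EG.subgroupOf Q < ⊤ := lt_top_iff_ne_top.2 fun e =>
      hxE ((subgroupOf_eq_top.1 e) ⟨x, hx, rfl⟩)
    obtain ⟨n, hn, hn'⟩ := SetLike.exists_of_lt (normalizerCondition_of_isNilpotent _ hlt)
    have hnK : (n : G) ∈ K2 := map_subtype_le _ n.2
    obtain ⟨b, hb, hnb⟩ := E.normE (hKt _ hnK) (fun e he => by
      have hm : E.f e ∈ E.EG := ⟨e, he, rfl⟩
      obtain ⟨d, hd, h⟩ := mem_subgroupOf.1 ((mem_normalizer_iff.1 hn ⟨E.f e, hle hm⟩).1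
        (mem_subgroupOf.2 hm))
      exact ⟨d, hd, h.symm⟩)
    apply hn'
    refine mem_subgroupOf.2 ?_
    rw [hnb]
    obtain ⟨h24, -, -⟩ := Kl_facts b hb
    rcases Kl_split b hb with hbX | hbX
    · obtain ⟨hinvol, -, -, -, h6, -⟩ := Xl_facts b hbX
      refine ⟨b, hinvol ?_, rfl⟩
      obtain ⟨k, hk⟩ := IsPGroup.iff_orderOf.1 hQ n
      rw [← orderOf_coe, hnb, orderOf_injective E.f E.inj] at hk
      have h2 : orderOf b ∣ 2 := by
        refine Nat.Coprime.dvd_of_dvd_mul_right ?_ (show orderOf b ∣ 2 * 3 from orderOf_dvd_of_pow_eq_one h6)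
        rw [hk]
        exact Nat.Coprime.pow_left _ (by norm_num)
      rw [← pow_two]
      exact orderOf_dvd_iff_pow_eq_one.1 h2
    · exact absurd hbX (hnotc b (hnb ▸ hnK))
  let sK : K2 := ⟨E.f sA, hfK _ hs⟩
  have hsne : sA ≠ 1 := by decide +kernel
  have hiso : ∀ k : K2, k * sK * k⁻¹ ∈ P → k * sK * k⁻¹ = sK := by
    intro k hk
    obtain ⟨x, hx, hxe⟩ := hPeq _ hk
    change E.f x = (k : G) * E.f sA * (k : G)⁻¹ at hxe
    have hkt : (k : G) * E.f t1A * (k : G)⁻¹ = E.f t1A := mul_inv_eq_iff_eq_mul.2 (hKt _ k.2)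
    have hsA : sA * sA = 1 ∧ sA ≠ t1A ∧ HasFix sA ∧ (t1A * sA) * (t1A * sA) = 1 ∧
        t1A * sA ≠ 1 ∧ HasFix (t1A * sA) ∧ s3A = t1A * sA := by decide +kernel
    have hx1 : x ≠ 1 := by
      rintro rfl
      rw [map_one, eq_comm, mul_inv_eq_one, mul_eq_left] at hxe
      exact E.f_ne_one hsne hxe
    have hxt : x ≠ t1A := by
      rintro rfl
      exact hsA.2.1 (E.inj (mul_left_cancel (mul_right_cancel (hxe.symm.trans hkt.symm))))
    have hfx : HasFix x := (E.fix_of_conj hsA.1 hsne _ hxe.symm).1 hsA.2.2.1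
    have hftx : HasFix (t1A * x) := (E.fix_of_conj hsA.2.2.2.1 hsA.2.2.2.2.1 (k : G) (by
      rw [map_mul, map_mul, hxe]
      conv_rhs => rw [← hkt]
      group)).1 hsA.2.2.2.2.2.1
    have hxs := pick_s x hx hx1 hxt hfx hftx
    obtain ⟨b, hb, hkb⟩ := E.normE (hKt _ k.2) (fun e he => by
      have e1 : (k : G) * E.f e * (k : G)⁻¹ * E.f t1A = E.f t1A * ((k : G) * E.f e * (k : G)⁻¹) := by
        conv_lhs => rw [← hkt]
        conv_rhs => rw [← hkt]
        calc (k : G) * E.f e * (k : G)⁻¹ * ((k : G) * E.f t1A * (k : G)⁻¹) = (k : G) * E.f (e * t1A) * (k : G)⁻¹ := by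
              rw [map_mul]; group
          _ = _ := by rw [(hmulE e he t1A ht1).2, map_mul]; group
      have e2 : (k : G) * E.f e * (k : G)⁻¹ * E.f x = E.f x * ((k : G) * E.f e * (k : G)⁻¹) := by
        rw [hxe]
        calc (k : G) * E.f e * (k : G)⁻¹ * ((k : G) * E.f sA * (k : G)⁻¹) = (k : G) * E.f (e * sA) * (k : G)⁻¹ := by
              rw [map_mul]; group
          _ = _ := by rw [(hmulE e he sA hs).2, map_mul]; group
      have e3 : (k : G) * E.f e * (k : G)⁻¹ * E.f sA = E.f sA * ((k : G) * E.f e * (k : G)⁻¹) := by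
        rcases hxs with rfl | rfl
        · exact e2
        · rw [show sA = t1A * s3A by decide +kernel, map_mul]
          exact ((show Commute _ _ from e1).mul_right e2).eq
      obtain ⟨a, ha, hae⟩ := E.cent_four e1 e3
      refine ⟨a, (Xl_facts a ha).1 (E.inj ?_), hae⟩
      rw [map_mul, ← hae, map_one]
      calc (k : G) * E.f e * (k : G)⁻¹ * ((k : G) * E.f e * (k : G)⁻¹) = (k : G) * (E.f e * E.f e) * (k : G)⁻¹ := by group
        _ = 1 := by rw [E.f_sq (hinvE e he).2]; group)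
    rcases Kl_split b hb with hbX | hbX
    · refine Subtype.ext ?_
      show (k : G) * E.f sA * (k : G)⁻¹ = E.f sA
      rw [hkb, ← E.f_conj, (Xl_facts b hbX).2.1, mul_inv_cancel_right]
    · exact absurd hbX (hnotc b (hkb ▸ k.2))
  obtain ⟨N, hNn, hNodd, hNcomm⟩ := Cfsg.Agent.Lib.ZStar.StronglyClosed.involutionThm K2 P sK
    (orderOf_eq_prime (by rw [pow_two]; exact Subtype.ext (E.f_sq (hinvE _ hs).2))
      fun e => E.f_ne_one hsne (congrArg Subtype.val e))
    (hP (mem_subgroupOf.2 ⟨sA, hs, rfl⟩)) hiso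
  have hA : N.map K2.subtype = ⊥ := E.core_trivial
    (by rwa [← Nat.card_congr (Subgroup.equivMapOfInjective N _ (subtype_injective K2)).toEquiv])
    (fun a ha => hKt a (map_subtype_le _ ha))
    (by
      rintro e he _ ⟨n, hn, rfl⟩
      exact ⟨⟨E.f e, hfK e he⟩ * n * ⟨E.f e, hfK e he⟩⁻¹, hNn.conj_mem n hn _, rfl⟩)
  have hN1 : N = ⊥ := (map_eq_bot_iff_of_injective _ (subtype_injective K2)).1 hA
  have hK : ∀ k ∈ K2, k ∈ E.f.range := by
    intro k hk
    have h := hNcomm ⟨k, hk⟩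
    rw [hN1, mem_bot, mul_inv_eq_one, mul_inv_eq_iff_eq_mul] at h
    obtain ⟨a, -, rfl⟩ := E.cent_four (hKt k hk) (congrArg Subtype.val h).symm
    exact ⟨a, rfl⟩
  rcases hsplit g hg with h | h
  · exact hK g h
  · have := mul_mem (hK _ h) (inv_mem (⟨cA, rfl⟩ : E.f cA ∈ E.f.range))
    rwa [mul_inv_cancel_right] at this

/-- Conjugation between involutions with fixed points is controlled. -/
theorem ctrl {a : A8} (ha : a * a = 1) (ha1 : a ≠ 1) (hfa : HasFix a) {g : G}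
    (h : g * E.f a * g⁻¹ ∈ E.f.range) : g ∈ E.f.range := by
  obtain ⟨b, hb⟩ := h
  have hfb : HasFix b := (E.fix_of_conj ha ha1 g hb.symm).1 hfa
  have hb2 : b * b = 1 := E.inj (by
    rw [map_mul, hb, map_one]
    calc g * E.f a * g⁻¹ * (g * E.f a * g⁻¹) = g * (E.f a * E.f a) * g⁻¹ := by group
      _ = 1 := by rw [E.f_sq ha]; group)
  have hb1 : b ≠ 1 := by
    rintro rfl
    rw [map_one, eq_comm, mul_inv_eq_one, mul_eq_left] at hb
    exact E.f_ne_one ha1 hb
  rcases invol_cases a ha ha1 with ⟨ca, -⟩ | ⟨-, hn⟩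
  swap
  · exact absurd hfa hn
  rcases invol_cases b hb2 hb1 with ⟨cb, -⟩ | ⟨-, hn⟩
  swap
  · exact absurd hfb hn
  obtain ⟨r, rfl⟩ := isConj_iff.1 ca
  obtain ⟨p, rfl⟩ := isConj_iff.1 cb
  rw [E.f_conj, E.f_conj] at hb
  have hC : (E.f p)⁻¹ * g * E.f r * E.f t1A = E.f t1A * ((E.f p)⁻¹ * g * E.f r) := by
    calc (E.f p)⁻¹ * g * E.f r * E.f t1A
        = (E.f p)⁻¹ * (g * (E.f r * E.f t1A * (E.f r)⁻¹) * g⁻¹) * g * E.f r := by group
      _ = _ := by rw [← hb]; group
  have := mul_mem (mul_mem (⟨p, rfl⟩ : E.f p ∈ E.f.range) (E.cent_t hC))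
    (inv_mem (⟨r, rfl⟩ : E.f r ∈ E.f.range))
  rwa [show E.f p * ((E.f p)⁻¹ * g * E.f r) * (E.f r)⁻¹ = g by group] at this

/-- The centraliser of an involution of the image lies in the image. -/
theorem cent_invol {a : A8} (ha : a * a = 1) (ha1 : a ≠ 1) {g : G}
    (hg : g * E.f a = E.f a * g) : g ∈ E.f.range := by
  by_cases hfa : HasFix a
  · exact E.ctrl ha ha1 hfa ⟨a, (mul_inv_eq_iff_eq_mul.2 hg).symm⟩
  rcases invol_cases a ha ha1 with ⟨-, hn⟩ | ⟨ca, -⟩
  · exact absurd hn hfa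
  obtain ⟨N, hNnil, hNC, hNconj, hs0N, -⟩ := E.cent_sigma
  obtain ⟨-, -, -, -, -, -, -, -, -, -, -, -, -, -, hs02, -, -, hs0f, hs01⟩ := sigma_facts
  have hNR : N ≤ E.f.range := by
    by_contra hne
    haveI := hNnil
    have hlt : E.f.range.subgroupOf N < ⊤ := lt_top_iff_ne_top.2 fun e => hne (subgroupOf_eq_top.1 e)
    obtain ⟨n, hn, hn'⟩ := SetLike.exists_of_lt (normalizerCondition_of_isNilpotent _ hlt)
    exact hn' (mem_subgroupOf.2 (E.ctrl hs02 hs01 hs0f (mem_subgroupOf.1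
      ((mem_normalizer_iff.1 hn ⟨_, hs0N⟩).1 (mem_subgroupOf.2 ⟨s0A, rfl⟩)))))
  obtain ⟨r, rfl⟩ := isConj_iff.1 ca
  rw [E.f_conj] at hg
  have hC : (E.f r)⁻¹ * g * E.f r * E.f sigmaA = E.f sigmaA * ((E.f r)⁻¹ * g * E.f r) := by
    calc (E.f r)⁻¹ * g * E.f r * E.f sigmaA
        = (E.f r)⁻¹ * (g * (E.f r * E.f sigmaA * (E.f r)⁻¹)) * E.f r := by group
      _ = _ := by rw [hg]; group
  have := mul_mem (mul_mem (⟨r, rfl⟩ : E.f r ∈ E.f.range)
    (E.ctrl hs02 hs01 hs0f (hNR (hNconj _ hC _ hs0N)))) (inv_mem (⟨r, rfl⟩ : E.f r ∈ E.f.range))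
  rwa [show E.f r * ((E.f r)⁻¹ * g * E.f r) * (E.f r)⁻¹ = g by group] at this

/-- The image is the whole group. -/
theorem surjective : Function.Surjective E.f := by
  intro g
  have ht : t1A * t1A = 1 ∧ t1A ≠ 1 ∧ HasFix t1A ∧ sigmaA * sigmaA = 1 ∧ sigmaA ≠ 1 ∧ ¬ HasFix sigmaA := by
    decide +kernel
  obtain ⟨ht2, ht1, htf, hσ2, hσ1, hσf⟩ := ht
  set u := g * E.f t1A * g⁻¹ with hu
  set v := E.f sigmaA with hv
  have hu2 : u * u = 1 := by
    rw [hu]
    calc g * E.f t1A * g⁻¹ * (g * E.f t1A * g⁻¹) = g * (E.f t1A * E.f t1A) * g⁻¹ := by group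
      _ = 1 := by rw [E.f_sq ht2]; group
  have hv2 : v * v = 1 := E.f_sq hσ2
  set d := u * v with hd
  have hvd : SemiconjBy v d d⁻¹ := by
    show v * (u * v) = (u * v)⁻¹ * v
    rw [mul_inv_rev, inv_eq_of_mul_eq_one_right hv2, inv_eq_of_mul_eq_one_right hu2]
    group
  have hvj : ∀ j : ℕ, v * d ^ j = (d ^ j)⁻¹ * v := fun j => by
    rw [← inv_pow]; exact (hvd.pow_right j).eq
  rcases Nat.even_or_odd (orderOf d) with ⟨j, hj⟩ | ⟨j, hj⟩
  · set i := d ^ j with hi
    have hj0 : 0 < j := by have := orderOf_pos d; omega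
    have hi1 : i ≠ 1 := pow_ne_one_of_lt_orderOf (by omega) (by omega)
    have hi2 : i * i = 1 := by rw [hi, ← pow_add, ← hj, pow_orderOf_eq_one]
    have hiv : i * v = v * i := by
      rw [hvj j, ← hi, inv_eq_of_mul_eq_one_right hi2]
    obtain ⟨a, ha⟩ := E.cent_invol hσ2 hσ1 hiv
    have hiu : u * i = i * u := by
      have hu' : u = d * v := by rw [hd, mul_assoc, hv2, mul_one]
      rw [hu', mul_assoc, ← hiv, ← mul_assoc, ← mul_assoc, hi, ← pow_succ', pow_succ]
    have hmem : u ∈ E.f.range := E.cent_invol (a := a) (E.inj (by rw [map_mul, ha, hi2, map_one]))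
      (fun e => hi1 (by rw [← ha, e, map_one])) (g := u) (by rw [ha]; exact hiu)
    exact E.ctrl ht2 ht1 htf hmem
  · exfalso
    have e : d ^ (j + 1) * v * (d ^ (j + 1))⁻¹ = u := by
      have h1 : v * (d ^ (j + 1))⁻¹ = d ^ (j + 1) * v := by
        have := hvj (j + 1)
        calc v * (d ^ (j + 1))⁻¹ = d ^ (j + 1) * ((d ^ (j + 1))⁻¹ * v) * (d ^ (j + 1))⁻¹ := by group
          _ = d ^ (j + 1) * v := by rw [← this]; group
      rw [mul_assoc, h1, ← mul_assoc, ← pow_add, show j + 1 + (j + 1) = orderOf d + 1 by omega,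
        pow_succ, pow_orderOf_eq_one, one_mul, hd, mul_assoc, hv2, mul_one]
    have := E.fix_of_conj hσ2 hσ1 (g⁻¹ * d ^ (j + 1)) (b := t1A) (by
      calc g⁻¹ * d ^ (j + 1) * E.f sigmaA * (g⁻¹ * d ^ (j + 1))⁻¹
          = g⁻¹ * (d ^ (j + 1) * v * (d ^ (j + 1))⁻¹) * g := by rw [hv]; group
        _ = E.f t1A := by rw [e, hu]; group)
    exact hσf (this.2 htf)

end Emb

end Cfsg.Agent.Lib.EightThree88
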