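import Cfsg.Agent.Lib.EightThree88.ModelLocal

/-!
# Decidable facts on the four groups of the model
-/

set_option autoImplicit false
set_option maxRecDepth 100000
set_option synthInstance.maxSize 2000
set_option synthInstance.maxHeartbeats 400000

namespace Cfsg.Agent.Lib.EightThree88.Model

open Equiv

theorem invol_class : ∀ x : K, x * x = 1 → x ≠ 1 →
    ∃ g : K, g * x * g⁻¹ = cK ∨ g * x * g⁻¹ = a'K := by decide +kernel

theorem a_class : ∃ g : K, g * aK * g⁻¹ = cK := by decide +kernel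

theorem invD : ∀ x : K, InD x → x * x = 1 → x = 1 := by decide +kernel

theorem v_facts : v1 * v1 = 1 ∧ v2 * v2 = 1 ∧ v1 ≠ 1 ∧ v1 * v2 = v3 ∧
    zK * v1 = v1 * zK ∧ zK * v2 = v2 * zK := by decide +kernel

theorem cent_v : ∀ k : K, k * v1 = v1 * k → k * v2 = v2 * k →
    (k * zK * k⁻¹ = zK ∨ k * zK * k⁻¹ = zK⁻¹) →
    k * zK = zK * k ∧ ∃ u : K, InV u ∧ ∃ i : Fin 3, k = u * zK ^ i.val := by decide +kernel

theorem w_norm_V : ∀ u : K, InV u → InV (wK * u * wK⁻¹) ∧ InV (wK⁻¹ * u * wK) := by decide +kernel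

theorem v_zpow : ∀ u : K, InV u → ∀ i : Fin 3, (u * zK ^ i.val) ^ 3 = 1 →
    u * zK ^ i.val = 1 ∨ u * zK ^ i.val = zK ∨ u * zK ^ i.val = zK⁻¹ := by decide +kernel

theorem cent_word : ∀ k : K, k * zK = zK * k →
    k ^ 10 = 1 ∧ (k * k * k * (wK * k * wK⁻¹)) ^ 10 = 1 ∧
      (k * k * (wK * k * wK⁻¹)) ^ 10 = 1 ∧
      (k * (wK * k * wK⁻¹) * k * (wK * (wK * k * wK⁻¹) * wK⁻¹)) ^ 10 = 1 →
    InV k ∨ InV' k := by decide +kernel

theorem no_mix : ∀ u v : K, InV u → InV' v → u ≠ 1 → v ≠ 1 →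
    (u * v) ^ 10 ≠ 1 ∨ (u * (wK * v * wK⁻¹)) ^ 10 ≠ 1 ∨ (u * (wK⁻¹ * v * wK)) ^ 10 ≠ 1 := by decide +kernel

theorem V_orbit : ∀ u v : K, InV u → u ≠ 1 → InV v →
    v = 1 ∨ v = u ∨ v = wK * u * wK⁻¹ ∨ v = wK⁻¹ * u * wK := by decide +kernel

theorem V'_orbit : ∀ u v : K, InV' u → u ≠ 1 → InV' v →
    v = 1 ∨ v = u ∨ v = wK * u * wK⁻¹ ∨ v = wK⁻¹ * u * wK := by decide +kernel

theorem flip_V : ∀ u : K, InV u ↔ InV' (flip u) := by decide +kernel

theorem flip_flip : ∀ u : K, flip (flip u) = u := by decide +kernel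

theorem flip_sw : ∀ x : K, InN x → flip x = x := by decide +kernel

/-- A Sylow 2-subgroup of the model. -/
def InR (x : K) : Prop := InV x ∨ InV (cK * x)

instance : DecidablePred InR := fun x => by unfold InR; infer_instance

def R : Subgroup K where
  carrier := {x | InR x}
  one_mem' := Or.inl (Or.inl rfl)
  mul_mem' {a b} ha hb :=
    (by decide +kernel : ∀ a b : K, InR a → InR b → InR (a * b)) a b ha hb
  inv_mem' {a} ha := (by decide +kernel : ∀ a : K, InR a → InR a⁻¹) a ha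

theorem card_InR : (Finset.univ.filter InR).card = 8 := by decide +kernel

theorem R_facts : InR v1 ∧ InR v2 ∧ InR cK ∧
    (∀ x : K, InR x → x ≠ 1 → (∀ y : K, InR y → x * y = y * x) → x = v1) ∧
    (∀ y : K, InR y → v1 * y = y * v1) := by decide +kernel

theorem c_swap : cK * v1 * cK⁻¹ = v1 ∧ cK * v3 * cK⁻¹ = v2 := by decide +kernel

theorem other_four : ∀ r : K, InR r → ¬ InV r → r * r = 1 → r * v1 = v1 * r →
    ∃ k : K,
      (k * v1 * k⁻¹ = aK ∨ k * v1 * k⁻¹ = a'K ∨ k * v1 * k⁻¹ = cK) ∧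
      (k * r * k⁻¹ = aK ∨ k * r * k⁻¹ = a'K ∨ k * r * k⁻¹ = cK) := by decide +kernel

theorem four_mem : ∀ x y : K, (x = aK ∨ x = a'K ∨ x = cK) → (y = aK ∨ y = a'K ∨ y = cK) → x ≠ y →
    ∀ e : K, (e = aK ∨ e = a'K ∨ e = cK) → e = x ∨ e = y ∨ e = x * y := by decide +kernel

theorem wK_ne : wK ≠ zK ∧ wK ≠ zK⁻¹ ∧ wK ≠ 1 ∧ zK ≠ 1 := by decide +kernel

theorem pow_thirty : ∀ k : K, k * zK = zK * k → k ^ 30 = 1 := by decide +kernel

theorem d_forms : ∀ d : K, InD d → d ^ 10 = 1 → d = 1 := by decide +kernel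

theorem card_coset : ∀ d : K, InD d → d * (zK * wK) = zK * wK * d := by decide +kernel

end Cfsg.Agent.Lib.EightThree88.Model
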