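import Cfsg.Agent.Lib.EightThree88.Local
import Cfsg.Agent.Lib.EightThree88.ModelFour
import Cfsg.Agent.Lib.Coprime.Generation

/-!
# The centraliser of a four group of `C(z)`: it pairs the two four groups
-/

set_option autoImplicit false
set_option maxHeartbeats 800000

namespace Cfsg.Agent.Lib.EightThree88

open Subgroup Model

universe u

variable {G : Type u} [Group G] [Finite G] (S : Data G)

/-- The elements of a cyclic group of order three. -/
theorem cases_three {H : Type*} [Group H] {x y : H} (hx : x ^ 3 = 1) (h : y ∈ zpowers x) :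
    y = 1 ∨ y = x ∨ y = x⁻¹ := by
  obtain ⟨j, rfl⟩ := h
  show x ^ j = 1 ∨ x ^ j = x ∨ x ^ j = x⁻¹
  have hx3 : x ^ (3 : ℤ) = 1 := by exact_mod_cast hx
  have : x ^ j = x ^ (j % 3) := by
    conv_lhs => rw [← Int.emod_add_mul_ediv j 3, zpow_add, zpow_mul, hx3, one_zpow, mul_one]
  rw [this]
  have hj0 := Int.emod_nonneg j (show (3 : ℤ) ≠ 0 by norm_num)
  have hj1 := Int.emod_lt_of_pos j (show (0 : ℤ) < 3 by norm_num)
  rcases (show j % 3 = 0 ∨ j % 3 = 1 ∨ j % 3 = 2 by omega) with e | e | e <;> rw [e]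
  · exact Or.inl (zpow_zero _)
  · exact Or.inr (Or.inl (zpow_one _))
  · exact Or.inr (Or.inr (eq_inv_of_mul_eq_one_left (by rw [← zpow_add_one]; exact hx3)))

namespace Data

include S

theorem n_inv : S.n⁻¹ = S.n := inv_eq_of_mul_eq_one_right S.n_sq

theorem n_zK : S.n * S.φ zK * S.n⁻¹ = S.φ wK := S.n_swap _ _ sw_eqs.1

theorem n_wK : S.n * S.φ wK * S.n⁻¹ = S.φ zK := S.n_swap _ _ sw_eqs.2.1

theorem n_not_range : S.n ∉ S.φ.range := by
  rintro ⟨k, hk⟩
  have h := S.n_zK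
  rw [← hk, ← map_inv, ← map_mul, ← map_mul] at h
  exact (by decide +kernel : ∀ k : K, k * zK * k⁻¹ ≠ wK) k (S.inj h)

theorem n_ne_one : S.n ≠ 1 := fun h => S.n_not_range (h ▸ one_mem _)

theorem n_comm : S.n * S.φ (zK * wK) = S.φ (zK * wK) * S.n := by
  rw [← mul_inv_eq_iff_eq_mul]
  calc S.n * S.φ (zK * wK) * S.n⁻¹ = S.n * S.φ zK * S.n⁻¹ * (S.n * S.φ wK * S.n⁻¹) := by
        rw [map_mul]; group
    _ = S.φ (wK * zK) := by rw [S.n_zK, S.n_wK, map_mul]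
    _ = _ := congrArg S.φ (by decide +kernel)

/-- Elements normalising `⟨φ zK⟩` are in the range. -/
theorem mem_range_of_conj {g : G}
    (h : g * S.φ zK * g⁻¹ = S.φ zK ∨ g * S.φ zK * g⁻¹ = (S.φ zK)⁻¹) : g ∈ S.φ.range := by
  rw [S.norm]
  refine (mem_normalizer_iff_map_conj_eq ..).2 ?_
  rw [MonoidHom.map_zpowers]
  show zpowers (g * S.φ zK * g⁻¹) = zpowers (S.φ zK)
  rcases h with h | h <;> rw [h]
  exact zpowers_inv

theorem mem_range_of_comm {g : G} (h : g * S.φ zK = S.φ zK * g) : g ∈ S.φ.range :=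
  S.mem_range_of_conj (Or.inl (mul_inv_eq_iff_eq_mul.2 h))

/-- No element of order two centralises a subgroup of order nine. -/
theorem no_nine {i : G} (hi : i * i = 1) (hi1 : i ≠ 1) {Q : Subgroup G} (hQ : IsPGroup 3 Q)
    (hQi : Q ≤ centralizer ({i} : Set G)) : Nat.card Q ≠ 9 := by
  intro hc
  obtain ⟨h, hh⟩ := S.sylow_conj Q hQ hc
  have key : ∀ x, InD x → h⁻¹ * i * h * S.φ x = S.φ x * (h⁻¹ * i * h) := by
    intro x hx
    have := mem_centralizer_singleton_iff.1 (hQi (hh x hx))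
    calc h⁻¹ * i * h * S.φ x = h⁻¹ * (i * (h * S.φ x * h⁻¹)) * h := by group
      _ = h⁻¹ * (h * S.φ x * h⁻¹ * i) * h := by rw [this]
      _ = _ := by group
  obtain ⟨x, hx, he⟩ := S.selfcent (h⁻¹ * i * h) (key _ (Or.inr (Or.inl rfl)))
    (key _ (Or.inr (Or.inr (Or.inr (Or.inl rfl)))))
  have hx2 : x * x = 1 := S.inj (by
    rw [map_mul, ← he, map_one]
    calc h⁻¹ * i * h * (h⁻¹ * i * h) = h⁻¹ * (i * i) * h := by group
      _ = 1 := by rw [hi]; group)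
  rw [invD x hx hx2, map_one] at he
  exact hi1 (by calc i = h * (h⁻¹ * i * h) * h⁻¹ := by group
    _ = 1 := by rw [he]; group)

/-- The Sylow 3-subgroups of the centraliser of an involution have order at most three. -/
theorem card_le_three {i : G} (hi : i * i = 1) (hi1 : i ≠ 1) {Q : Subgroup G} (hQ : IsPGroup 3 Q)
    (hQi : Q ≤ centralizer ({i} : Set G)) : Nat.card Q ≤ 3 := by
  haveI : Fact (Nat.Prime 3) := ⟨Nat.prime_three⟩
  obtain ⟨k, hk⟩ := IsPGroup.iff_card.1 hQ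
  have h9 := S.sylow Q hQ
  have hne := S.no_nine hi hi1 hQ hQi
  rw [hk] at h9 hne ⊢
  rcases k with _ | _ | _ | k
  · norm_num
  · norm_num
  · exact absurd rfl hne
  · have : 3 ^ 3 ≤ 3 ^ (k + 1 + 1 + 1) := Nat.pow_le_pow_right (by norm_num) (by omega)
    omega

theorem orderOf_φ {x : K} (h3 : x ^ 3 = 1) (h1 : x ≠ 1) : orderOf (S.φ x) = 3 :=
  haveI : Fact (Nat.Prime 3) := ⟨Nat.prime_three⟩
  orderOf_eq_prime (by rw [← map_pow, h3, map_one]) fun e => h1 (S.inj (e.trans (map_one _).symm))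

/-- The involution exchanging the 3-cycles is not conjugate to an involution of `N(z)`. -/
theorem n_not_conj {x : K} (h : G) : h * S.φ x * h⁻¹ ≠ S.n := by
  intro he
  have hx2 : x * x = 1 := S.inj (by
    rw [map_mul, map_one]
    calc S.φ x * S.φ x = h⁻¹ * (h * S.φ x * h⁻¹ * (h * S.φ x * h⁻¹)) * h := by group
      _ = 1 := by rw [he, S.n_sq]; group)
  have hx1 : x ≠ 1 := by
    rintro rfl
    rw [map_one] at he
    exact S.n_ne_one (by rw [← he]; group)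
  -- `x` may be taken to be `a'K`
  obtain ⟨h', he'⟩ : ∃ h', h' * S.φ a'K * h'⁻¹ = S.n := by
    obtain ⟨g, hg⟩ := invol_class x hx2 hx1
    have hback : ∀ t : K, g * x * g⁻¹ = t → h * S.φ g⁻¹ * S.φ t * (h * S.φ g⁻¹)⁻¹ = S.n := by
      intro t ht
      rw [← he, ← ht]
      simp only [map_mul, map_inv]; group
    rcases hg with hg | hg
    · obtain ⟨k, hk⟩ := a_class
      refine ⟨h * S.φ g⁻¹ * S.φ k * S.n, ?_⟩
      rw [show h * S.φ g⁻¹ * S.φ k * S.n * S.φ a'K * (h * S.φ g⁻¹ * S.φ k * S.n)⁻¹ =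
        h * S.φ g⁻¹ * (S.φ k * (S.n * S.φ a'K * S.n⁻¹) * (S.φ k)⁻¹) * (h * S.φ g⁻¹)⁻¹ by group,
        S.n_swap _ _ sw_eqs.2.2.2.1, ← map_inv S.φ k, ← map_mul, ← map_mul, hk]
      exact hback _ hg
    · exact ⟨_, hback _ hg⟩
  set C := centralizer ({S.n} : Set G)
  have hx1m : h' * S.φ zK * h'⁻¹ ∈ C := by
    rw [mem_centralizer_singleton_iff, ← he']
    have e : S.φ zK * S.φ a'K = S.φ a'K * S.φ zK := by
      rw [← map_mul, ← map_mul]; exact congrArg S.φ (by decide +kernel)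
    calc h' * S.φ zK * h'⁻¹ * (h' * S.φ a'K * h'⁻¹) = h' * (S.φ zK * S.φ a'K) * h'⁻¹ := by group
      _ = _ := by rw [e]; group
  have hx2m : S.φ (zK * wK) ∈ C := mem_centralizer_singleton_iff.2 S.n_comm.symm
  haveI : Fact (Nat.Prime 3) := ⟨Nat.prime_three⟩
  have ho1 : orderOf (⟨_, hx1m⟩ : C) = 3 := by
    rw [Subgroup.orderOf_mk, show h' * S.φ zK * h'⁻¹ = MulAut.conj h' (S.φ zK) from rfl,
      MulEquiv.orderOf_eq, S.orderOf_φ (by decide +kernel) (by decide +kernel)]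
  have ho2 : orderOf (⟨_, hx2m⟩ : C) = 3 := by
    rw [Subgroup.orderOf_mk, S.orderOf_φ (by decide +kernel) (by decide +kernel)]
  have hle : ∀ P : Sylow 3 C, Nat.card (P : Subgroup C) ≤ 3 := fun P => by
    rw [← Nat.card_congr ((P : Subgroup C).equivMapOfInjective C.subtype (subtype_injective _)).toEquiv.symm]
    exact S.card_le_three S.n_sq S.n_ne_one (P.2.map _) (map_subtype_le _)
  obtain ⟨P1, hP1⟩ := (IsPGroup.of_card (p := 3) (n := 1)
    (show Nat.card (zpowers (⟨_, hx1m⟩ : C)) = 3 ^ 1 by rw [Nat.card_zpowers, ho1, pow_one])).exists_le_sylow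
  obtain ⟨P2, hP2⟩ := (IsPGroup.of_card (p := 3) (n := 1)
    (show Nat.card (zpowers (⟨_, hx2m⟩ : C)) = 3 ^ 1 by rw [Nat.card_zpowers, ho2, pow_one])).exists_le_sylow
  have e1 := eq_of_le_of_card_ge hP1 (by rw [Nat.card_zpowers, ho1]; exact hle P1)
  have e2 := eq_of_le_of_card_ge hP2 (by rw [Nat.card_zpowers, ho2]; exact hle P2)
  obtain ⟨s, hs⟩ := MulAction.exists_smul_eq C P1 P2
  have hs' : s * ⟨_, hx1m⟩ * s⁻¹ ∈ zpowers (⟨_, hx2m⟩ : C) := by
    rw [e2, ← hs]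
    exact ⟨⟨_, hx1m⟩, by rw [← e1]; exact mem_zpowers _, rfl⟩
  have hx2c : (⟨_, hx2m⟩ : C) ^ 3 = 1 := orderOf_dvd_iff_pow_eq_one.1 (dvd_of_eq ho2)
  have h180 : Nat.card (centralizer ({h' * S.φ zK * h'⁻¹} : Set G)) = 180 := by
    rw [card_centralizer_conj, S.card_cz]
  have hval : ∀ t : C, s * ⟨_, hx1m⟩ * s⁻¹ = t →
      Nat.card (centralizer ({(t : G)} : Set G)) = 180 := by
    intro t ht
    rw [← ht]
    show Nat.card (centralizer ({(s : G) * (h' * S.φ zK * h'⁻¹) * (s : G)⁻¹} : Set G)) = 180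
    rw [card_centralizer_conj, h180]
  rcases cases_three hx2c hs' with e | e | e
  · have h1 : (⟨_, hx1m⟩ : C) = 1 := by
      calc (⟨_, hx1m⟩ : C) = s⁻¹ * (s * ⟨_, hx1m⟩ * s⁻¹) * s := by group
        _ = 1 := by rw [e]; group
    rw [h1, orderOf_one] at ho1
    omega
  · have := hval _ e
    rw [S.card_cw] at this; omega
  · have := hval _ e
    rw [InvMemClass.coe_inv, centralizer_inv, S.card_cw] at this; omega

/-- The image of a four group of the model in `C(z)`. -/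
abbrev CV : Subgroup G := centralizer ({S.φ v1, S.φ v2} : Set G)

theorem mem_CV {g : G} :
    g ∈ S.CV ↔ g * S.φ v1 = S.φ v1 * g ∧ g * S.φ v2 = S.φ v2 * g := by
  rw [CV, mem_centralizer_iff]
  constructor
  · intro h; exact ⟨(h _ (Set.mem_insert _ _)).symm, (h _ (Set.mem_insert_of_mem _ rfl)).symm⟩
  · rintro ⟨h1, h2⟩ x (rfl | rfl)
    · exact h1.symm
    · exact h2.symm

theorem zK_mem_CV : S.φ zK ∈ S.CV := by
  rw [mem_CV, ← map_mul, ← map_mul, ← map_mul, ← map_mul]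
  obtain ⟨-, -, -, -, h1, h2⟩ := v_facts
  exact ⟨congrArg S.φ h1, congrArg S.φ h2⟩

theorem V_mem_CV {u : K} (hu : InV u) : S.φ u ∈ S.CV := by
  rw [mem_CV, ← map_mul, ← map_mul, ← map_mul, ← map_mul]
  have := (by decide +kernel : ∀ u : K, InV u → u * v1 = v1 * u ∧ u * v2 = v2 * u) u hu
  exact ⟨congrArg S.φ this.1, congrArg S.φ this.2⟩

theorem comm_V {g : G} (hg : g ∈ S.CV) {u : K} (hu : InV u) : g * S.φ u = S.φ u * g := by
  obtain ⟨h1, h2⟩ := S.mem_CV.1 hg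
  rcases hu with rfl | rfl | rfl | rfl
  · rw [map_one, mul_one, one_mul]
  · exact h1
  · exact h2
  · rw [show v3 = v1 * v2 from v_facts.2.2.2.1.symm, map_mul]
    exact ((show Commute g _ from h1).mul_right h2).eq

theorem CV_norm {g : G} (hg : g ∈ S.CV)
    (h : g * S.φ zK * g⁻¹ = S.φ zK ∨ g * S.φ zK * g⁻¹ = (S.φ zK)⁻¹) :
    g * S.φ zK = S.φ zK * g ∧ ∃ u, InV u ∧ ∃ i : Fin 3, g = S.φ u * S.φ zK ^ i.val := by
  obtain ⟨k, rfl⟩ := S.mem_range_of_conj h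
  obtain ⟨h1, h2⟩ := S.mem_CV.1 hg
  rw [← map_mul, ← map_mul] at h1 h2
  have h' : k * zK * k⁻¹ = zK ∨ k * zK * k⁻¹ = zK⁻¹ := by
    refine h.imp ?_ ?_ <;> intro e <;> apply S.inj <;> simp only [map_mul, map_inv] <;> exact e
  obtain ⟨hc, u, hu, i, hk⟩ := cent_v k (S.inj h1) (S.inj h2) h'
  exact ⟨by rw [← map_mul, ← map_mul, hc], u, hu, i, by rw [hk, map_mul, map_pow]⟩

theorem no_nine_CV {Q : Subgroup G} (hQ : IsPGroup 3 Q) (hle : Q ≤ S.CV) : Nat.card Q ≤ 3 :=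
  S.card_le_three (by rw [← map_mul, v_facts.1, map_one])
    (fun e => v_facts.2.2.1 (S.inj (e.trans (map_one _).symm))) hQ
    (hle.trans (centralizer_le (Set.singleton_subset_iff.2 (Set.mem_insert _ _))))

/-- The normal 3-complement of the centraliser of the four group. -/
theorem exists_complement :
    ∃ W : Subgroup G, W ≤ S.CV ∧ (Nat.card W).Coprime 3 ∧
      (∀ g ∈ S.CV, (orderOf g).Coprime 3 → g ∈ W) ∧
      ∀ g ∈ S.CV, ∃ w ∈ W, ∃ i : Fin 3, g = w * S.φ zK ^ i.val := by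
  haveI : Fact (Nat.Prime 3) := ⟨Nat.prime_three⟩
  set X := S.CV
  set x : X := ⟨S.φ zK, S.zK_mem_CV⟩ with hx
  have ho : orderOf x = 3 := by
    rw [hx, Subgroup.orderOf_mk, S.orderOf_φ (by decide +kernel) (by decide +kernel)]
  obtain ⟨P, hP⟩ := (IsPGroup.of_card (p := 3) (n := 1)
    (show Nat.card (zpowers x) = 3 ^ 1 by rw [Nat.card_zpowers, ho, pow_one])).exists_le_sylow
  have hPeq : zpowers x = (P : Subgroup X) := eq_of_le_of_card_ge hP (by
    rw [Nat.card_zpowers, ho,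
      ← Nat.card_congr ((P : Subgroup X).equivMapOfInjective X.subtype (subtype_injective _)).toEquiv.symm]
    exact S.no_nine_CV (P.2.map _) (map_subtype_le _))
  have hx3 : x ^ 3 = 1 := ho ▸ pow_orderOf_eq_one _
  have hNC : normalizer ((P : Subgroup X) : Set X) ≤ centralizer ((P : Subgroup X) : Set X) := by
    rw [← hPeq]
    intro g hg
    have hm := (mem_normalizer_iff.1 hg x).1 (mem_zpowers x)
    have hc : (g : G) * S.φ zK = S.φ zK * g := by
      rcases cases_three hx3 hm with e | e | e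
      · exfalso
        have h1 : x = 1 := by
          calc x = g⁻¹ * (g * x * g⁻¹) * g := by group
            _ = 1 := by rw [e]; group
        rw [h1, orderOf_one] at ho; omega
      · exact (S.CV_norm g.2 (Or.inl (congrArg Subtype.val e))).1
      · exact (S.CV_norm g.2 (Or.inr (congrArg Subtype.val e))).1
    rw [zpowers_eq_closure, centralizer_closure]
    exact mem_centralizer_singleton_iff.2 (Subtype.ext (by exact hc))
  set τ := MonoidHom.transferSylow P hNC with hτ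
  have hcomp := MonoidHom.ker_transferSylow_isComplement' P hNC
  have hPc : Nat.card (P : Subgroup X) = 3 := by rw [← hPeq, Nat.card_zpowers, ho]
  refine ⟨τ.ker.map X.subtype, map_subtype_le _, ?_, ?_, ?_⟩
  · rw [Nat.card_congr (τ.ker.equivMapOfInjective X.subtype (subtype_injective _)).toEquiv.symm,
      Nat.coprime_comm, Nat.prime_three.coprime_iff_not_dvd,
      show Nat.card τ.ker = (P : Subgroup X).index from hcomp.index_eq_card.symm]
    exact P.not_dvd_index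
  · intro g hg hco
    refine ⟨⟨g, hg⟩, MonoidHom.mem_ker.2 ?_, rfl⟩
    have h1 : orderOf (τ ⟨g, hg⟩) ∣ orderOf g := by
      have := orderOf_map_dvd τ ⟨g, hg⟩
      simpa only [Subgroup.orderOf_mk] using this
    have h2 : orderOf (τ ⟨g, hg⟩) ∣ 3 := (_root_.orderOf_dvd_natCard _).trans (dvd_of_eq hPc)
    exact orderOf_eq_one_iff.1 (Nat.eq_one_of_dvd_coprimes hco h1 h2)
  · intro g hg
    obtain ⟨⟨w, p⟩, hwp⟩ := hcomp.2 ⟨g, hg⟩
    refine ⟨(w : X), ⟨(w : X), w.2, rfl⟩, ?_⟩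
    have hp : (p : X) ∈ zpowers x := by rw [hPeq]; exact p.2
    have hv : ((w : X) : G) * ((p : X) : G) = g := congrArg Subtype.val hwp
    rcases cases_three hx3 hp with e | e | e
    · exact ⟨0, by rw [← hv, e]; simp⟩
    · exact ⟨1, by rw [← hv, e]; simp [hx]⟩
    · refine ⟨2, ?_⟩
      have e2 : (p : X) = x ^ 2 := by
        rw [e, inv_eq_iff_mul_eq_one, ← pow_succ', hx3]
      rw [← hv, e2]; simp [hx]

/-- The centraliser of the four group is larger than `V × ⟨z⟩`. -/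
theorem no_small_CV
    (hX : ∀ g ∈ S.CV, ∃ u, InV u ∧ ∃ i : Fin 3, g = S.φ u * S.φ zK ^ i.val) : False := by
  classical
  haveI : Fact (Nat.Prime 2) := ⟨Nat.prime_two⟩
  have hRmem : ∀ x, x ∈ R ↔ InR x := fun x => Iff.rfl
  have hRc : Nat.card R = 8 := by
    rw [← card_InR, ← Fintype.card_subtype, ← Nat.card_eq_fintype_card]
    rfl
  set RG := R.map S.φ with hRG
  have hRGc : Nat.card RG = 2 ^ 3 := by
    rw [hRG, Nat.card_congr (R.equivMapOfInjective _ S.inj).toEquiv.symm, hRc]; norm_num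
  obtain ⟨P, hP⟩ := (IsPGroup.of_card hRGc).exists_le_sylow
  have hno3 : ∀ g ∈ (P : Subgroup G), g ^ 3 = 1 → g = 1 := by
    intro g hg h3
    obtain ⟨k, hk⟩ := IsPGroup.iff_orderOf.1 P.2 ⟨g, hg⟩
    rw [Subgroup.orderOf_mk] at hk
    exact orderOf_eq_one_iff.1 (Nat.eq_one_of_dvd_coprimes
      (Nat.Coprime.pow_left k (by norm_num : Nat.Coprime 2 3)) (dvd_of_eq hk)
      (orderOf_dvd_of_pow_eq_one h3))
  by_cases hPR : RG = (P : Subgroup G)
  · obtain ⟨Q, hQ⟩ := (IsPGroup.of_card (p := 2) (n := 1) (show Nat.card (zpowers S.n) = 2 ^ 1 by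
      rw [Nat.card_zpowers, orderOf_eq_prime (by rw [pow_two, S.n_sq]) S.n_ne_one, pow_one])).exists_le_sylow
    obtain ⟨g, hg⟩ := MulAction.exists_smul_eq G Q P
    have : g * S.n * g⁻¹ ∈ RG := by
      rw [hPR, ← hg]; exact ⟨S.n, hQ (mem_zpowers _), rfl⟩
    obtain ⟨r, -, hr⟩ := this
    exact S.n_not_conj g⁻¹ (x := r) (by rw [hr]; group)
  have hlt : RG < (P : Subgroup G) := lt_of_le_of_ne hP hPR
  haveI := P.2.isNilpotent
  obtain ⟨m, hmN, hmR⟩ : ∃ m : (P : Subgroup G),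
      m ∈ normalizer ((RG.subgroupOf (P : Subgroup G)) : Set (P : Subgroup G)) ∧
        m ∉ RG.subgroupOf (P : Subgroup G) := by
    have hlt' : RG.subgroupOf (P : Subgroup G) < ⊤ :=
      lt_top_iff_ne_top.2 fun e => hlt.not_ge (subgroupOf_eq_top.1 e)
    obtain ⟨x, hx, hx'⟩ := SetLike.exists_of_lt (normalizerCondition_of_isNilpotent _ hlt')
    exact ⟨x, hx, hx'⟩
  have hmR' : (m : G) ∉ RG := fun h => hmR (mem_subgroupOf.2 h)
  have hm : ∀ r, InR r → ∃ r', InR r' ∧ (m : G) * S.φ r * (m : G)⁻¹ = S.φ r' := by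
    intro r hr
    have hrP : S.φ r ∈ (P : Subgroup G) := hP ⟨r, hr, rfl⟩
    obtain ⟨r', hr', e⟩ := mem_subgroupOf.1 ((mem_normalizer_iff.1 hmN ⟨S.φ r, hrP⟩).1
      (mem_subgroupOf.2 ⟨r, hr, rfl⟩))
    exact ⟨r', hr', e.symm⟩
  have hm' : ∀ r, InR r → ∃ r', InR r' ∧ (m : G) * S.φ r' * (m : G)⁻¹ = S.φ r := by
    intro r hr
    have hrP : S.φ r ∈ (P : Subgroup G) := hP ⟨r, hr, rfl⟩
    obtain ⟨r', hr', e⟩ := mem_subgroupOf.1 ((mem_normalizer_iff.1 (inv_mem hmN) ⟨S.φ r, hrP⟩).1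
      (mem_subgroupOf.2 ⟨r, hr, rfl⟩))
    refine ⟨r', hr', ?_⟩
    rw [show S.φ r' = (m : G)⁻¹ * S.φ r * (m : G)⁻¹⁻¹ from e]
    group
  obtain ⟨hv1R, hv2R, hcR, hcenter, hcentral⟩ := R_facts
  obtain ⟨hv1, hv2, hv1n, -, -, -⟩ := v_facts
  have hfix : (m : G) * S.φ v1 * (m : G)⁻¹ = S.φ v1 := by
    obtain ⟨x, hx, he⟩ := hm v1 hv1R
    rw [he]
    refine congrArg S.φ (hcenter x hx ?_ fun y hy => ?_)
    · rintro rfl
      rw [map_one, mul_inv_eq_one, mul_eq_left] at he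
      exact hv1n (S.inj (he.trans (map_one _).symm))
    · obtain ⟨y', hy', he'⟩ := hm' y hy
      apply S.inj
      rw [map_mul, map_mul, ← he, ← he']
      calc (m : G) * S.φ v1 * (m : G)⁻¹ * ((m : G) * S.φ y' * (m : G)⁻¹)
          = (m : G) * S.φ (v1 * y') * (m : G)⁻¹ := by rw [map_mul]; group
        _ = _ := by rw [hcentral y' hy', map_mul]; group
  obtain ⟨r, hr, her⟩ := hm v2 hv2R
  have hcent_mem : ∀ t : G, t ∈ (P : Subgroup G) → t * S.φ v1 = S.φ v1 * t →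
      t * S.φ v2 = S.φ v2 * t → t ∈ RG := by
    intro t htP h1 h2
    obtain ⟨u, hu, i, rfl⟩ := hX t (S.mem_CV.2 ⟨h1, h2⟩)
    have huP : S.φ u ∈ (P : Subgroup G) := hP ⟨u, Or.inl hu, rfl⟩
    have hi : S.φ zK ^ i.val ∈ (P : Subgroup G) := by
      rw [show S.φ zK ^ i.val = (S.φ u)⁻¹ * (S.φ u * S.φ zK ^ i.val) by group]
      exact mul_mem (inv_mem huP) htP
    have h1 : S.φ zK ^ i.val = 1 := hno3 _ hi (by
      rw [← pow_mul, mul_comm, pow_mul, ← map_pow S.φ zK 3, zK_pow, map_one, one_pow])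
    rw [h1, mul_one]; exact ⟨u, Or.inl hu, rfl⟩
  have hrV : ¬ InV r := by
    intro hrV
    rcases hrV with rfl | rfl | rfl | rfl
    · rw [map_one, mul_inv_eq_one, mul_eq_left] at her
      exact (by decide +kernel : v2 ≠ 1) (S.inj (her.trans (map_one _).symm))
    · exact (by decide +kernel : v2 ≠ v1) (S.inj (mul_left_cancel (mul_right_cancel (her.trans hfix.symm))))
    · exact hmR' (hcent_mem _ m.2 (mul_inv_eq_iff_eq_mul.1 hfix) (mul_inv_eq_iff_eq_mul.1 her))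
    · have hcG : S.φ cK ∈ RG := ⟨cK, hcR, rfl⟩
      have h : S.φ cK * (m : G) ∈ RG := by
        refine hcent_mem _ (mul_mem (hP hcG) m.2) ?_ ?_ <;> rw [← mul_inv_eq_iff_eq_mul]
        · calc S.φ cK * (m : G) * S.φ v1 * (S.φ cK * (m : G))⁻¹
              = S.φ cK * ((m : G) * S.φ v1 * (m : G)⁻¹) * (S.φ cK)⁻¹ := by group
            _ = S.φ (cK * v1 * cK⁻¹) := by rw [hfix, map_mul, map_mul, map_inv]
            _ = _ := by rw [c_swap.1]
        · calc S.φ cK * (m : G) * S.φ v2 * (S.φ cK * (m : G))⁻¹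
              = S.φ cK * ((m : G) * S.φ v2 * (m : G)⁻¹) * (S.φ cK)⁻¹ := by group
            _ = S.φ (cK * v3 * cK⁻¹) := by rw [her, map_mul, map_mul, map_inv]
            _ = _ := by rw [c_swap.2]
      exact hmR' (by simpa using mul_mem (inv_mem hcG) h)
  have hr2 : r * r = 1 := S.inj (by
    rw [map_mul, map_one, ← her]
    calc (m : G) * S.φ v2 * (m : G)⁻¹ * ((m : G) * S.φ v2 * (m : G)⁻¹)
        = (m : G) * S.φ (v2 * v2) * (m : G)⁻¹ := by rw [map_mul]; group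
      _ = 1 := by rw [hv2, map_one]; group)
  obtain ⟨k, hk1, hk2⟩ := other_four r hr hrV hr2 (hcentral r hr).symm
  set h := S.φ k * (m : G) with hh
  have e1 : h * S.φ v1 * h⁻¹ = S.φ (k * v1 * k⁻¹) := by
    rw [hh, map_mul, map_mul, map_inv, show S.φ k * (m : G) * S.φ v1 * (S.φ k * (m : G))⁻¹ =
      S.φ k * ((m : G) * S.φ v1 * (m : G)⁻¹) * (S.φ k)⁻¹ by group, hfix]
  have e2 : h * S.φ v2 * h⁻¹ = S.φ (k * r * k⁻¹) := by
    rw [hh, map_mul, map_mul, map_inv, show S.φ k * (m : G) * S.φ v2 * (S.φ k * (m : G))⁻¹ =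
      S.φ k * ((m : G) * S.φ v2 * (m : G)⁻¹) * (S.φ k)⁻¹ by group, her]
  have hne : k * v1 * k⁻¹ ≠ k * r * k⁻¹ := fun e =>
    hrV (Or.inr (Or.inl (mul_left_cancel (mul_right_cancel e)).symm))
  have hfour : ∀ e : K, (e = aK ∨ e = a'K ∨ e = cK) → ∃ u, InV u ∧ h⁻¹ * S.φ e * h = S.φ u := by
    intro e he
    have back : ∀ u : K, ∀ t : K, h * S.φ u * h⁻¹ = S.φ t → h⁻¹ * S.φ t * h = S.φ u := fun u t e => by
      rw [← e]; group
    rcases four_mem _ _ hk1 hk2 hne e he with rfl | rfl | rfl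
    · exact ⟨v1, Or.inr (Or.inl rfl), back _ _ e1⟩
    · exact ⟨v2, Or.inr (Or.inr (Or.inl rfl)), back _ _ e2⟩
    · refine ⟨v1 * v2, Or.inr (Or.inr (Or.inr v_facts.2.2.2.1)), back _ _ ?_⟩
      rw [map_mul, map_mul, ← e1, ← e2]; group
  set n' := h⁻¹ * S.n * h with hn'
  have hn'V : ∀ x : K, (x = v1 ∨ x = v2) → ∃ u, InV u ∧ n' * S.φ x * n'⁻¹ = S.φ u := by
    intro x hx
    obtain ⟨e, he, hxe⟩ : ∃ e : K, (e = aK ∨ e = a'K ∨ e = cK) ∧ h * S.φ x * h⁻¹ = S.φ e := by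
      rcases hx with rfl | rfl
      · exact ⟨_, hk1, e1⟩
      · exact ⟨_, hk2, e2⟩
    obtain ⟨e', he', hee'⟩ : ∃ e' : K, (e' = aK ∨ e' = a'K ∨ e' = cK) ∧ S.n * S.φ e * S.n⁻¹ = S.φ e' := by
      rcases he with rfl | rfl | rfl
      · exact ⟨_, Or.inr (Or.inl rfl), S.n_swap _ _ sw_eqs.2.2.1⟩
      · exact ⟨_, Or.inl rfl, S.n_swap _ _ sw_eqs.2.2.2.1⟩
      · exact ⟨_, Or.inr (Or.inr rfl), S.n_swap _ _ sw_eqs.2.2.2.2⟩
    obtain ⟨u, hu, hu'⟩ := hfour e' he'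
    refine ⟨u, hu, ?_⟩
    rw [← hu', ← hee', ← hxe, hn']; group
  have hn'CV : n' * S.φ zK * n'⁻¹ ∈ S.CV := by
    have key : ∀ x : K, (x = v1 ∨ x = v2) →
        n' * S.φ zK * n'⁻¹ * S.φ x = S.φ x * (n' * S.φ zK * n'⁻¹) := by
      intro x hx
      obtain ⟨u, hu, hux⟩ := hn'V x hx
      have hn'sq : n' * n' = 1 := by
        rw [hn', show h⁻¹ * S.n * h * (h⁻¹ * S.n * h) = h⁻¹ * (S.n * S.n) * h by group, S.n_sq]; group
      have hinv : n'⁻¹ = n' := inv_eq_of_mul_eq_one_right hn'sq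
      have hux' : n'⁻¹ * S.φ x * n' = S.φ u := by
        rw [← hux, hinv]
      calc n' * S.φ zK * n'⁻¹ * S.φ x = n' * (S.φ zK * (n'⁻¹ * S.φ x * n')) * n'⁻¹ := by group
        _ = n' * ((n'⁻¹ * S.φ x * n') * S.φ zK) * n'⁻¹ := by rw [hux', S.comm_V S.zK_mem_CV hu]
        _ = _ := by group
    exact S.mem_CV.2 ⟨key v1 (Or.inl rfl), key v2 (Or.inr rfl)⟩
  obtain ⟨u, hu, i, hui⟩ := hX _ hn'CV
  rw [← map_pow, ← map_mul] at hui
  have hc3 : (u * zK ^ i.val) ^ 3 = 1 := S.inj (by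
    rw [map_pow, ← hui, conj_pow, ← map_pow, zK_pow, map_one]; group)
  have hrange : n' ∈ S.φ.range := by
    refine S.mem_range_of_conj ?_
    rcases v_zpow u hu i hc3 with e | e | e <;> rw [e] at hui
    · exfalso
      rw [map_one, mul_inv_eq_one, mul_eq_left] at hui
      exact wK_ne.2.2.2 (S.inj (hui.trans (map_one _).symm))
    · exact Or.inl hui
    · exact Or.inr (by rw [hui, map_inv])
  obtain ⟨q, hq⟩ := hrange
  exact S.n_not_conj h (x := q) (by rw [hq, hn']; group)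

end Data

end Cfsg.Agent.Lib.EightThree88
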