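import Cfsg.Agent.Lib.EightThree88.ModelFour

/-!
# Decidable facts for the map from the alternating group of degree eight
-/

set_option autoImplicit false
set_option maxRecDepth 100000
set_option synthInstance.maxSize 2000
set_option synthInstance.maxHeartbeats 400000

namespace Cfsg.Agent.Lib.EightThree88.Model

open Equiv

abbrev A8 := alternatingGroup (Fin 8)

def c5 : K := mk (swap 1 2) (swap 0 1)
def y5 : K := mk (swap 0 1) (swap 1 2)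
def k3 : K := mk (swap 0 1) (swap 0 3)

/-- The embedding into the alternating group. -/
def iotaA : K →* A8 :=
  (iota.comp K.subtype).codRestrict _ fun x =>
    Equiv.Perm.mem_alternatingGroup.2 ((by decide +kernel : ∀ x : K, Perm.sign (iota (x : Pr)) = 1) x)

def sigmaA : A8 := ⟨sigma, Equiv.Perm.mem_alternatingGroup.2 (by decide +kernel)⟩

theorem sw_eqs' : Sw c5 y5 ∧ Sw y5 c5 := by decide +kernel

theorem k3_eq : k3 = y5 * v3 := by decide +kernel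

theorem rels_K :
    wK ^ 3 = 1 ∧ v1 ^ 2 = 1 ∧ a'K ^ 2 = 1 ∧ cK ^ 2 = 1 ∧ c5 ^ 2 = 1 ∧ k3 ^ 2 = 1 ∧
    (wK * v1) ^ 3 = 1 ∧ (v1 * a'K) ^ 3 = 1 ∧ (cK * c5) ^ 3 = 1 ∧
    (wK * a'K) ^ 2 = 1 ∧ (wK * cK) ^ 2 = 1 ∧ (wK * c5) ^ 2 = 1 ∧
    (v1 * cK) ^ 2 = 1 ∧ (v1 * c5) ^ 2 = 1 ∧ (a'K * cK) ^ 2 = 1 ∧ (a'K * c5) ^ 2 = 1 ∧
    (zK * k3) ^ 2 = 1 ∧ (aK * k3) ^ 3 = 1 ∧ (k3 * cK) ^ 3 = 1 ∧ (k3 * y5) ^ 2 = 1 ∧
    c5 * v1 = v1 * c5 := by decide +kernel

theorem gen_forms : ∀ x : K, ∃ p ∈ [1, cK, c5, cK * c5, c5 * cK, cK * c5 * cK],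
    ∃ v ∈ [1, v1, wK * v1 * wK⁻¹, wK⁻¹ * v1 * wK], ∃ i : Fin 3,
    ∃ t ∈ [1, a'K, a'K * v1, a'K * (wK * v1 * wK⁻¹), a'K * (wK⁻¹ * v1 * wK)],
      x = p * v * wK ^ i.val * t := by decide +kernel

theorem closure_gens : Subgroup.closure ({wK, v1, a'K, cK, c5} : Set K) = ⊤ := by
  rw [eq_top_iff]
  intro x _
  set T := Subgroup.closure ({wK, v1, a'K, cK, c5} : Set K)
  have hw : wK ∈ T := Subgroup.subset_closure (by simp)
  have h1 : v1 ∈ T := Subgroup.subset_closure (by simp)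
  have ha : a'K ∈ T := Subgroup.subset_closure (by simp)
  have hc : cK ∈ T := Subgroup.subset_closure (by simp)
  have h5 : c5 ∈ T := Subgroup.subset_closure (by simp)
  have hv2 : wK * v1 * wK⁻¹ ∈ T := mul_mem (mul_mem hw h1) (inv_mem hw)
  have hv3 : wK⁻¹ * v1 * wK ∈ T := mul_mem (mul_mem (inv_mem hw) h1) hw
  obtain ⟨p, hp, v, hv, i, t, ht, rfl⟩ := gen_forms x
  simp only [List.mem_cons, List.not_mem_nil, or_false] at hp hv ht
  refine mul_mem (mul_mem (mul_mem ?_ ?_) (pow_mem hw _)) ?_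
  · rcases hp with rfl | rfl | rfl | rfl | rfl | rfl
    exacts [one_mem _, hc, h5, mul_mem hc h5, mul_mem h5 hc, mul_mem (mul_mem hc h5) hc]
  · rcases hv with rfl | rfl | rfl | rfl
    exacts [one_mem _, h1, hv2, hv3]
  · rcases ht with rfl | rfl | rfl | rfl | rfl
    exacts [one_mem _, ha, mul_mem ha h1, mul_mem ha hv2, mul_mem ha hv3]

/-- Moore's generators come from the model. -/
theorem altGen_eqs :
    (Equiv.swap (0 : Fin 8) 1 * Equiv.swap 1 2 = iota (wK : Pr)) ∧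
    (Equiv.swap (0 : Fin 8) 1 * Equiv.swap 2 3 = iota (v1 : Pr)) ∧
    (Equiv.swap (0 : Fin 8) 1 * Equiv.swap 3 4 = iota (a'K : Pr)) ∧
    (Equiv.swap (0 : Fin 8) 1 * Equiv.swap 4 5 = sigma * iota (k3 : Pr) * sigma) ∧
    (Equiv.swap (0 : Fin 8) 1 * Equiv.swap 5 6 = iota (cK : Pr)) ∧
    (Equiv.swap (0 : Fin 8) 1 * Equiv.swap 6 7 = iota (c5 : Pr)) := by decide +kernel

theorem v3_mem : InV v3 ∧ InN c5 ∧ InN y5 := by decide +kernel

theorem flip_ne : ∀ d : K, InD d → ∃ x : K, d * x * d⁻¹ ≠ flip x := by decide +kernel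

end Cfsg.Agent.Lib.EightThree88.Model
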