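import Cfsg.Agent.Lib.EightThree88.Pairing
import Cfsg.Agent.Lib.EightThree88.ModelHom
import Cfsg.Agent.Lib.Spectrum.CoxeterAlt
import Mathlib.GroupTheory.SpecificGroups.Alternating

/-!
# The map from the alternating group of degree eight
-/

set_option autoImplicit false
set_option maxHeartbeats 800000
set_option maxRecDepth 100000
set_option synthInstance.maxSize 2000
set_option synthInstance.maxHeartbeats 400000

namespace Cfsg.Agent.Lib.EightThree88

open Subgroup Model Cfsg.Agent.Lib.Spectrum.CoxeterAlt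

universe u

/-- The embedded copy of the alternating group, containing the local subgroups. -/
structure Emb (G : Type u) [Group G] where
  f : A8 →* G
  inj : Function.Injective f
  norm : normalizer ((zpowers (f (iotaA zK)) : Subgroup G) : Set G) ≤ f.range
  /-- the centraliser of the diagonal element -/
  cw : ∀ g ∈ centralizer ({f (iotaA (zK * wK))} : Set G),
    ∃ d, InD d ∧ (g = f (iotaA d) ∨ g = f (sigmaA * iotaA d))
  /-- the centraliser of the four group -/
  cv : centralizer ({f (iotaA v1), f (iotaA v2)} : Set G) ≤ f.range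
  cv_mem : ∀ g ∈ centralizer ({f (iotaA v1), f (iotaA v2)} : Set G),
    ∃ u v, InV u ∧ InV v ∧ ∃ i : Fin 3,
      g = f (iotaA u * (sigmaA * iotaA v * sigmaA⁻¹) * iotaA zK ^ i.val)
  sylow : ∀ Q : Subgroup G, IsPGroup 3 Q → Nat.card Q ≤ 9
  no_nine : ∀ i : G, i * i = 1 → i ≠ 1 → ∀ Q : Subgroup G, IsPGroup 3 Q →
    Q ≤ centralizer ({i} : Set G) → Nat.card Q ≤ 3
  /-- the two classes of involutions are not fused -/
  not_conj : ∀ g : G, g * f (iotaA a'K) * g⁻¹ ≠ f sigmaA

variable {G : Type u} [Group G] [Finite G]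

theorem exists_emb (S : Data G) : Nonempty (Emb G) := by
  classical
  obtain ⟨ε, hε, hcomm, hCV⟩ := S.pairing
  set ψ : K →* G := (MulAut.conj S.n).toMonoidHom.comp (S.φ.comp ε) with hψ
  have ψa : ∀ k, ψ k = S.n * S.φ (ε k) * S.n⁻¹ := fun k => rfl
  have hfix : ∀ x, InN x → ε x = x := by
    rcases hε with rfl | rfl
    · exact fun _ _ => rfl
    · exact flip_sw
  have swap : ∀ {x x'}, Sw x x' → ψ x = S.φ x' := fun {x x'} h => by
    rw [ψa, hfix x (inN_of_sw h)]; exact S.n_swap x x' h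
  obtain ⟨s1, s2, s3, s4, s5⟩ := sw_eqs
  obtain ⟨r0, r1, r2, r4, r5, r3, r01, r12, r45, r02, r04, r05, r14, r15, r24, r25, r03, r23, r34, r35, rc⟩ := rels_K
  let X : Fin 6 → G := ![S.φ wK, S.φ v1, S.φ a'K, ψ k3, S.φ cK, S.φ c5]
  have hX3 : ψ k3 = S.φ c5 * ψ v3 := by rw [k3_eq, map_mul, swap sw_eqs'.2]
  have hmap : ∀ (F : K →* G) {k : K} {m : ℕ}, k ^ m = 1 → F k ^ m = 1 := fun F k m h => by
    rw [← map_pow, h, map_one]
  have h13 : (S.φ v1 * ψ k3) ^ 2 = 1 := by
    have hc : Commute (S.φ v1) (ψ k3) := by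
      rw [hX3]
      refine Commute.mul_right ?_ (hcomm v1 v3 (Or.inr (Or.inl rfl)) v3_mem.1)
      show _ = _
      rw [← map_mul, ← map_mul, rc]
    rw [hc.mul_pow, hmap _ r1, hmap _ r3, one_mul]
  have h03 : (S.φ wK * ψ k3) ^ 2 = 1 := by rw [← swap s1, ← map_mul]; exact hmap _ r03
  have h23 : (S.φ a'K * ψ k3) ^ 3 = 1 := by rw [← swap s3, ← map_mul]; exact hmap _ r23
  have h34 : (ψ k3 * S.φ cK) ^ 3 = 1 := by rw [← swap s5, ← map_mul]; exact hmap _ r34
  have h35 : (ψ k3 * S.φ c5) ^ 2 = 1 := by rw [← swap sw_eqs'.2, ← map_mul]; exact hmap _ r35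
  have h01 : (S.φ wK * S.φ v1) ^ 3 = 1 := by
    rw [← map_mul]; exact hmap _ r01
  have h12 : (S.φ v1 * S.φ a'K) ^ 3 = 1 := by
    rw [← map_mul]; exact hmap _ r12
  have h45 : (S.φ cK * S.φ c5) ^ 3 = 1 := by
    rw [← map_mul]; exact hmap _ r45
  have h02 : (S.φ wK * S.φ a'K) ^ 2 = 1 := by
    rw [← map_mul]; exact hmap _ r02
  have h04 : (S.φ wK * S.φ cK) ^ 2 = 1 := by
    rw [← map_mul]; exact hmap _ r04
  have h05 : (S.φ wK * S.φ c5) ^ 2 = 1 := by
    rw [← map_mul]; exact hmap _ r05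
  have h14 : (S.φ v1 * S.φ cK) ^ 2 = 1 := by
    rw [← map_mul]; exact hmap _ r14
  have h15 : (S.φ v1 * S.φ c5) ^ 2 = 1 := by
    rw [← map_mul]; exact hmap _ r15
  have h24 : (S.φ a'K * S.φ cK) ^ 2 = 1 := by
    rw [← map_mul]; exact hmap _ r24
  have h25 : (S.φ a'K * S.φ c5) ^ 2 = 1 := by
    rw [← map_mul]; exact hmap _ r25
  have hrels : ∀ r ∈ rels 6, FreeGroup.lift X r = 1 := by
    rintro r (((⟨i, hi, rfl⟩ | ⟨i, hi, rfl⟩) | ⟨i, j, hij, rfl⟩) | ⟨i, j, hij, rfl⟩) <;>
      simp only [map_mul, map_pow, FreeGroup.lift_apply_of]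
    · rw [Fin.ext (b := (0 : Fin 6)) hi]; exact hmap _ r0
    · fin_cases i
      · simp at hi
      all_goals simp only [X]
      exacts [hmap _ r1, hmap _ r2, hmap _ r3, hmap _ r4, hmap _ r5]
    · fin_cases i <;> fin_cases j <;> simp at hij <;>
        simp only [X, Matrix.cons_val, Matrix.cons_val_zero, Matrix.cons_val_one]
      · exact h01
      · exact h12
      · exact h23
      · exact h34
      · exact h45
    · fin_cases i <;> fin_cases j <;> simp at hij <;>
        simp only [X, Matrix.cons_val, Matrix.cons_val_zero, Matrix.cons_val_one] <;>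
        first
          | exact h03
          | exact h13
          | exact h35
          | exact h02 | exact h04 | exact h05 | exact h14 | exact h15 | exact h24 | exact h25
  let f : A8 →* G := (PresentedGroup.toGroup hrels).comp (presentedAltEquiv 6).symm.toMonoidHom
  have hgen : ∀ i : Fin 6, ∀ a : A8, (a : P8) = altGen i → f a = X i := by
    intro i a ha
    have h1 : presentedAltEquiv 6 (PresentedGroup.of i) = a := by
      apply Subtype.ext
      rw [ha]
      show toPermAlt 6 (PresentedGroup.of i) = _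
      exact PresentedGroup.toGroup.of _
    show PresentedGroup.toGroup hrels ((presentedAltEquiv 6).symm a) = X i
    rw [← h1, MulEquiv.symm_apply_apply]
    exact PresentedGroup.toGroup.of _
  obtain ⟨g0, g1, g2, g3, g4, g5⟩ := altGen_eqs
  have hsA : sigmaA * sigmaA = 1 := Subtype.ext sigma_sq
  have hsAinv : sigmaA⁻¹ = sigmaA := inv_eq_of_mul_eq_one_right hsA
  have hf : f.comp iotaA = S.φ := by
    refine MonoidHom.eq_of_eqOn_dense closure_gens ?_
    rintro x (rfl | rfl | rfl | rfl | rfl)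
    · exact hgen 0 _ g0.symm
    · exact hgen 1 _ g1.symm
    · exact hgen 2 _ g2.symm
    · exact hgen 4 _ g4.symm
    · exact hgen 5 _ g5.symm
  have hφ : ∀ x, f (iotaA x) = S.φ x := fun x => DFunLike.congr_fun hf x
  -- the second embedding
  set j : K →* A8 := (MulAut.conj sigmaA).toMonoidHom.comp iotaA with hj
  have jval : ∀ x, (j x : P8) = sigma * iota (x : Pr) * sigma := fun x => by
    show sigma * iota (x : Pr) * sigma⁻¹ = _
    rw [show sigma⁻¹ = sigma from inv_eq_of_mul_eq_one_right sigma_sq]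
  have jsw : ∀ {x x'}, Sw x x' → j x = iotaA x' := fun {x x'} h => Subtype.ext ((jval x).trans h)
  have hψf : f.comp j = ψ := by
    refine MonoidHom.eq_of_eqOn_dense (s := ({zK, aK, cK, y5, k3} : Set K)) ?_ ?_
    · rw [eq_top_iff, ← closure_gens, closure_le]
      set T := Subgroup.closure ({zK, aK, cK, y5, k3} : Set K)
      have hz : zK ∈ T := subset_closure (by simp)
      have ha : aK ∈ T := subset_closure (by simp)
      have hc : cK ∈ T := subset_closure (by simp)
      have hy : y5 ∈ T := subset_closure (by simp)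
      have hk : k3 ∈ T := subset_closure (by simp)
      have hcy : cK * y5 ∈ T := mul_mem hc hy
      have hw : wK ∈ T := by rw [show wK = cK * y5 by decide +kernel]; exact hcy
      have hv3 : v3 ∈ T := by rw [show v3 = y5⁻¹ * k3 by decide +kernel]; exact mul_mem (inv_mem hy) hk
      rintro x (rfl | rfl | rfl | rfl | rfl)
      · exact hw
      · rcases (by decide +kernel : v1 = wK * v3 * wK⁻¹ ∨ v1 = wK⁻¹ * v3 * wK) with h | h <;> rw [h]
        · exact mul_mem (mul_mem hw hv3) (inv_mem hw)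
        · exact mul_mem (mul_mem (inv_mem hw) hv3) hw
      · rw [show a'K = aK * cK by decide +kernel]; exact mul_mem ha hc
      · exact hc
      · rcases (by decide +kernel : c5 = zK⁻¹ * cK * zK ∨ c5 = zK * cK * zK⁻¹) with h | h <;> rw [h]
        · exact mul_mem (mul_mem (inv_mem hz) hc) hz
        · exact mul_mem (mul_mem hz hc) (inv_mem hz)
    · rintro x (rfl | rfl | rfl | rfl | rfl)
      · show f (j zK) = ψ zK; rw [jsw s1, hφ, swap s1]
      · show f (j aK) = ψ aK; rw [jsw s3, hφ, swap s3]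
      · show f (j cK) = ψ cK; rw [jsw s5, hφ, swap s5]
      · show f (j y5) = ψ y5; rw [jsw sw_eqs'.2, hφ, swap sw_eqs'.2]
      · show f (j k3) = ψ k3
        exact hgen 3 _ (by rw [jval]; exact g3.symm)
  have hψ' : ∀ x, f (sigmaA * iotaA x * sigmaA⁻¹) = S.n * S.φ (ε x) * S.n⁻¹ := fun x =>
    DFunLike.congr_fun hψf x
  haveI : IsSimpleGroup A8 := alternatingGroup.isSimpleGroup (by simp)
  have hinj : Function.Injective f := by
    rw [← MonoidHom.ker_eq_bot_iff]
    refine (Subgroup.Normal.eq_bot_or_eq_top inferInstance).resolve_right fun h => ?_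
    have : f (iotaA zK) = 1 := MonoidHom.mem_ker.1 (h ▸ mem_top _)
    rw [hφ] at this
    exact wK_ne.2.2.2 (S.inj (this.trans (map_one _).symm))
  -- the swap is in the image
  have hn : ε = MonoidHom.id K ∧ S.n = f sigmaA := by
    have hinvol : ∀ x, ε (ε x) = x := by
      rcases hε with rfl | rfl
      · exact fun _ => rfl
      · exact flip_flip
    set m := (f sigmaA)⁻¹ * S.n with hm
    have hconj : ∀ x, m * S.φ x * m⁻¹ = S.φ (ε x) := by
      intro x
      have h := hψ' (ε x)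
      rw [hinvol, map_mul, map_mul, map_inv, hφ] at h
      rw [hm, show (f sigmaA)⁻¹ * S.n * S.φ x * ((f sigmaA)⁻¹ * S.n)⁻¹ =
        (f sigmaA)⁻¹ * (S.n * S.φ x * S.n⁻¹) * f sigmaA by group, ← h]
      group
    obtain ⟨d, hd, hmd⟩ := S.selfcent m
      (mul_inv_eq_iff_eq_mul.1 (by rw [hconj, hfix _ basic_eqs.2.2.2.2.2.2.2.2.2.2.2.2.1]))
      (mul_inv_eq_iff_eq_mul.1 (by rw [hconj, hfix _ basic_eqs.2.2.2.2.2.2.2.2.2.2.2.2.2]))
    have hd' : ∀ x, d * x * d⁻¹ = ε x := fun x => S.inj (by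
      rw [map_mul, map_mul, map_inv, ← hmd, hconj])
    rcases hε with rfl | rfl
    · refine ⟨rfl, ?_⟩
      have : d = 1 := (by decide +kernel : ∀ d : K, InD d → d * v1 * d⁻¹ = v1 →
        d * a'K * d⁻¹ = a'K → d * cK * d⁻¹ = cK → d = 1) d hd (hd' _) (hd' _) (hd' _)
      rw [this, map_one, hm, inv_mul_eq_one] at hmd
      exact hmd.symm
    · obtain ⟨x, hx⟩ := flip_ne d hd
      exact absurd (hd' x) hx
  obtain ⟨rfl, hnf⟩ := hn
  refine ⟨⟨f, hinj, ?_, ?_, ?_, ?_, S.sylow, fun i hi hi1 Q => S.card_le_three hi hi1, fun g => ?_⟩⟩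
  · rw [hφ, ← S.norm]
    rintro _ ⟨x, rfl⟩
    exact ⟨iotaA x, hφ x⟩
  · intro g hg
    rw [hφ, mem_centralizer_singleton_iff] at hg
    obtain ⟨d, hd, h | h⟩ := S.cent_diag hg
    · exact ⟨d, hd, Or.inl (by rw [h, hφ])⟩
    · exact ⟨d, hd, Or.inr (by rw [h, map_mul, hφ, hnf])⟩
  · intro g hg
    rw [hφ, hφ] at hg
    obtain ⟨u, v, -, -, i, rfl⟩ := hCV g hg
    have hu' : S.φ u ∈ f.range := ⟨_, hφ u⟩
    have hv' : S.n * S.φ (MonoidHom.id K v) * S.n⁻¹ ∈ f.range := ⟨_, hψ' v⟩
    have hz' : S.φ zK ∈ f.range := ⟨_, hφ zK⟩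
    exact mul_mem (mul_mem hu' hv') (pow_mem hz' _)
  · intro g hg
    rw [hφ, hφ] at hg
    obtain ⟨u, v, hu, hv, i, rfl⟩ := hCV g hg
    exact ⟨u, v, hu, hv, i, by rw [map_mul, map_mul, map_pow, hφ, hφ, hψ']⟩
  · rw [hφ, ← hnf]
    exact S.n_not_conj g

end Cfsg.Agent.Lib.EightThree88
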