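import Cfsg.Agent.Lib.EightThree88.ModelLocal
import Cfsg.Agent.Lib.Characters.Basic

/-!
# The normaliser of a 3-element and the normaliser of the Sylow 3-subgroup
-/

set_option autoImplicit false

namespace Cfsg.Agent.Lib.EightThree88

open Subgroup Model

universe u

/-- The local data used by the proof. -/
structure Data (G : Type u) [Group G] where
  φ : K →* G
  inj : Function.Injective φ
  norm : φ.range = normalizer ((zpowers (φ zK) : Subgroup G) : Set G)
  n : G
  n_sq : n * n = 1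
  n_swap : ∀ x x' : K, Sw x x' → n * φ x * n⁻¹ = φ x'
  selfcent : ∀ g : G, g * φ zK = φ zK * g → g * φ wK = φ wK * g → ∃ x, InD x ∧ g = φ x
  sylow : ∀ Q : Subgroup G, IsPGroup 3 Q → Nat.card Q ≤ 9
  sylow_conj : ∀ Q : Subgroup G, IsPGroup 3 Q → Nat.card Q = 9 →
    ∃ h : G, ∀ x : K, InD x → h * φ x * h⁻¹ ∈ Q
  card_cz : Nat.card (centralizer ({φ zK} : Set G)) = 180
  card_cw : Nat.card (centralizer ({φ (zK * wK)} : Set G)) = 18

variable {G : Type u} [Group G] [Finite G]

theorem conj_pow' (g x : G) (k : ℕ) : (g * x * g⁻¹) ^ k = g * x ^ k * g⁻¹ := conj_pow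

theorem three_mem_D {D : Subgroup G} (hexp : ∀ a ∈ D, a ^ 3 = 1) {x : G} (hx : x ∈ D)
    {k : ℕ} : x ^ k = x ^ (k % 3) := by
  conv_lhs => rw [← Nat.div_add_mod k 3, pow_add, pow_mul, hexp x hx, one_pow, one_mul]

theorem card_centralizer_conj (h x : G) :
    Nat.card (centralizer ({h * x * h⁻¹} : Set G)) = Nat.card (centralizer ({x} : Set G)) := by
  refine Nat.card_congr ((Equiv.subtypeEquiv (MulAut.conj h).toEquiv fun y => ?_).symm)
  show y ∈ centralizer ({x} : Set G) ↔ h * y * h⁻¹ ∈ centralizer ({h * x * h⁻¹} : Set G)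
  simp only [mem_centralizer_singleton_iff]
  constructor
  · intro e
    calc h * y * h⁻¹ * (h * x * h⁻¹) = h * (y * x) * h⁻¹ := by group
      _ = h * (x * y) * h⁻¹ := by rw [e]
      _ = _ := by group
  · intro e
    have e' : h * (y * x) * h⁻¹ = h * (x * y) * h⁻¹ := by
      calc h * (y * x) * h⁻¹ = h * y * h⁻¹ * (h * x * h⁻¹) := by group
        _ = h * x * h⁻¹ * (h * y * h⁻¹) := e
        _ = _ := by group
    exact mul_left_cancel (mul_right_cancel e')

theorem centralizer_inv (x : G) :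
    centralizer ({x⁻¹} : Set G) = centralizer ({x} : Set G) := by
  ext y
  simp only [mem_centralizer_singleton_iff]
  exact ⟨fun h => (inv_inv x) ▸ (Commute.inv_right (show Commute y x⁻¹ from h)).eq,
    fun h => (Commute.inv_right (show Commute y x from h)).eq⟩

set_option maxHeartbeats 800000

/-- The embedding of the model of `N(<z>)` adapted to `D`. -/
structure Frame (D : Subgroup G) (z : G) (y : G) where
  φ : K →* G
  φ_inj : Function.Injective φ
  φrange : φ.range = normalizer ((zpowers z : Subgroup G) : Set G)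
  φz : φ zK = z ∨ φ zK = z⁻¹
  φzN : zpowers (φ zK) = zpowers z
  φy : ∃ k, InD k ∧ φ k = y
  φD : ∀ x, InD x → φ x ∈ D
  Dφ : ∀ g ∈ D, ∃ x, InD x ∧ g = φ x

theorem exists_frame {D : Subgroup G} {y z : G}
    (hgen : closure {y, z} = D) (hcomm : IsMulCommutative D) (hcard : Nat.card D = 9)
    (hexp : ∀ a ∈ D, a ^ 3 = 1)
    (eL : normalizer ((zpowers z : Subgroup G) : Set G) ≃* K) :
    Nonempty (Frame D z y) := by
  classical
  have hyD : y ∈ D := hgen ▸ subset_closure (Set.mem_insert _ _)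
  have hzD : z ∈ D := hgen ▸ subset_closure (Set.mem_insert_of_mem _ rfl)
  have hDc : ∀ a ∈ D, ∀ b ∈ D, a * b = b * a := fun a ha b hb =>
    congrArg Subtype.val (hcomm.is_comm.comm (⟨a, ha⟩ : D) ⟨b, hb⟩)
  have hz1 : z ≠ 1 := by
    intro e
    have hle : D ≤ zpowers y := by
      rw [← hgen, closure_le]
      rintro _ (rfl | rfl)
      · exact mem_zpowers _
      · exact e ▸ one_mem _
    have h1 := card_le_of_le hle
    rw [hcard, Nat.card_zpowers] at h1
    have := Nat.le_of_dvd (by norm_num) (orderOf_dvd_of_pow_eq_one (hexp y hyD))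
    omega
  have hzN : z ∈ normalizer ((zpowers z : Subgroup G) : Set G) := le_normalizer (mem_zpowers z)
  have hyN : y ∈ normalizer ((zpowers z : Subgroup G) : Set G) := by
    refine centralizer_le_normalizer _ ?_
    rw [mem_centralizer_iff]
    rintro _ ⟨i, rfl⟩
    exact ((show Commute y z from hDc y hyD z hzD).zpow_right i).eq.symm
  set kz := eL ⟨z, hzN⟩ with hkz
  have hz3 : z * z * z = 1 := by rw [← hexp z hzD, pow_succ, pow_two]
  have hkz1 : kz = zK ∨ kz = zK⁻¹ := by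
    refine normal_three kz ?_ ?_ fun g => ?_
    · rw [hkz, ← map_mul, ← map_mul, ← map_one eL]
      exact congrArg eL (Subtype.ext hz3)
    · rw [hkz, ← map_one eL, Ne, eL.injective.eq_iff]
      exact fun e => hz1 (congrArg Subtype.val e)
    · have hm := (mem_normalizer_iff.1 (eL.symm g).2 z).1 (mem_zpowers z)
      have key : ∀ w : normalizer ((zpowers z : Subgroup G) : Set G),
          eL (w * ⟨z, hzN⟩ * w⁻¹) = eL w * kz * (eL w)⁻¹ := fun w => by
        rw [map_mul, map_mul, map_inv]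
      have h3 : orderOf z = 3 := orderOf_eq_prime (hexp z hzD) hz1
      obtain ⟨j, hj⟩ := (IsOfFinOrder.mem_powers_iff_mem_zpowers (isOfFinOrder_of_finite z)).2 hm
      have hk := key (eL.symm g)
      rw [eL.apply_symm_apply] at hk
      have he : eL.symm g * ⟨z, hzN⟩ * (eL.symm g)⁻¹ =
          (⟨z, hzN⟩ : normalizer ((zpowers z : Subgroup G) : Set G)) ^ (j % 3) :=
        Subtype.ext (hj.symm.trans (three_mem_D hexp hzD))
      rw [he, map_pow, ← hkz] at hk
      have hkz3 : kz ^ 3 = 1 := by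
        rw [hkz, ← map_pow, ← map_one eL]
        exact congrArg eL (Subtype.ext (hexp z hzD))
      have hj3 : j % 3 < 3 := Nat.mod_lt _ (by norm_num)
      rcases (show j % 3 = 0 ∨ j % 3 = 1 ∨ j % 3 = 2 by omega) with e | e | e
      · rw [e, pow_zero] at hk
        have : kz = 1 := by
          calc kz = g⁻¹ * (g * kz * g⁻¹) * g := by group
            _ = 1 := by rw [← hk]; group
        exact Or.inl (by rw [← hk, this])
      · rw [e, pow_one] at hk; exact Or.inl hk.symm
      · rw [e] at hk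
        exact Or.inr (by rw [← hk, eq_inv_iff_mul_eq_one, ← pow_succ, hkz3])
  set ky := eL ⟨y, hyN⟩ with hky
  have hky3 : ky * ky * ky = 1 := by
    rw [hky, ← map_mul, ← map_mul, ← map_one eL]
    exact congrArg eL (Subtype.ext (by
      show y * y * y = 1
      rw [← hexp y hyD, pow_succ, pow_two]))
  obtain ⟨g0, hg0⟩ := three_std ky hky3
  set φ : K →* G := ((normalizer ((zpowers z : Subgroup G) : Set G)).subtype.comp
    eL.symm.toMonoidHom).comp (MulAut.conj g0⁻¹).toMonoidHom with hφ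
  have φ_apply : ∀ x : K, φ x = (eL.symm (g0⁻¹ * x * g0) : G) := fun x => by
    rw [hφ]
    simp
  have φ_inj : Function.Injective φ := fun a b e => by
    rw [φ_apply, φ_apply] at e
    exact mul_left_cancel (mul_right_cancel (eL.symm.injective (Subtype.ext e)))
  have φy : φ (g0 * ky * g0⁻¹) = y := by
    rw [φ_apply, show g0⁻¹ * (g0 * ky * g0⁻¹) * g0 = ky by group, hky, eL.symm_apply_apply]
  have φrange : φ.range = normalizer ((zpowers z : Subgroup G) : Set G) := by
    ext x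
    constructor
    · rintro ⟨k, rfl⟩
      rw [φ_apply]; exact (eL.symm _).2
    · intro hx
      exact ⟨g0 * eL ⟨x, hx⟩ * g0⁻¹, by
        rw [φ_apply, show g0⁻¹ * (g0 * eL ⟨x, hx⟩ * g0⁻¹) * g0 = eL ⟨x, hx⟩ by group,
          eL.symm_apply_apply]⟩
  -- `φ zK` is `z` or `z⁻¹`
  have φz : φ zK = z ∨ φ zK = z⁻¹ := by
    have hfix : g0⁻¹ * zK * g0 = zK ∨ g0⁻¹ * zK * g0 = zK⁻¹ := by
      have : ∀ g : K, g⁻¹ * zK * g = zK ∨ g⁻¹ * zK * g = zK⁻¹ := by decide +kernel
      exact this g0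
    have hzs : eL.symm zK = ⟨z, hzN⟩ ∨ eL.symm zK = ⟨z, hzN⟩⁻¹ := by
      rcases hkz1 with h | h
      · exact Or.inl (by rw [← h, hkz, eL.symm_apply_apply])
      · exact Or.inr (by rw [show zK = kz⁻¹ by rw [h, inv_inv], map_inv, hkz, eL.symm_apply_apply])
    rw [φ_apply]
    rcases hfix with h | h <;> rw [h] <;> rcases hzs with e | e
    · exact Or.inl (by rw [e])
    · exact Or.inr (by rw [e]; rfl)
    · exact Or.inr (by rw [map_inv, e]; rfl)
    · exact Or.inl (by rw [map_inv, e]; simp)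
  have φzD : φ zK ∈ D := φz.elim (fun e => e ▸ hzD) (fun e => e ▸ inv_mem hzD)
  have φzN : zpowers (φ zK) = zpowers z :=
    φz.elim (fun e => by rw [e]) (fun e => by rw [e, zpowers_inv])
  -- the standard Sylow subgroup is `D`
  have φwD : φ wK ∈ D := by
    set k := g0 * ky * g0⁻¹ with hk
    have hkD : φ k ∈ D := φy ▸ hyD
    have hne : k ≠ 1 ∧ k ≠ zK ∧ k ≠ zK⁻¹ := by
      have hle : ∀ s, k = s → φ s ∈ zpowers z → False := fun s e hs => by
        have hD : D ≤ zpowers z := by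
          rw [← hgen, closure_le]
          rintro _ (rfl | rfl)
          · rw [← φy, e]; exact hs
          · exact mem_zpowers _
        have h1 := card_le_of_le hD
        rw [hcard, Nat.card_zpowers] at h1
        have := Nat.le_of_dvd (by norm_num) (orderOf_dvd_of_pow_eq_one (hexp z hzD))
        omega
      refine ⟨fun e => hle 1 e ?_, fun e => hle _ e ?_, fun e => hle _ e ?_⟩
      · rw [map_one]; exact one_mem _
      · exact φzN ▸ mem_zpowers _
      · rw [map_inv]; exact inv_mem (φzN ▸ mem_zpowers _)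
    have hg : InD k := hg0
    rcases hg with e | e | e | e | e | e | e | e | e
    · exact absurd e hne.1
    · exact absurd e hne.2.1
    · exact absurd e hne.2.2
    all_goals rw [e] at hkD
    · exact hkD
    · simpa using hkD
    · rw [map_mul] at hkD; simpa using mul_mem (inv_mem φzD) hkD
    · rw [map_mul] at hkD; simpa using mul_mem (inv_mem φzD) hkD
    · rw [map_mul, map_inv] at hkD; simpa using mul_mem φzD hkD
    · rw [map_mul, map_inv] at hkD; simpa using mul_mem φzD hkD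
  have φD : ∀ x, InD x → φ x ∈ D := fun x hx => by
    rcases hx with rfl | rfl | rfl | rfl | rfl | rfl | rfl | rfl | rfl <;>
      (try simp only [map_mul, map_inv, map_one]) <;>
      first
        | exact D.one_mem
        | exact φzD
        | exact inv_mem φzD
        | exact φwD
        | exact inv_mem φwD
        | exact mul_mem φzD φwD
        | exact mul_mem φzD (inv_mem φwD)
        | exact mul_mem (inv_mem φzD) φwD
        | exact mul_mem (inv_mem φzD) (inv_mem φwD)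
  have Dφ : ∀ g ∈ D, ∃ x, InD x ∧ g = φ x := by
    intro g hg
    have himg : (φ '' {x | InD x}) = (D : Set G) := by
      refine Set.eq_of_subset_of_ncard_le (Set.image_subset_iff.2 φD) ?_ (Set.toFinite _)
      rw [Set.ncard_image_of_injective _ φ_inj, ← Nat.card_coe_set_eq, ← Nat.card_coe_set_eq,
        Nat.card_eq_fintype_card (α := {x | InD x})]
      rw [show Nat.card (D : Set G) = 9 from hcard, Fintype.card_ofFinset]
      exact le_of_eq (by rw [← card_InD]; congr 1)
    obtain ⟨x, hx, rfl⟩ := himg.symm ▸ (show g ∈ (D : Set G) from hg)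
    exact ⟨x, hx, rfl⟩
  have φy' : ∃ k, InD k ∧ φ k = y := ⟨_, hg0, φy⟩
  exact ⟨⟨φ, φ_inj, φrange, φz, φzN, φy', φD, Dφ⟩⟩

theorem Frame.selfcent {D : Subgroup G} {y z : G} (F : Frame D z y)
    (hC : centralizer (D : Set G) = D) :
    ∀ g : G, g * F.φ zK = F.φ zK * g → g * F.φ wK = F.φ wK * g → ∃ x, InD x ∧ g = F.φ x := by
  obtain ⟨φ, φ_inj, φrange, φz, φzN, φy, φD, Dφ⟩ := F
  intro g h1 h2
  refine Dφ g ?_
  rw [← hC, mem_centralizer_iff]
  intro d hd
  obtain ⟨x, hx, rfl⟩ := Dφ d hd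
  have a1 : Commute g (φ zK) := h1
  have a2 : Commute g (φ wK) := h2
  rcases hx with rfl | rfl | rfl | rfl | rfl | rfl | rfl | rfl | rfl <;>
    (try simp only [map_mul, map_inv, map_one]) <;>
    first
      | exact (Commute.one_right g).eq.symm
      | exact a1.eq.symm
      | exact a1.inv_right.eq.symm
      | exact a2.eq.symm
      | exact a2.inv_right.eq.symm
      | exact (a1.mul_right a2).eq.symm
      | exact (a1.mul_right a2.inv_right).eq.symm
      | exact (a1.inv_right.mul_right a2).eq.symm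
      | exact (a1.inv_right.mul_right a2.inv_right).eq.symm

theorem Frame.exists_swap {D : Subgroup G} {y z : G} (F : Frame D z y)
    (hcomm : IsMulCommutative D) (hcard : Nat.card D = 9) (hC : centralizer (D : Set G) = D)
    (eN : normalizer (D : Set G) ⧸ D.subgroupOf (normalizer (D : Set G)) ≃* DihedralGroup 4) :
    ∃ n : G, n * n = 1 ∧ ∀ x x' : K, Sw x x' → n * F.φ x * n⁻¹ = F.φ x' := by
  classical
  have selfcent := F.selfcent hC
  obtain ⟨φ, φ_inj, φrange, φz, φzN, φy, φD, Dφ⟩ := F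
  have hDc : ∀ a ∈ D, ∀ b ∈ D, a * b = b * a := fun a ha b hb =>
    congrArg Subtype.val (hcomm.is_comm.comm (⟨a, ha⟩ : D) ⟨b, hb⟩)
  have φzD : φ zK ∈ D := φD _ (Or.inr (Or.inl rfl))
  have φwD : φ wK ∈ D := φD _ (Or.inr (Or.inr (Or.inr (Or.inl rfl))))
  -- the normaliser of `D`
  set ND := normalizer (D : Set G) with hND
  have hN72 : Nat.card ND = 72 := by
    rw [card_eq_card_quotient_mul_card_subgroup (D.subgroupOf ND), Nat.card_congr eN.toEquiv,
      Nat.card_congr (subgroupOfEquivOfLe le_normalizer).toEquiv, hcard, DihedralGroup.nat_card]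
  have hInN : ∀ x, InN x → φ x ∈ ND := by
    intro x hx
    obtain ⟨h1, h2⟩ := (inN_iff x).1 hx
    rw [hND]
    refine (mem_normalizer_iff_map_conj_eq ..).2 ?_
    refine eq_of_le_of_card_ge ?_ ?_
    · rintro _ ⟨d, hd, rfl⟩
      obtain ⟨e, he, rfl⟩ := Dφ d hd
      show φ x * φ e * (φ x)⁻¹ ∈ D
      rw [← map_inv, ← map_mul, ← map_mul]
      have hw := φD _ h1
      have hz := φD _ h2
      rw [map_mul, map_mul, map_inv] at hw hz
      rcases he with rfl | rfl | rfl | rfl | rfl | rfl | rfl | rfl | rfl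
      all_goals simp only [map_mul, map_inv, map_one]
      · simp
      · exact hz
      · have := inv_mem hz; simpa [mul_assoc] using this
      · exact hw
      · have := inv_mem hw; simpa [mul_assoc] using this
      · have := mul_mem hz hw; simpa [mul_assoc] using this
      · have := mul_mem hz (inv_mem hw); simpa [mul_assoc] using this
      · have := mul_mem (inv_mem hz) hw; simpa [mul_assoc] using this
      · have := mul_mem (inv_mem hz) (inv_mem hw); simpa [mul_assoc] using this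
    · rw [Nat.card_congr (D.equivMapOfInjective _ (MulAut.conj (φ x)).injective).toEquiv.symm]
  have hInN' : ∀ x, φ x ∈ ND → InN x := by
    intro x hx
    have key : ∀ d ∈ D, φ x * d * (φ x)⁻¹ ∈ D := fun d hd => (mem_normalizer_iff.1 hx d).1 hd
    refine (inN_iff x).2 ⟨?_, ?_⟩
    · obtain ⟨e, he, h⟩ := Dφ _ (key _ φwD)
      rw [← map_inv, ← map_mul, ← map_mul] at h
      rwa [φ_inj h]
    · obtain ⟨e, he, h⟩ := Dφ _ (key _ φzD)
      rw [← map_inv, ← map_mul, ← map_mul] at h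
      rwa [φ_inj h]
  set M := ND ⊓ φ.range with hM
  have hM36 : Nat.card M = 36 := by
    rw [← card_InN, ← Fintype.card_subtype, ← Nat.card_eq_fintype_card]
    refine (Nat.card_congr (Equiv.ofBijective
      (fun x : {x // InN x} => (⟨φ x.1, hInN _ x.2, x.1, rfl⟩ : M)) ⟨?_, ?_⟩)).symm
    · intro a b h; exact Subtype.ext (φ_inj (show φ a.1 = φ b.1 from Subtype.ext_iff.1 h))
    · rintro ⟨g, hg, x, rfl⟩; exact ⟨⟨x, hInN' x hg⟩, rfl⟩
  have hMidx : (M.subgroupOf ND).index = 2 := by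
    have h := (M.subgroupOf ND).index_mul_card
    rw [Nat.card_congr (subgroupOfEquivOfLe (inf_le_left : M ≤ ND)).toEquiv, hM36, hN72] at h
    omega
  have : (M.subgroupOf ND).Normal := normal_of_index_eq_two hMidx
  have hMn : ∀ g ∈ ND, ∀ x, InN x → ∃ x', InN x' ∧ g * φ x * g⁻¹ = φ x' := by
    intro g hg x hx
    have := mem_subgroupOf.1 (Normal.conj_mem ‹(M.subgroupOf ND).Normal›
      ⟨φ x, hInN x hx⟩ (mem_subgroupOf.2 (⟨hInN x hx, x, rfl⟩ : φ x ∈ M)) ⟨g, hg⟩)
    obtain ⟨hn, x', hx'⟩ := this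
    have hx'' : φ x' = g * φ x * g⁻¹ := hx'
    exact ⟨x', hInN' x' (hx''.symm ▸ hn), hx''.symm⟩
  obtain ⟨n0, hn0, hn0r⟩ : ∃ g ∈ ND, g ∉ φ.range := by
    by_contra! h
    have : M = ND := inf_eq_left.2 h
    rw [this, hN72] at hM36; omega
  obtain ⟨hbz, hbw, hb'z, hb'w, hcz, hcw, hac, ha'c, hzw, hNa, hNa', hNc, hNz, hNw⟩ := basic_eqs
  have line : ∀ g ∈ ND, ∀ s, InN s → (s = zK ∨ s = wK) →
      ∀ d, InD d → g * φ s * g⁻¹ = φ d → d = 1 ∨ d = zK ∨ d = zK⁻¹ ∨ d = wK ∨ d = wK⁻¹ := by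
    intro g hg s hsN hs d hd he
    refine invariant_line d hd ⟨?_, ?_⟩
    all_goals
      first
        | (obtain ⟨x', hx', hh⟩ := hMn g⁻¹ (inv_mem hg) aK hNa)
        | (obtain ⟨x', hx', hh⟩ := hMn g⁻¹ (inv_mem hg) a'K hNa')
    · obtain ⟨x', hx', hh⟩ := hMn g⁻¹ (inv_mem hg) aK hNa
      rw [inv_inv] at hh
      have hx's : x' * s * x'⁻¹ = s ∨ x' * s * x'⁻¹ = s⁻¹ := by
        rcases hs with rfl | rfl
        · exact (by decide +kernel : ∀ x : K, InN x → x * zK * x⁻¹ = zK ∨ x * zK * x⁻¹ = zK⁻¹) x' hx'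
        · exact (by decide +kernel : ∀ x : K, InN x → x * wK * x⁻¹ = wK ∨ x * wK * x⁻¹ = wK⁻¹) x' hx'
      have e : φ (aK * d * aK⁻¹) = g * φ (x' * s * x'⁻¹) * g⁻¹ := by
        simp only [map_mul, map_inv]
        rw [← he, ← hh]; group
      rcases hx's with h | h <;> rw [h] at e
      · exact Or.inl (φ_inj (e.trans he))
      · refine Or.inr (φ_inj (e.trans ?_))
        rw [map_inv, map_inv, ← he]; group
    · obtain ⟨x', hx', hh⟩ := hMn g⁻¹ (inv_mem hg) a'K hNa'
      rw [inv_inv] at hh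
      have hx's : x' * s * x'⁻¹ = s ∨ x' * s * x'⁻¹ = s⁻¹ := by
        rcases hs with rfl | rfl
        · exact (by decide +kernel : ∀ x : K, InN x → x * zK * x⁻¹ = zK ∨ x * zK * x⁻¹ = zK⁻¹) x' hx'
        · exact (by decide +kernel : ∀ x : K, InN x → x * wK * x⁻¹ = wK ∨ x * wK * x⁻¹ = wK⁻¹) x' hx'
      have e : φ (a'K * d * a'K⁻¹) = g * φ (x' * s * x'⁻¹) * g⁻¹ := by
        simp only [map_mul, map_inv]
        rw [← he, ← hh]; group
      rcases hx's with h | h <;> rw [h] at e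
      · exact Or.inl (φ_inj (e.trans he))
      · refine Or.inr (φ_inj (e.trans ?_))
        rw [map_inv, map_inv, ← he]; group
  have img : ∀ g ∈ ND, ∀ x, InD x → ∃ d, InD d ∧ g * φ x * g⁻¹ = φ d := fun g hg x hx =>
    Dφ _ ((mem_normalizer_iff.1 hg _).1 (φD x hx))
  have φN : ∀ g ∈ ND, (g * φ zK * g⁻¹ = φ zK ∨ g * φ zK * g⁻¹ = (φ zK)⁻¹) → g ∈ φ.range := by
    intro g _ hg
    rw [φrange, ← φzN]
    refine (mem_normalizer_iff_map_conj_eq ..).2 ?_
    rw [MonoidHom.map_zpowers]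
    show zpowers (g * φ zK * g⁻¹) = zpowers (φ zK)
    rcases hg with h | h <;> rw [h]
    exact zpowers_inv
  -- the element exchanging the two 3-cycles
  obtain ⟨d1, hd1, he1⟩ := img n0 hn0 zK (Or.inr (Or.inl rfl))
  have hn1 : ∃ g ∈ ND, g * φ zK * g⁻¹ = φ wK := by
    rcases line n0 hn0 zK hNz (Or.inl rfl) d1 hd1 he1 with rfl | rfl | rfl | rfl | rfl
    · exfalso
      rw [map_one, mul_inv_eq_one, mul_eq_left] at he1
      exact (show zK ≠ 1 by decide +kernel) (φ_inj (he1.trans (map_one φ).symm))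
    · exact absurd (φN n0 hn0 (Or.inl he1)) hn0r
    · exact absurd (φN n0 hn0 (Or.inr (by rw [he1, map_inv]))) hn0r
    · exact ⟨n0, hn0, he1⟩
    · refine ⟨φ a'K * n0, mul_mem (hInN _ hNa') hn0, ?_⟩
      calc φ a'K * n0 * φ zK * (φ a'K * n0)⁻¹ = φ a'K * (n0 * φ zK * n0⁻¹) * (φ a'K)⁻¹ := by group
        _ = φ (a'K * wK⁻¹ * a'K⁻¹) := by rw [he1, map_mul, map_mul, map_inv φ a'K]
        _ = φ wK := congrArg φ (by decide +kernel)
  obtain ⟨n1, hn1m, he1'⟩ := hn1
  have hn1r : n1 ∉ φ.range := by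
    rintro ⟨x, rfl⟩
    rw [← map_inv, ← map_mul, ← map_mul] at he1'
    have h1 := (by decide +kernel : ∀ x : K, x * zK * x⁻¹ ≠ wK) x
    exact h1 (φ_inj he1')
  obtain ⟨d2, hd2, he2⟩ := img n1 hn1m wK (Or.inr (Or.inr (Or.inr (Or.inl rfl))))
  have hn2 : ∃ g ∈ ND, g * φ zK * g⁻¹ = φ wK ∧ g * φ wK * g⁻¹ = φ zK := by
    have hinj : ∀ s, s ≠ wK → n1 * φ s * n1⁻¹ ≠ n1 * φ wK * n1⁻¹ := fun s hs e =>
      hs (φ_inj (mul_left_cancel (mul_right_cancel e)))
    rcases line n1 hn1m wK hNw (Or.inr rfl) d2 hd2 he2 with rfl | rfl | rfl | rfl | rfl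
    · exfalso
      exact hinj 1 (by decide +kernel) (by rw [he2, map_one]; group)
    · exact ⟨n1, hn1m, he1', he2⟩
    · refine ⟨n1 * φ a'K, mul_mem hn1m (hInN _ hNa'), ?_, ?_⟩
      · calc n1 * φ a'K * φ zK * (n1 * φ a'K)⁻¹ = n1 * φ (a'K * zK * a'K⁻¹) * n1⁻¹ := by
              simp only [map_mul, map_inv]; group
          _ = φ wK := by rw [hb'z, he1']
      · calc n1 * φ a'K * φ wK * (n1 * φ a'K)⁻¹ = n1 * φ (a'K * wK * a'K⁻¹) * n1⁻¹ := by
              simp only [map_mul, map_inv]; group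
          _ = (n1 * φ wK * n1⁻¹)⁻¹ := by rw [hb'w, map_inv]; group
          _ = φ zK := by rw [he2, map_inv, inv_inv]
    · exact absurd (he2.trans he1'.symm) (fun e => hinj zK (by decide +kernel) e.symm)
    · exfalso
      refine hinj zK⁻¹ (by decide +kernel) ?_
      rw [he2, map_inv, map_inv, ← he1']; group
  obtain ⟨n2, hn2m, h2z, h2w⟩ := hn2
  obtain ⟨hc, hhc, hec⟩ := hMn n2 hn2m cK hNc
  have hinv : hc * zK * hc⁻¹ = zK⁻¹ ∧ hc * wK * hc⁻¹ = wK⁻¹ := by
    constructor <;> apply φ_inj <;> simp only [map_mul, map_inv] <;> rw [← hec]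
    · rw [← h2w]
      calc n2 * φ cK * n2⁻¹ * (n2 * φ wK * n2⁻¹) * (n2 * φ cK * n2⁻¹)⁻¹
          = n2 * φ (cK * wK * cK⁻¹) * n2⁻¹ := by simp only [map_mul, map_inv]; group
        _ = _ := by rw [hcw, map_inv]; group
    · rw [← h2z]
      calc n2 * φ cK * n2⁻¹ * (n2 * φ zK * n2⁻¹) * (n2 * φ cK * n2⁻¹)⁻¹
          = n2 * φ (cK * zK * cK⁻¹) * n2⁻¹ := by simp only [map_mul, map_inv]; group
        _ = _ := by rw [hcz, map_inv]; group
  obtain ⟨i, j, hij⟩ := inv_both hc hhc hinv.1 hinv.2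
  set d := zK ^ i.val * wK ^ j.val with hd
  have hdD : InD d := by
    have : ∀ i j : Fin 3, InD (zK ^ i.val * wK ^ j.val) := by decide +kernel
    exact this i j
  set n := φ d * n2 with hn
  have hnN : n ∈ ND := mul_mem (le_normalizer (φD d hdD)) hn2m
  have hdcomm : ∀ x, InD x → φ d * φ x * (φ d)⁻¹ = φ x := fun x hx => by
    rw [hDc _ (φD d hdD) _ (φD x hx), mul_inv_cancel_right]
  have hnz : n * φ zK * n⁻¹ = φ wK := by
    rw [hn, show φ d * n2 * φ zK * (φ d * n2)⁻¹ = φ d * (n2 * φ zK * n2⁻¹) * (φ d)⁻¹ by group, h2z]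
    exact hdcomm _ (Or.inr (Or.inr (Or.inr (Or.inl rfl))))
  have hnw : n * φ wK * n⁻¹ = φ zK := by
    rw [hn, show φ d * n2 * φ wK * (φ d * n2)⁻¹ = φ d * (n2 * φ wK * n2⁻¹) * (φ d)⁻¹ by group, h2w]
    exact hdcomm _ (Or.inr (Or.inl rfl))
  have hnc : n * φ cK * n⁻¹ = φ cK := by
    rw [hn, show φ d * n2 * φ cK * (φ d * n2)⁻¹ = φ d * (n2 * φ cK * n2⁻¹) * (φ d)⁻¹ by group, hec,
      ← map_inv, ← map_mul, ← map_mul, hij]
  have hn2eq : n * n = 1 := by
    have e1 : ∀ x, n * (n * x * n⁻¹) * n⁻¹ = (n * n) * x * (n * n)⁻¹ := fun x => by group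
    obtain ⟨x, hx, hxe⟩ := selfcent (n * n)
      (mul_inv_eq_iff_eq_mul.1 (by rw [← e1, hnz, hnw]))
      (mul_inv_eq_iff_eq_mul.1 (by rw [← e1, hnw, hnz]))
    have hxc : x * cK * x⁻¹ = cK := by
      apply φ_inj
      simp only [map_mul, map_inv]
      rw [← hxe, ← e1, hnc, hnc]
    have : x = 1 := (by decide +kernel : ∀ x, InD x → x * cK * x⁻¹ = cK → x = 1) x hx hxc
    rw [hxe, this, map_one]
  have hna : n * φ aK * n⁻¹ = φ a'K := by
    obtain ⟨h', hh', he⟩ := hMn n hnN aK hNa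
    rw [he]
    refine congrArg φ (is_a' h' hh' ?_ ?_ ?_) <;> apply φ_inj <;>
      simp only [map_mul, map_inv] <;> rw [← he]
    · rw [← hnz]
      calc n * φ aK * n⁻¹ * (n * φ zK * n⁻¹) * (n * φ aK * n⁻¹)⁻¹
          = n * φ (aK * zK * aK⁻¹) * n⁻¹ := by simp only [map_mul, map_inv]; group
        _ = _ := by rw [hbz, map_inv]; group
    · rw [← hnw]
      calc n * φ aK * n⁻¹ * (n * φ wK * n⁻¹) * (n * φ aK * n⁻¹)⁻¹
          = n * φ (aK * wK * aK⁻¹) * n⁻¹ := by simp only [map_mul, map_inv]; group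
        _ = _ := by rw [hbw]
    · rw [← hnc]
      calc n * φ aK * n⁻¹ * (n * φ cK * n⁻¹) = n * φ (aK * cK) * n⁻¹ := by
              simp only [map_mul]; group
        _ = _ := by rw [hac, map_mul]; group
  have hna' : n * φ a'K * n⁻¹ = φ aK := by
    rw [← hna, show n * (n * φ aK * n⁻¹) * n⁻¹ = (n * n) * φ aK * (n * n)⁻¹ by group, hn2eq]
    group
  have n_swap : ∀ x x' : K, Sw x x' → n * φ x * n⁻¹ = φ x' := by
    intro x x' hxx
    obtain ⟨s1, s2, s3, s4, s5⟩ := sw_eqs
    set ψ : K →* G := (MulAut.conj n).toMonoidHom.comp φ with hψ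
    have ψa : ∀ x, ψ x = n * φ x * n⁻¹ := fun x => rfl
    have mul : ∀ {a a' b b' : K}, Sw a a' → Sw b b' → Sw (a * b) (a' * b') := by
      intro a a' b b' ha hb
      unfold Sw at ha hb ⊢
      rw [Subgroup.coe_mul, Subgroup.coe_mul, map_mul, map_mul, ← ha, ← hb]
      calc sigma * (iota (a : Pr) * iota (b : Pr)) * sigma
          = sigma * iota (a : Pr) * 1 * iota (b : Pr) * sigma := by group
        _ = _ := by rw [← sigma_sq]; group
    have uniq : ∀ {a a' a'' : K}, Sw a a' → Sw a a'' → a' = a'' := fun h h' =>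
      Subtype.ext (iota_injective (h.symm.trans h'))
    let P : K → Prop := fun a => ∃ a', Sw a a' ∧ ψ a = φ a'
    have Pmul : ∀ {a b}, P a → P b → P (a * b) := fun {a b} ⟨a', ha, ea⟩ ⟨b', hb, eb⟩ =>
      ⟨a' * b', mul ha hb, by rw [map_mul, map_mul, ea, eb]⟩
    have P1 : P 1 := ⟨1, (by decide +kernel : Sw 1 1), by rw [map_one, map_one]⟩
    have Ppow : ∀ {a}, P a → ∀ k : ℕ, P (a ^ k) := fun {a} ha k => by
      induction k with
      | zero => rw [pow_zero]; exact P1
      | succ k ih => rw [pow_succ]; exact Pmul ih ha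
    have Pz : P zK := ⟨wK, s1, hnz⟩
    have Pw : P wK := ⟨zK, s2, hnw⟩
    have Px : P x := by
      obtain ⟨i, j, h | h | h | h⟩ := inN_cases x (inN_of_sw hxx) <;> rw [h]
      · exact Pmul (Ppow Pz _) (Ppow Pw _)
      · exact Pmul (Pmul (Ppow Pz _) (Ppow Pw _)) ⟨a'K, s3, hna⟩
      · exact Pmul (Pmul (Ppow Pz _) (Ppow Pw _)) ⟨aK, s4, hna'⟩
      · exact Pmul (Pmul (Ppow Pz _) (Ppow Pw _)) ⟨cK, s5, hnc⟩
    obtain ⟨a', ha, ea⟩ := Px
    rw [uniq hxx ha]; exact ea
  exact ⟨n, hn2eq, n_swap⟩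

/-- The hypotheses of the recognition theorem give the data. -/
theorem exists_data (P : Sylow 3 G) (D : Subgroup G) (hDP : D = P) (y z : G)
    (hgen : closure {y, z} = D) (hcomm : IsMulCommutative D) (hcard : Nat.card D = 9)
    (hexp : ∀ a ∈ D, a ^ 3 = 1) (hC : centralizer (D : Set G) = D)
    (eN : normalizer (D : Set G) ⧸ D.subgroupOf (normalizer (D : Set G)) ≃* DihedralGroup 4)
    (hycard : Nat.card (centralizer ({y} : Set G)) = 18)
    (hzcard : Nat.card (centralizer ({z} : Set G)) = 180)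
    (eL : normalizer ((zpowers z : Subgroup G) : Set G) ≃* K) :
    Nonempty (Data G) := by
  classical
  obtain ⟨F⟩ := exists_frame hgen hcomm hcard hexp eL
  have selfcent := F.selfcent hC
  obtain ⟨n, hn2eq, n_swap⟩ := F.exists_swap hcomm hcard hC eN
  obtain ⟨φ, φ_inj, φrange, φz, φzN, ⟨k, hkD, φy⟩, φD, Dφ⟩ := F
  have hnz : n * φ zK * n⁻¹ = φ wK := n_swap _ _ sw_eqs.1
  have card_cz : Nat.card (centralizer ({φ zK} : Set G)) = 180 := by
    rcases φz with e | e <;> rw [e]
    · exact hzcard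
    · rw [centralizer_inv, hzcard]
  have card_cw : Nat.card (centralizer ({φ (zK * wK)} : Set G)) = 18 := by
    have h180 : Nat.card (centralizer ({φ wK} : Set G)) = 180 := by
      rw [← hnz, card_centralizer_conj, card_cz]
    have hi : ∀ x : K, Nat.card (centralizer ({φ x⁻¹} : Set G)) =
        Nat.card (centralizer ({φ x} : Set G)) := fun x => by rw [map_inv, centralizer_inv]
    have hconj : ∀ h x : K, Nat.card (centralizer ({φ (h * x * h⁻¹)} : Set G)) =
        Nat.card (centralizer ({φ x} : Set G)) := fun h x => by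
      simp only [map_mul, map_inv]; exact card_centralizer_conj _ _
    have hk : Nat.card (centralizer ({φ k} : Set G)) = 18 := by rw [φy, hycard]
    have h1 : Nat.card (centralizer ({φ 1} : Set G)) ≠ 18 := by
      have hle : centralizer ({φ zK} : Set G) ≤ centralizer ({φ (1 : K)} : Set G) := fun x _ => by
        rw [mem_centralizer_singleton_iff]; simp
      have := card_le_of_le hle
      omega
    rcases hkD with e | e | e | e | e | e | e | e | e <;> rw [e] at hk
    · exact absurd hk h1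
    · omega
    · rw [hi] at hk; omega
    · omega
    · rw [hi] at hk; omega
    · exact hk
    · rw [show zK * wK⁻¹ = a'K * (zK * wK) * a'K⁻¹ by decide +kernel, hconj] at hk; exact hk
    · rw [show zK⁻¹ * wK = aK * (zK * wK) * aK⁻¹ by decide +kernel, hconj] at hk; exact hk
    · rw [show zK⁻¹ * wK⁻¹ = cK * (zK * wK) * cK⁻¹ by decide +kernel, hconj] at hk; exact hk
  haveI : Fact (Nat.Prime 3) := ⟨Nat.prime_three⟩
  refine ⟨⟨φ, φ_inj, by rw [φrange, φzN], n, hn2eq, n_swap, selfcent, fun Q hQ => ?_,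
    fun Q hQ hQc => ?_, card_cz, card_cw⟩⟩
  · obtain ⟨P', hP'⟩ := hQ.exists_le_sylow
    calc Nat.card Q ≤ Nat.card (P' : Subgroup G) := card_le_of_le hP'
      _ = 9 := by rw [P'.card_eq_multiplicity, ← P.card_eq_multiplicity, ← hDP, hcard]
  · obtain ⟨P', hP'⟩ := hQ.exists_le_sylow
    have hP'e : Q = (P' : Subgroup G) := eq_of_le_of_card_ge hP' (by
      rw [P'.card_eq_multiplicity, ← P.card_eq_multiplicity, ← hDP, hcard, hQc])
    obtain ⟨h, hh⟩ := MulAction.exists_smul_eq G P P'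
    refine ⟨h, fun x hx => ?_⟩
    rw [hP'e, ← hh]
    exact ⟨φ x, hDP ▸ φD x hx, rfl⟩

end Cfsg.Agent.Lib.EightThree88
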