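import Mathlib

/-!
# The models for the recognition of the alternating group of degree eight by its 3-local structure

`Pr` is `Perm 3 × Perm 5`; its even elements form `K`, the normaliser of a 3-cycle in `A₈`.  The map
`iota` puts the five points at `0..4` and the three points at `5..7`.
-/

set_option autoImplicit false
set_option maxRecDepth 100000
set_option synthInstance.maxSize 2000
set_option synthInstance.maxHeartbeats 400000

namespace Cfsg.Agent.Lib.EightThree88.Model

open Equiv

abbrev Pr := Perm (Fin 3) × Perm (Fin 5)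
abbrev P8 := Perm (Fin 8)

/-- The product of the signs. -/
def parity : Pr →* ℤˣ :=
  ((Perm.sign).comp (MonoidHom.fst (Perm (Fin 3)) (Perm (Fin 5)))) *
    ((Perm.sign).comp (MonoidHom.snd (Perm (Fin 3)) (Perm (Fin 5))))

abbrev K : Subgroup Pr := parity.ker

instance : DecidablePred (· ∈ K) := fun x =>
  decidable_of_iff (parity x = 1) MonoidHom.mem_ker.symm

instance : Fintype K := Subtype.fintype fun x : Pr => x ∈ K

/-- The embedding into the symmetric group of degree eight. -/
def iota : Pr →* P8 :=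
  (finSumFinEquiv (m := 5) (n := 3)).permCongrHom.toMonoidHom.comp
    ((Perm.sumCongrHom (Fin 5) (Fin 3)).comp
      (MonoidHom.prod (MonoidHom.snd _ _) (MonoidHom.fst _ _)))

/-- An element of `K` from its two components. -/
def mk (a : Perm (Fin 3)) (b : Perm (Fin 5)) (h : parity (a, b) = 1 := by decide +kernel) : K :=
  ⟨(a, b), MonoidHom.mem_ker.2 h⟩

def zK : K := mk (swap 0 1 * swap 1 2) 1
def wK : K := mk 1 (swap 0 1 * swap 1 2)
def aK : K := mk (swap 0 1) (swap 3 4)
def a'K : K := mk 1 (swap 0 1 * swap 3 4)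
def cK : K := mk (swap 0 1) (swap 0 1)
def v1 : K := mk 1 (swap 0 1 * swap 2 3)
def v2 : K := mk 1 (swap 0 2 * swap 1 3)
def v3 : K := mk 1 (swap 0 3 * swap 1 2)
def v1' : K := mk 1 (swap 0 1 * swap 2 4)
def v2' : K := mk 1 (swap 0 2 * swap 1 4)
def v3' : K := mk 1 (swap 0 4 * swap 1 2)

/-- The four group on `{0,1,2,3}`. -/
def InV (x : K) : Prop := x = 1 ∨ x = v1 ∨ x = v2 ∨ x = v3

/-- The four group on `{0,1,2,4}`. -/
def InV' (x : K) : Prop := x = 1 ∨ x = v1' ∨ x = v2' ∨ x = v3'

instance : DecidablePred InV := fun x => by unfold InV; infer_instance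
instance : DecidablePred InV' := fun x => by unfold InV'; infer_instance

/-- The intersection of `K` with its image under the swap of the two 3-cycles. -/
def InN (x : K) : Prop :=
  ∀ i : Fin 5, i.val < 3 → ((x : Pr).2 i).val < 3

instance : DecidablePred InN := fun x => by unfold InN; infer_instance

/-- The permutation exchanging the two 3-cycles. -/
def sigma : P8 := swap 0 5 * swap 1 6 * swap 2 7 * swap 3 4

/-- The second coordinate `{3,4}`. -/
def s34 : Pr := (1, swap 3 4)

theorem K_conj_s34 (x : K) : s34 * (x : Pr) * s34 ∈ K := by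
  rw [MonoidHom.mem_ker, map_mul, map_mul, MonoidHom.mem_ker.1 x.2, mul_one,
    show parity s34 = -1 by decide +kernel]
  rfl

/-- Conjugation by the transposition of `3` and `4`. -/
def flip : K →* K where
  toFun x := ⟨s34 * (x : Pr) * s34, K_conj_s34 x⟩
  map_one' := Subtype.ext (by decide +kernel)
  map_mul' x y := Subtype.ext (by
    show s34 * ((x : Pr) * (y : Pr)) * s34 = s34 * (x : Pr) * s34 * (s34 * (y : Pr) * s34)
    have h : s34 * s34 = 1 := by decide +kernel
    calc s34 * ((x : Pr) * (y : Pr)) * s34 = s34 * (x : Pr) * 1 * (y : Pr) * s34 := by group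
      _ = _ := by rw [← h]; group)

theorem zK_pow : zK ^ 3 = 1 := by decide +kernel
theorem orderOf_zK : orderOf zK = 3 :=
  orderOf_eq_prime zK_pow (by decide +kernel)

/-- The only normal subgroup of order three. -/
theorem normal_three : ∀ x : K, x * x * x = 1 → x ≠ 1 →
    (∀ g : K, g * x * g⁻¹ = x ∨ g * x * g⁻¹ = x⁻¹) → x = zK ∨ x = zK⁻¹ := by decide +kernel

/-- A 3-element commuting with `zK` is conjugate into the standard Sylow subgroup. -/
theorem three_std : ∀ x : K, x * x * x = 1 →
    ∃ g : K, g * x * g⁻¹ = 1 ∨ g * x * g⁻¹ = zK ∨ g * x * g⁻¹ = zK⁻¹ ∨ g * x * g⁻¹ = wK ∨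
      g * x * g⁻¹ = wK⁻¹ ∨ g * x * g⁻¹ = zK * wK ∨ g * x * g⁻¹ = zK * wK⁻¹ ∨
      g * x * g⁻¹ = zK⁻¹ * wK ∨ g * x * g⁻¹ = zK⁻¹ * wK⁻¹ := by decide +kernel

end Cfsg.Agent.Lib.EightThree88.Model
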