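import Cfsg.Agent.Lib.EightThree88.Model

/-!
# Decidable facts on the normaliser of the standard Sylow 3-subgroup in the model
-/

set_option autoImplicit false
set_option maxRecDepth 100000
set_option synthInstance.maxSize 2000
set_option synthInstance.maxHeartbeats 400000

namespace Cfsg.Agent.Lib.EightThree88.Model

open Equiv

/-- The standard Sylow 3-subgroup. -/
def InD (x : K) : Prop :=
  x = 1 ∨ x = zK ∨ x = zK⁻¹ ∨ x = wK ∨ x = wK⁻¹ ∨
    x = zK * wK ∨ x = zK * wK⁻¹ ∨ x = zK⁻¹ * wK ∨ x = zK⁻¹ * wK⁻¹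

instance : DecidablePred InD := fun x => by unfold InD; infer_instance

theorem inN_iff : ∀ x : K, InN x ↔
    InD (x * wK * x⁻¹) ∧ InD (x * zK * x⁻¹) := by decide +kernel

theorem inN_cases : ∀ x : K, InN x →
    ∃ i j : Fin 3, x = zK ^ i.val * wK ^ j.val ∨ x = zK ^ i.val * wK ^ j.val * aK ∨
      x = zK ^ i.val * wK ^ j.val * a'K ∨ x = zK ^ i.val * wK ^ j.val * cK := by decide +kernel

theorem card_InN : (Finset.univ.filter InN).card = 36 := by decide +kernel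

theorem card_InD : (Finset.univ.filter InD).card = 9 := by decide +kernel

theorem invariant_line : ∀ d : K, InD d →
    ((aK * d * aK⁻¹ = d ∨ aK * d * aK⁻¹ = d⁻¹) ∧ (a'K * d * a'K⁻¹ = d ∨ a'K * d * a'K⁻¹ = d⁻¹)) →
    d = 1 ∨ d = zK ∨ d = zK⁻¹ ∨ d = wK ∨ d = wK⁻¹ := by decide +kernel

theorem inv_both : ∀ h : K, InN h → h * zK * h⁻¹ = zK⁻¹ → h * wK * h⁻¹ = wK⁻¹ →
    ∃ i j : Fin 3, (zK ^ i.val * wK ^ j.val) * h * (zK ^ i.val * wK ^ j.val)⁻¹ = cK := by
  decide +kernel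

theorem is_a' : ∀ h : K, InN h → h * wK * h⁻¹ = wK⁻¹ → h * zK * h⁻¹ = zK → h * cK = cK * h →
    h = a'K := by decide +kernel

theorem basic_eqs :
    aK * zK * aK⁻¹ = zK⁻¹ ∧ aK * wK * aK⁻¹ = wK ∧ a'K * zK * a'K⁻¹ = zK ∧
    a'K * wK * a'K⁻¹ = wK⁻¹ ∧ cK * zK * cK⁻¹ = zK⁻¹ ∧ cK * wK * cK⁻¹ = wK⁻¹ ∧
    aK * cK = cK * aK ∧ a'K * cK = cK * a'K ∧ zK * wK = wK * zK ∧
    InN aK ∧ InN a'K ∧ InN cK ∧ InN zK ∧ InN wK := by decide +kernel

/-- The relation of being swapped by `sigma`. -/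
def Sw (x x' : K) : Prop := sigma * iota (x : Pr) * sigma = iota (x' : Pr)

instance (x x' : K) : Decidable (Sw x x') := by unfold Sw; infer_instance

theorem sw_eqs : Sw zK wK ∧ Sw wK zK ∧ Sw aK a'K ∧ Sw a'K aK ∧ Sw cK cK := by
  decide +kernel

theorem sigma_sq : sigma * sigma = 1 := by decide +kernel

theorem iota_injective : Function.Injective iota := by
  rw [← MonoidHom.ker_eq_bot_iff, Subgroup.eq_bot_iff_forall]
  intro x hx
  have : ∀ x : Pr, iota x = 1 → x = 1 := by decide +kernel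
  exact this x (MonoidHom.mem_ker.1 hx)

theorem inN_of_fix : ∀ x : K, (∀ i : Fin 8, i.val < 5 →
    ((sigma * iota (x : Pr) * sigma) i).val < 5) → InN x := by decide +kernel

theorem iota_lt : ∀ x : Pr, ∀ i : Fin 8, i.val < 5 → ((iota x) i).val < 5 := by decide +kernel

theorem inN_of_sw {x x' : K} (h : Sw x x') : InN x :=
  inN_of_fix x fun i hi => by rw [h]; exact iota_lt _ i hi

end Cfsg.Agent.Lib.EightThree88.Model
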