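import Cfsg.Agent.Lib.EightThree88.Four

/-!
# The four groups of `C(z)` and `C(w)` commute in pairs
-/

set_option autoImplicit false
set_option maxHeartbeats 800000
set_option maxRecDepth 100000
set_option synthInstance.maxSize 2000
set_option synthInstance.maxHeartbeats 400000

namespace Cfsg.Agent.Lib.EightThree88

open Subgroup Model

universe u

variable {G : Type u} [Group G] [Finite G] (S : Data G)

theorem no_mix' : ∀ u v : K, InV u → InV' v → u ≠ 1 → v ≠ 1 →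
    (v * u) ^ 10 ≠ 1 ∨ (v * (wK * u * wK⁻¹)) ^ 10 ≠ 1 ∨ (v * (wK⁻¹ * u * wK)) ^ 10 ≠ 1 := by
  decide +kernel

namespace Data

include S

theorem wK_norm_CV {g : G} (hg : g ∈ S.CV) : S.φ wK * g * (S.φ wK)⁻¹ ∈ S.CV := by
  rw [mem_CV]
  have key : ∀ u, InV u → S.φ wK * g * (S.φ wK)⁻¹ * S.φ u = S.φ u * (S.φ wK * g * (S.φ wK)⁻¹) := by
    intro u hu
    have h := S.comm_V hg (w_norm_V u hu).2
    rw [map_mul, map_mul, map_inv] at h
    calc S.φ wK * g * (S.φ wK)⁻¹ * S.φ u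
        = S.φ wK * (g * ((S.φ wK)⁻¹ * S.φ u * S.φ wK)) * (S.φ wK)⁻¹ := by group
      _ = S.φ wK * ((S.φ wK)⁻¹ * S.φ u * S.φ wK * g) * (S.φ wK)⁻¹ := by rw [h]
      _ = _ := by group
  exact ⟨key _ (Or.inr (Or.inl rfl)), key _ (Or.inr (Or.inr (Or.inl rfl)))⟩

/-- A commutator in `W` of order three is impossible. -/
theorem no_three {W : Subgroup G} (hco : (Nat.card W).Coprime 3) {d : K} (hd : InD d)
    (hm : S.φ d ∈ W) : d = 1 := by
  by_contra h1
  have h3 : d ^ 3 = 1 := (by decide +kernel : ∀ d, InD d → d ^ 3 = 1) d hd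
  have := Nat.eq_one_of_dvd_coprimes hco (S.orderOf_φ h3 h1 ▸ W.orderOf_dvd_natCard hm) dvd_rfl
  omega

/-- The centraliser of a diagonal element. -/
theorem cent_diag {g : G} (hg : g * S.φ (zK * wK) = S.φ (zK * wK) * g) :
    ∃ d, InD d ∧ (g = S.φ d ∨ g = S.n * S.φ d) := by
  classical
  set C := centralizer ({S.φ (zK * wK)} : Set G)
  have hC : Nat.card C = 18 := S.card_cw
  have hsub : ((fun d => S.φ d) '' {d | InD d} ∪ (fun d => S.n * S.φ d) '' {d | InD d}) ⊆ (C : Set G) := by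
    rintro x (⟨d, hd, rfl⟩ | ⟨d, hd, rfl⟩) <;>
      show _ ∈ centralizer ({S.φ (zK * wK)} : Set G) <;> rw [mem_centralizer_singleton_iff]
    · rw [← map_mul, ← map_mul, card_coset d hd]
    · rw [mul_assoc, ← map_mul, card_coset d hd, map_mul, ← mul_assoc, S.n_comm, mul_assoc]
  have hdisj : Disjoint ((fun d => S.φ d) '' {d | InD d}) ((fun d => S.n * S.φ d) '' {d | InD d}) := by
    rw [Set.disjoint_left]
    rintro x ⟨d, -, rfl⟩ ⟨e, -, he⟩
    exact S.n_not_range ⟨d * e⁻¹, by rw [map_mul, map_inv]; exact mul_inv_eq_iff_eq_mul.2 he.symm⟩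
  have h9 : ({d | InD d} : Set K).ncard = 9 := by
    rw [← card_InD, ← Set.ncard_coe_finset]; congr 1; ext d; simp
  have heq := Set.eq_of_subset_of_ncard_le hsub (by
    rw [Set.ncard_union_eq hdisj (Set.toFinite _) (Set.toFinite _),
      Set.ncard_image_of_injective _ S.inj,
      Set.ncard_image_of_injective _ (fun a b h => S.inj (mul_left_cancel h)), h9,
      ← Nat.card_coe_set_eq]
    exact le_of_eq hC) (Set.toFinite _)
  have : g ∈ (C : Set G) := mem_centralizer_singleton_iff.2 hg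
  rw [← heq] at this
  rcases this with ⟨d, hd, rfl⟩ | ⟨d, hd, rfl⟩
  · exact ⟨d, hd, Or.inl rfl⟩
  · exact ⟨d, hd, Or.inr rfl⟩

variable {W : Subgroup G} (hWX : W ≤ S.CV) (hco : (Nat.card W).Coprime 3)
  (hin : ∀ g ∈ S.CV, (orderOf g).Coprime 3 → g ∈ W)

include hWX hco hin

theorem W_conj {t g : G} (ht : ∀ x ∈ S.CV, t * x * t⁻¹ ∈ S.CV) (hg : g ∈ W) : t * g * t⁻¹ ∈ W := by
  refine hin _ (ht g (hWX hg)) ?_
  rw [show t * g * t⁻¹ = MulAut.conj t g from rfl, MulEquiv.orderOf_eq]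
  exact hco.coprime_dvd_left (W.orderOf_dvd_natCard hg)

theorem W_zK {g : G} (hg : g ∈ W) : S.φ zK * g * (S.φ zK)⁻¹ ∈ W :=
  W_conj S hWX hco hin (fun _ hx => mul_mem (mul_mem S.zK_mem_CV hx) (inv_mem S.zK_mem_CV)) hg

theorem W_wK {g : G} (hg : g ∈ W) : S.φ wK * g * (S.φ wK)⁻¹ ∈ W :=
  W_conj S hWX hco hin (fun _ hx => S.wK_norm_CV hx) hg

theorem V_mem_W {u : K} (hu : InV u) : S.φ u ∈ W := by
  refine hin _ (S.V_mem_CV hu) ?_
  rw [orderOf_injective S.φ S.inj]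
  exact Nat.Coprime.coprime_dvd_left
    (orderOf_dvd_of_pow_eq_one ((by decide +kernel : ∀ u, InV u → u ^ 2 = 1) u hu)) (by norm_num)

/-- The centraliser in `W` of the second 3-cycle. -/
theorem cent_wK {g : G} (hg : g ∈ W) (hc : g * S.φ wK = S.φ wK * g) :
    ∃ k, (InV k ∨ InV' k) ∧ g = S.n * S.φ k * S.n⁻¹ := by
  have hr : S.n⁻¹ * g * S.n ∈ S.φ.range := by
    refine S.mem_range_of_comm ?_
    have e : S.φ zK = S.n⁻¹ * S.φ wK * S.n := by rw [← S.n_zK]; group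
    rw [e]
    calc S.n⁻¹ * g * S.n * (S.n⁻¹ * S.φ wK * S.n) = S.n⁻¹ * (g * S.φ wK) * S.n := by group
      _ = _ := by rw [hc]; group
  obtain ⟨k, hk⟩ := hr
  have hgk : g = S.n * S.φ k * S.n⁻¹ := by rw [hk]; group
  refine ⟨k, cent_word k ?_ ?_, hgk⟩
  · apply S.inj
    rw [map_mul, map_mul, hk, ← S.n_wK]
    calc S.n⁻¹ * g * S.n * (S.n * S.φ wK * S.n⁻¹)
        = S.n⁻¹ * g * ((S.n * S.n) * S.φ wK * (S.n * S.n)⁻¹) * S.n := by group
      _ = S.n⁻¹ * (g * S.φ wK) * S.n := by rw [S.n_sq]; group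
      _ = S.n⁻¹ * (S.φ wK * g) * S.n := by rw [hc]
      _ = S.n⁻¹ * ((S.n * S.n) * S.φ wK * (S.n * S.n)⁻¹) * g * S.n := by rw [S.n_sq]; group
      _ = _ := by group
  · set a := wK * k * wK⁻¹ with ha
    have conj_img : ∀ t : K, S.n * S.φ t * S.n⁻¹ ∈ W → S.n * S.φ (wK * t * wK⁻¹) * S.n⁻¹ ∈ W := by
      intro t ht
      have := W_zK S hWX hco hin ht
      rw [← S.n_wK] at this
      convert this using 1
      simp only [map_mul, map_inv]; group
    have hmul : ∀ s t : K, S.n * S.φ s * S.n⁻¹ ∈ W → S.n * S.φ t * S.n⁻¹ ∈ W →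
        S.n * S.φ (s * t) * S.n⁻¹ ∈ W := fun s t hs ht => by
      convert mul_mem hs ht using 1
      rw [map_mul]; group
    have hkW : S.n * S.φ k * S.n⁻¹ ∈ W := hgk ▸ hg
    have pw : ∀ t : K, t * zK = zK * t → S.n * S.φ t * S.n⁻¹ ∈ W → t ^ 10 = 1 := by
      intro t htc ht
      have h1 : orderOf t ∣ 30 := orderOf_dvd_of_pow_eq_one (pow_thirty t htc)
      have h2 : (orderOf t).Coprime 3 := by
        have := hco.coprime_dvd_left (W.orderOf_dvd_natCard ht)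
        rwa [show S.n * S.φ t * S.n⁻¹ = MulAut.conj S.n (S.φ t) from rfl, MulEquiv.orderOf_eq,
          orderOf_injective S.φ S.inj] at this
      exact orderOf_dvd_iff_pow_eq_one.1 (h2.dvd_of_dvd_mul_left (show orderOf t ∣ 3 * 10 from h1))
    have hkc : k * zK = zK * k := by
      apply S.inj
      rw [map_mul, map_mul, hk, ← S.n_wK]
      calc S.n⁻¹ * g * S.n * (S.n * S.φ wK * S.n⁻¹)
          = S.n⁻¹ * g * ((S.n * S.n) * S.φ wK * (S.n * S.n)⁻¹) * S.n := by group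
        _ = S.n⁻¹ * (g * S.φ wK) * S.n := by rw [S.n_sq]; group
        _ = S.n⁻¹ * (S.φ wK * g) * S.n := by rw [hc]
        _ = S.n⁻¹ * ((S.n * S.n) * S.φ wK * (S.n * S.n)⁻¹) * g * S.n := by rw [S.n_sq]; group
        _ = _ := by group
    have hk' : Commute k zK := hkc
    have hw' : Commute wK zK := (by decide +kernel : wK * zK = zK * wK)
    have ca : Commute a zK := (hw'.mul_left hk').mul_left hw'.inv_left
    have cb : Commute (wK * a * wK⁻¹) zK := (hw'.mul_left ca).mul_left hw'.inv_left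
    have Wa := conj_img _ hkW
    exact ⟨pw k hkc hkW, pw _ ((hk'.mul_left hk').mul_left hk' |>.mul_left ca).eq
      (hmul _ _ (hmul _ _ (hmul _ _ hkW hkW) hkW) Wa),
      pw _ ((hk'.mul_left hk').mul_left ca).eq (hmul _ _ (hmul _ _ hkW hkW) Wa),
      pw _ (((hk'.mul_left ca).mul_left hk').mul_left cb).eq
        (hmul _ _ (hmul _ _ (hmul _ _ hkW Wa) hkW) (conj_img _ Wa))⟩

/-- `W` is generated by its centralisers of the two 3-cycles. -/
theorem W_le {T : Subgroup G} (hV : ∀ u, InV u → S.φ u ∈ T)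
    (hB : ∀ g ∈ W, g * S.φ wK = S.φ wK * g → g ∈ T) : W ≤ T := by
  haveI : Fact (Nat.Prime 3) := ⟨Nat.prime_three⟩
  have hzw : Commute (S.φ zK) (S.φ wK) := by
    show _ = _
    rw [← map_mul, ← map_mul, basic_eqs.2.2.2.2.2.2.2.2.1]
  have h3 : ∀ s : K, s ^ 3 = 1 → (S.φ s) ^ 3 ∈ centralizer (W : Set G) := fun s hs => by
    rw [← map_pow, hs, map_one]; exact one_mem _
  have hnorm : ∀ t : G, (∀ x ∈ W, t * x * t⁻¹ ∈ W) → t ∈ normalizer (W : Set G) := fun t ht => by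
    refine (mem_normalizer_iff_map_conj_eq ..).2 (eq_of_le_of_card_ge (fun _ ⟨x, hx, e⟩ => e ▸ ht x hx) ?_)
    rw [Nat.card_congr (W.equivMapOfInjective _ (MulAut.conj t).injective).toEquiv.symm]
  have hpg : IsPGroup 3 (closure ({S.φ zK, S.φ wK} : Set G)) := by
    have hle : closure ({S.φ zK, S.φ wK} : Set G) ≤ (closure ({zK, wK} : Set K)).map S.φ := by
      rw [MonoidHom.map_closure, Set.image_pair]
    refine IsPGroup.to_le (IsPGroup.map ?_ _) hle
    refine IsPGroup.iff_orderOf.2 fun x => ?_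
    have hx : (x : K) ^ 3 = 1 := by
      have : closure ({zK, wK} : Set K) ≤ (⟨⟨⟨{x | InD x}, fun {a b} ha hb =>
          (by decide +kernel : ∀ a b : K, InD a → InD b → InD (a * b)) a b ha hb⟩, Or.inl rfl⟩,
          fun {a} ha => (by decide +kernel : ∀ a : K, InD a → InD a⁻¹) a ha⟩ : Subgroup K) := by
        rw [closure_le]
        rintro _ (rfl | rfl)
        · exact Or.inr (Or.inl rfl)
        · exact Or.inr (Or.inr (Or.inr (Or.inl rfl)))
      exact (by decide +kernel : ∀ a : K, InD a → a ^ 3 = 1) _ (this x.2)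
    rcases (Nat.dvd_prime Nat.prime_three).1 (orderOf_dvd_of_pow_eq_one hx) with e | e
    · exact ⟨0, by rw [← orderOf_coe, e]; rfl⟩
    · exact ⟨1, by rw [← orderOf_coe, e]; rfl⟩
  have hcop : (Nat.card (closure ({S.φ zK, S.φ wK} : Set G))).Coprime (Nat.card W) := by
    obtain ⟨k, hk⟩ := IsPGroup.iff_card.1 hpg
    rw [hk]; exact (hco.symm).pow_left k
  refine (Cfsg.Agent.Lib.Coprime.le_lineCentralizers (q := 3) hzw
    (hnorm _ fun x hx => W_zK S hWX hco hin hx) (hnorm _ fun x hx => W_wK S hWX hco hin hx)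
    (h3 _ zK_pow) (h3 _ (by decide +kernel)) hcop hco.symm).trans ?_
  rw [Cfsg.Agent.Lib.Coprime.lineCentralizers, sup_le_iff, iSup_le_iff]
  refine ⟨fun g hg => hB g hg.1 (mem_centralizer_singleton_iff.1 hg.2), fun t g hg => ?_⟩
  obtain ⟨hgW, hgc⟩ := hg
  replace hgc := mem_centralizer_singleton_iff.1 hgc
  have hlt : t.val < 3 := ZMod.val_lt t
  rcases (show t.val = 0 ∨ t.val = 1 ∨ t.val = 2 by omega) with e | e | e <;> rw [e] at hgc
  · have hgc' : g * S.φ zK = S.φ zK * g := by simpa using hgc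
    obtain ⟨-, u, hu, i, he⟩ := S.CV_norm (hWX hgW) (Or.inl (mul_inv_eq_iff_eq_mul.2 hgc'))
    have : S.φ (zK ^ i.val) ∈ W := by
      rw [map_pow, show S.φ zK ^ i.val = (S.φ u)⁻¹ * g by rw [he]; group]
      exact mul_mem (inv_mem (V_mem_W S hWX hco hin hu)) hgW
    have h1 := S.no_three hco ((by decide +kernel : ∀ i : Fin 3, InD (zK ^ i.val)) i) this
    rw [he, ← map_pow, h1, map_one, mul_one]
    exact hV u hu
  · have hgc' : g * S.φ (zK * wK) = S.φ (zK * wK) * g := by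
      rw [map_mul]; simpa using hgc
    obtain ⟨d, hd, rfl | rfl⟩ := S.cent_diag hgc'
    · rw [S.no_three hco hd hgW, map_one]; exact one_mem _
    · exfalso
      have hm := mul_mem (W_zK S hWX hco hin hgW) (inv_mem hgW)
      have e : S.φ zK * (S.n * S.φ d) * (S.φ zK)⁻¹ * (S.n * S.φ d)⁻¹ = S.φ (zK * wK⁻¹) := by
        calc S.φ zK * (S.n * S.φ d) * (S.φ zK)⁻¹ * (S.n * S.φ d)⁻¹
            = S.φ zK * (S.n * (S.φ (d * zK⁻¹ * d⁻¹)) * S.n⁻¹) := by
              simp only [map_mul, map_inv]; group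
          _ = S.φ zK * (S.n * S.φ zK⁻¹ * S.n⁻¹) := by
              rw [(by decide +kernel : ∀ d, InD d → d * zK⁻¹ * d⁻¹ = zK⁻¹) d hd]
          _ = S.φ zK * (S.n * S.φ zK * S.n⁻¹)⁻¹ := by rw [map_inv]; group
          _ = _ := by rw [S.n_zK, map_mul, map_inv]
      rw [e] at hm
      exact (by decide +kernel : zK * wK⁻¹ ≠ 1)
        (S.no_three hco (by decide +kernel : InD (zK * wK⁻¹)) hm)
  · have hgc' : g * S.φ (a'K * (zK * wK) * a'K⁻¹) = S.φ (a'K * (zK * wK) * a'K⁻¹) * g := by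
      rw [show a'K * (zK * wK) * a'K⁻¹ = zK * wK ^ 2 by decide +kernel, map_mul, map_pow]
      simpa using hgc
    have h2 : (S.φ a'K)⁻¹ * g * S.φ a'K * S.φ (zK * wK) = S.φ (zK * wK) * ((S.φ a'K)⁻¹ * g * S.φ a'K) := by
      rw [map_mul, map_mul, map_inv] at hgc'
      calc (S.φ a'K)⁻¹ * g * S.φ a'K * S.φ (zK * wK)
          = (S.φ a'K)⁻¹ * (g * (S.φ a'K * S.φ (zK * wK) * (S.φ a'K)⁻¹)) * S.φ a'K := by group
        _ = _ := by rw [hgc']; group
    obtain ⟨d, hd, he | he⟩ := S.cent_diag h2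
    · have e : g = S.φ (a'K * d * a'K⁻¹) := by
        rw [map_mul, map_mul, map_inv, ← he]; group
      rw [e] at hgW ⊢
      rw [S.no_three hco ((by decide +kernel : ∀ d, InD d → InD (a'K * d * a'K⁻¹)) d hd) hgW, map_one]
      exact one_mem _
    · exfalso
      have e0 : g = S.φ a'K * (S.n * S.φ d) * (S.φ a'K)⁻¹ := by rw [← he]; group
      have hm := mul_mem (W_zK S hWX hco hin hgW) (inv_mem hgW)
      have e : S.φ zK * g * (S.φ zK)⁻¹ * g⁻¹ = S.φ (zK * wK) := by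
        calc S.φ zK * g * (S.φ zK)⁻¹ * g⁻¹
            = S.φ zK * (S.φ a'K * (S.n * (S.φ (d * (a'K⁻¹ * zK⁻¹ * a'K) * d⁻¹)) * S.n⁻¹) * (S.φ a'K)⁻¹) := by
              rw [e0]; simp only [map_mul, map_inv]; group
          _ = S.φ zK * (S.φ a'K * (S.n * S.φ zK⁻¹ * S.n⁻¹) * (S.φ a'K)⁻¹) := by
              rw [(by decide +kernel : ∀ d, InD d → d * (a'K⁻¹ * zK⁻¹ * a'K) * d⁻¹ = zK⁻¹) d hd]
          _ = S.φ zK * (S.φ a'K * (S.n * S.φ zK * S.n⁻¹)⁻¹ * (S.φ a'K)⁻¹) := by rw [map_inv]; group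
          _ = S.φ (zK * (a'K * wK⁻¹ * a'K⁻¹)) := by rw [S.n_zK]; simp only [map_mul, map_inv]
          _ = _ := congrArg S.φ (by decide +kernel)
      rw [e] at hm
      exact (by decide +kernel : zK * wK ≠ 1) (S.no_three hco (by decide +kernel : InD (zK * wK)) hm)

omit hWX hco hin in
/-- The four groups of `C(z)` and `C(w)` commute in pairs, and generate the centraliser. -/
theorem pairing : ∃ ε : K →* K, (ε = MonoidHom.id K ∨ ε = Model.flip) ∧
    (∀ u v, InV u → InV v → Commute (S.φ u) (S.n * S.φ (ε v) * S.n⁻¹)) ∧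
    ∀ g ∈ S.CV, ∃ u v, InV u ∧ InV v ∧ ∃ i : Fin 3,
      g = S.φ u * (S.n * S.φ (ε v) * S.n⁻¹) * S.φ zK ^ i.val := by
  classical
  obtain ⟨W, hWX, hco, hin, hdec⟩ := S.exists_complement
  set ψ : K →* G := (MulAut.conj S.n).toMonoidHom.comp S.φ with hψ
  have ψa : ∀ k, ψ k = S.n * S.φ k * S.n⁻¹ := fun k => rfl
  by_cases hB : ∃ g ∈ W, g * S.φ wK = S.φ wK * g ∧ g ≠ 1
  · obtain ⟨g0, hg0, hg0c, hg01⟩ := hB
    obtain ⟨k0, hk0, rfl⟩ := cent_wK S hWX hco hin hg0 hg0c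
    have hk01 : k0 ≠ 1 := fun e => hg01 (by rw [e, map_one]; group)
    obtain ⟨ε, hε, hε0, hεV⟩ : ∃ ε : K →* K, (ε = MonoidHom.id K ∨ ε = Model.flip) ∧
        (∃ v0, InV v0 ∧ v0 ≠ 1 ∧ ε v0 = k0) ∧
        ∀ k, (InV k ∨ InV' k) → (k * k0) ^ 10 = 1 → (k * (wK * k0 * wK⁻¹)) ^ 10 = 1 →
          (k * (wK⁻¹ * k0 * wK)) ^ 10 = 1 → ∃ v, InV v ∧ ε v = k := by
      rcases hk0 with h | h
      · refine ⟨MonoidHom.id K, Or.inl rfl, ⟨k0, h, hk01, rfl⟩, fun k hk e1 e2 e3 => ?_⟩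
        rcases hk with h' | h'
        · exact ⟨k, h', rfl⟩
        · refine ⟨1, Or.inl rfl, ?_⟩
          by_contra hne
          refine no_mix'
            k0 k h h' hk01 (fun e => hne (by rw [e, map_one])) |>.elim (· e1) (·.elim (· e2) (· e3))
      · refine ⟨Model.flip, Or.inr rfl, ⟨Model.flip k0, ?_, fun e => hk01 ?_, Model.flip_flip k0⟩, fun k hk e1 e2 e3 => ?_⟩
        · exact (flip_V (Model.flip k0)).2 (by rw [Model.flip_flip]; exact h)
        · rw [← Model.flip_flip k0, e, map_one]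
        rcases hk with h' | h'
        · refine ⟨1, Or.inl rfl, ?_⟩
          by_contra hne
          exact no_mix k k0 h' h (fun e => hne (by rw [e, map_one])) hk01 |>.elim (· e1)
            (·.elim (· e2) (· e3))
        · exact ⟨Model.flip k, (flip_V (Model.flip k)).2 (by rw [Model.flip_flip]; exact h'), Model.flip_flip k⟩
    obtain ⟨v0, hv0, hv01, hv0e⟩ := hε0
    have hwfix : ε wK = wK := by
      rcases hε with rfl | rfl
      · rfl
      · exact flip_sw _ basic_eqs.2.2.2.2.2.2.2.2.2.2.2.2.2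
    have hconj : ∀ t, ψ t ∈ W → ψ (wK * t * wK⁻¹) ∈ W := fun t ht => by
      have := W_zK S hWX hco hin ht
      rw [← S.n_wK] at this
      rw [map_mul, map_mul, map_inv]; exact this
    have hconjε : ∀ t, ψ (ε t) ∈ W → ψ (ε (wK * t * wK⁻¹)) ∈ W := fun t ht => by
      have := hconj _ ht
      rwa [map_mul ε, map_mul ε, map_inv ε, hwfix]
    have hinvw : ∀ t : K, wK⁻¹ * t * wK = wK * (wK * t * wK⁻¹) * wK⁻¹ := by decide +kernel
    have hVW : ∀ v, InV v → ψ (ε v) ∈ W := by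
      intro v hv
      have h0 : ψ (ε v0) ∈ W := hv0e ▸ hg0
      rcases V_orbit v0 v hv0 hv01 hv with rfl | rfl | rfl | rfl
      · rw [map_one, map_one]; exact one_mem _
      · exact h0
      · exact hconjε _ h0
      · rw [hinvw]; exact hconjε _ (hconjε _ h0)
    have hBmem : ∀ g ∈ W, g * S.φ wK = S.φ wK * g → ∃ v, InV v ∧ g = ψ (ε v) := by
      intro g hg hgc
      obtain ⟨k, hk, rfl⟩ := cent_wK S hWX hco hin hg hgc
      have hk0W : ψ k0 ∈ W := hg0
      have key : ∀ t, ψ t ∈ W → (InV k ∨ InV' k) → (k * t) * zK = zK * (k * t) → (k * t) ^ 10 = 1 := by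
        intro t ht _ htc
        have h1 : orderOf (k * t) ∣ 30 := orderOf_dvd_of_pow_eq_one (pow_thirty _ htc)
        have h2 : (orderOf (k * t)).Coprime 3 := by
          have hm : ψ (k * t) ∈ W := by rw [map_mul]; exact mul_mem hg ht
          have := hco.coprime_dvd_left (W.orderOf_dvd_natCard hm)
          rwa [orderOf_injective ψ (fun a b e => S.inj (mul_left_cancel (mul_right_cancel e)))] at this
        exact orderOf_dvd_iff_pow_eq_one.1 (h2.dvd_of_dvd_mul_left (show orderOf (k * t) ∣ 3 * 10 from h1))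
      have hcz : ∀ t : K, InV t ∨ InV' t → t * zK = zK * t ∧ (wK * t * wK⁻¹) * zK = zK * (wK * t * wK⁻¹) ∧
          (wK⁻¹ * t * wK) * zK = zK * (wK⁻¹ * t * wK) := by decide +kernel
      obtain ⟨c1, c2, c3⟩ := hcz k0 hk0
      obtain ⟨ck, -, -⟩ := hcz k hk
      have hk' : Commute k zK := ck
      have W2 := hconj _ hk0W
      have W3 : ψ (wK⁻¹ * k0 * wK) ∈ W := by
        rw [hinvw]
        exact hconj _ W2
      obtain ⟨v, hv, hve⟩ := hεV k hk
        (key _ hk0W hk (hk'.mul_left c1).eq) (key _ W2 hk (hk'.mul_left c2).eq)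
        (key _ W3 hk (hk'.mul_left c3).eq)
      exact ⟨v, hv, by rw [ψa, hve]⟩
    have hcomm : ∀ u v, InV u → InV v → Commute (S.φ u) (ψ (ε v)) := fun u v hu hv =>
      (S.comm_V (hWX (hVW v hv)) hu).symm
    let T : Subgroup G :=
      { carrier := {g | ∃ u v, InV u ∧ InV v ∧ g = S.φ u * ψ (ε v)}
        one_mem' := ⟨1, 1, Or.inl rfl, Or.inl rfl, by simp⟩
        mul_mem' := by
          rintro a b ⟨u, v, hu, hv, rfl⟩ ⟨u', v', hu', hv', rfl⟩
          have hVm : ∀ a b : K, InV a → InV b → InV (a * b) := by decide +kernel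
          refine ⟨u * u', v * v', hVm _ _ hu hu', hVm _ _ hv hv', ?_⟩
          rw [map_mul, map_mul, map_mul]
          exact ((hcomm u' v hu' hv).symm.mul_mul_mul_comm (S.φ u) (ψ (ε v')))
        inv_mem' := by
          rintro a ⟨u, v, hu, hv, rfl⟩
          have hVi : ∀ a : K, InV a → InV a⁻¹ := by decide +kernel
          refine ⟨u⁻¹, v⁻¹, hVi _ hu, hVi _ hv, ?_⟩
          rw [map_inv, map_inv, map_inv, (hcomm u v hu hv).eq, mul_inv_rev] }
    have hWT : W ≤ T := W_le S hWX hco hin (fun u hu => ⟨u, 1, hu, Or.inl rfl, by simp⟩)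
      (fun g hg hgc => by
        obtain ⟨v, hv, rfl⟩ := hBmem g hg hgc
        exact ⟨1, v, Or.inl rfl, hv, by simp⟩)
    refine ⟨ε, hε, hcomm, fun g hg => ?_⟩
    obtain ⟨w, hw, i, rfl⟩ := hdec g hg
    obtain ⟨u, v, hu, hv, rfl⟩ := hWT hw
    exact ⟨u, v, hu, hv, i, rfl⟩
  · exfalso
    push Not at hB
    -- the centraliser is `V × ⟨z⟩`
    let T : Subgroup G :=
      { carrier := {g | ∃ u, InV u ∧ g = S.φ u}
        one_mem' := ⟨1, Or.inl rfl, (map_one _).symm⟩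
        mul_mem' := by
          rintro a b ⟨u, hu, rfl⟩ ⟨u', hu', rfl⟩
          exact ⟨u * u', (by decide +kernel : ∀ a b : K, InV a → InV b → InV (a * b)) _ _ hu hu',
            (map_mul _ _ _).symm⟩
        inv_mem' := by
          rintro a ⟨u, hu, rfl⟩
          exact ⟨u⁻¹, (by decide +kernel : ∀ a : K, InV a → InV a⁻¹) _ hu, (map_inv _ _).symm⟩ }
    have hWT : W ≤ T := W_le S hWX hco hin (fun u hu => ⟨u, hu, rfl⟩) (fun g hg hgc => by
      rw [hB g hg hgc]; exact one_mem _)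
    refine S.no_small_CV fun g hg => ?_
    obtain ⟨w, hw, i, rfl⟩ := hdec g hg
    obtain ⟨u, hu, rfl⟩ := hWT hw
    exact ⟨u, hu, i, rfl⟩

end Data

end Cfsg.Agent.Lib.EightThree88
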