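import Cfsg.Agent.Lib.Coprime.Generation
import Cfsg.Agent.Lib.ZStar.StronglyClosed
import Cfsg.Agent.Lib.Spectrum.SelfThree.Main
import Mathlib.GroupTheory.FixedPointFree
import Mathlib.GroupTheory.Transfer
import Mathlib.GroupTheory.SpecificGroups.Alternating.Simple

/-!
# A group containing `A₅ × A₅` with the same 3-local data equals it

Let `ψ : A₅ × A₅ → G` be an embedding whose image contains the centralisers of the nontrivial
elements of `D = ⟨c⟩ × ⟨c⟩` and the normaliser of `D`, while the Sylow orders for 2 and 3 do not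
exceed 16 and 9.  Then every subgroup of order prime to 3 normalised by `D` lies in the image, so
the normaliser of the Sylow 2-subgroup does; the centralisers of the involutions follow, and the
image is then the whole group by an argument on pairs of involutions.
-/

set_option autoImplicit false
set_option maxRecDepth 100000

namespace Cfsg.Agent.Lib.EightThree88.SqGlobal

open Subgroup Equiv

universe u

abbrev A5 := alternatingGroup (Fin 5)

/-- The 3-cycle `(0 1 2)`. -/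
def c5A : A5 := ⟨swap 0 1 * swap 1 2, Equiv.Perm.mem_alternatingGroup.2 (by decide)⟩

/-- The involution `(0 1)(2 3)`. -/
def uA : A5 := ⟨swap 0 1 * swap 2 3, Equiv.Perm.mem_alternatingGroup.2 (by decide)⟩

/-- The involution `(0 2)(1 3)`. -/
def u2A : A5 := ⟨swap 0 2 * swap 1 3, Equiv.Perm.mem_alternatingGroup.2 (by decide)⟩

/-- The involution `(0 3)(1 2)`. -/
def u3A : A5 := ⟨swap 0 3 * swap 1 2, Equiv.Perm.mem_alternatingGroup.2 (by decide)⟩

/-- The four group on `{0, 1, 2, 3}`. -/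
def InV (x : A5) : Prop := x = 1 ∨ x = uA ∨ x = u2A ∨ x = u3A

instance : DecidablePred InV := fun x => by unfold InV; infer_instance

theorem u_facts : uA * uA = 1 ∧ u2A * u2A = 1 ∧ u3A * u3A = 1 ∧ uA * u2A = u3A ∧ u2A * uA = u3A ∧
    uA ≠ 1 ∧ u2A ≠ 1 ∧ c5A ^ 3 = 1 ∧ c5A ≠ 1 ∧ c5A⁻¹ = c5A ^ 2 ∧
    c5A * uA * c5A⁻¹ = u3A ∧ c5A * u3A * c5A⁻¹ = u2A ∧ c5A * u2A * c5A⁻¹ = uA := by decide +kernel

theorem invol_A5 : ∀ a : A5, a * a = 1 → a = 1 ∨ ∃ b : A5, b * uA * b⁻¹ = a := by decide +kernel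

theorem cent_uA : ∀ a : A5, a * uA = uA * a → InV a := by decide +kernel

theorem cent_c5A : ∀ a : A5, a * c5A = c5A * a → ∃ i : Fin 3, a = c5A ^ (i : ℕ) := by decide +kernel

theorem c_norm_V : ∀ i : Fin 3, ∀ v : A5, InV v → InV (c5A ^ (i : ℕ) * v * (c5A ^ (i : ℕ))⁻¹) := by
  decide +kernel

theorem norm_DV : ∀ a : A5, InV (a * uA * a⁻¹) → InV (a * u2A * a⁻¹) →
    (∃ i : Fin 3, a * c5A * a⁻¹ = c5A ^ (i : ℕ)) → a * c5A = c5A * a := by decide +kernel

theorem norm_uV : ∀ a : A5, a * uA = uA * a → ∀ v : A5, InV v → a * v = v * a := by decide +kernel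

theorem inV_comm : ∀ v w : A5, InV v → InV w → v * w = w * v ∧ InV (v * w) ∧ v * v = 1 := by
  decide +kernel

theorem inV_inv {v : A5} (hv : InV v) : InV v⁻¹ := by
  rwa [inv_eq_of_mul_eq_one_right (inV_comm v v hv hv).2.2]

theorem card_A5 : Nat.card A5 = 60 := by
  rw [Nat.card_eq_fintype_card]; decide +kernel

theorem card_InV : Nat.card {x : A5 // InV x} = 4 := by
  rw [Nat.card_eq_fintype_card]; decide +kernel

/-- The four group as a subgroup. -/
def V4 : Subgroup A5 where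
  carrier := {x | InV x}
  one_mem' := Or.inl rfl
  mul_mem' ha hb := (inV_comm _ _ ha hb).2.1
  inv_mem' ha := inV_inv ha

/-- The elementary abelian group of order 16. -/
def ElA : Subgroup (A5 × A5) := V4.prod V4

/-- The Sylow 3-subgroup. -/
def DA : Subgroup (A5 × A5) := (zpowers c5A).prod (zpowers c5A)

theorem mem_ElA {p : A5 × A5} : p ∈ ElA ↔ InV p.1 ∧ InV p.2 := Subgroup.mem_prod

theorem card_ElA : Nat.card ElA = 16 := by
  rw [ElA, Nat.card_congr (Subgroup.prodEquiv V4 V4).toEquiv, Nat.card_prod,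
    show Nat.card V4 = 4 from card_InV]

theorem orderOf_c5A : orderOf c5A = 3 :=
  have : Fact (Nat.Prime 3) := ⟨Nat.prime_three⟩
  orderOf_eq_prime u_facts.2.2.2.2.2.2.2.1 u_facts.2.2.2.2.2.2.2.2.1

theorem card_DA : Nat.card DA = 9 := by
  rw [DA, Nat.card_congr (Subgroup.prodEquiv _ _).toEquiv, Nat.card_prod, Nat.card_zpowers,
    orderOf_c5A]

theorem mem_zpowers_c5A {x : A5} (hx : x ∈ zpowers c5A) : ∃ i : Fin 3, x = c5A ^ (i : ℕ) := by
  refine cent_c5A x ?_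
  obtain ⟨k, rfl⟩ := mem_zpowers_iff.1 hx
  exact ((Commute.refl c5A).zpow_left k).eq

theorem eq_one_of_odd {x : A5} (h : InV x) (ho : Odd (orderOf x)) : x = 1 := by
  refine orderOf_eq_one_iff.1 (Nat.eq_one_of_dvd_coprimes (Nat.coprime_two_right.2 ho) dvd_rfl
    (orderOf_dvd_of_pow_eq_one ?_))
  rw [pow_two]; exact (inV_comm x x h h).2.2

/-- The hypotheses. -/
structure Hyp {G : Type u} [Group G] (ψ : A5 × A5 →* G) : Prop where
  inj : Function.Injective ψ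
  h1 : centralizer ({ψ (c5A, 1)} : Set G) ≤ ψ.range
  h2 : centralizer ({ψ (1, c5A)} : Set G) ≤ ψ.range
  h3 : centralizer ({ψ (c5A, c5A)} : Set G) ≤ ψ.range
  h4 : centralizer ({ψ (c5A, c5A⁻¹)} : Set G) ≤ ψ.range
  hN : normalizer ((DA.map ψ : Subgroup G) : Set G) ≤ ψ.range
  hS2 : ∀ Q : Subgroup G, IsPGroup 2 Q → Nat.card Q ≤ 16
  hS3 : ∀ Q : Subgroup G, IsPGroup 3 Q → Nat.card Q ≤ 9

variable {G : Type u} [Group G] [Finite G] {ψ : A5 × A5 →* G}

omit [Finite G] in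
theorem comm_of_map (hψ : Function.Injective ψ) {a b a' b' : A5}
    (h : ψ (a, b) * ψ (a', b') = ψ (a', b') * ψ (a, b)) : a * a' = a' * a ∧ b * b' = b' * b := by
  rw [← map_mul, ← map_mul] at h
  exact Prod.ext_iff.1 (hψ h)

omit [Finite G] in
theorem psi_conj (p q : A5 × A5) : ψ (p * q * p⁻¹) = ψ p * ψ q * (ψ p)⁻¹ := by
  rw [map_mul, map_mul, map_inv]

omit [Finite G] in
theorem psi_sq {p : A5 × A5} (h : p * p = 1) : ψ p * ψ p = 1 := by rw [← map_mul, h, map_one]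

namespace Hyp

variable (H : Hyp ψ)
include H

omit [Finite G] in
/-- The two factors may be interchanged. -/
theorem swap : Hyp (ψ.comp (MulEquiv.prodComm : A5 × A5 ≃* A5 × A5).toMonoidHom) where
  inj := H.inj.comp (MulEquiv.prodComm : A5 × A5 ≃* A5 × A5).injective
  h1 := fun g hg => by
    obtain ⟨⟨a, b⟩, rfl⟩ := H.h2 hg
    exact ⟨(b, a), rfl⟩
  h2 := fun g hg => by
    obtain ⟨⟨a, b⟩, rfl⟩ := H.h1 hg
    exact ⟨(b, a), rfl⟩
  h3 := fun g hg => by
    obtain ⟨⟨a, b⟩, rfl⟩ := H.h3 hg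
    exact ⟨(b, a), rfl⟩
  h4 := fun g hg => by
    have hg' : g ∈ centralizer ({ψ (c5A, c5A⁻¹)} : Set G) := by
      have h := mem_centralizer_singleton_iff.1 hg
      refine mem_centralizer_singleton_iff.2 ?_
      have e : ψ (c5A, c5A⁻¹) = (ψ (c5A⁻¹, c5A))⁻¹ := by rw [← map_inv]; simp [Prod.inv_mk]
      rw [e]
      exact ((show Commute g (ψ (c5A⁻¹, c5A)) from h).inv_right).eq
    obtain ⟨⟨a, b⟩, rfl⟩ := H.h4 hg'
    exact ⟨(b, a), rfl⟩
  hN := fun g hg => by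
    have e : DA.map (ψ.comp (MulEquiv.prodComm : A5 × A5 ≃* A5 × A5).toMonoidHom) = DA.map ψ := by
      rw [← Subgroup.map_map]
      congr 1
      ext ⟨a, b⟩
      constructor
      · rintro ⟨⟨a', b'⟩, h, e⟩
        cases e
        exact ⟨(Subgroup.mem_prod.1 h).2, (Subgroup.mem_prod.1 h).1⟩
      · intro h
        exact ⟨(b, a), ⟨(Subgroup.mem_prod.1 h).2, (Subgroup.mem_prod.1 h).1⟩, rfl⟩
    rw [e] at hg
    obtain ⟨⟨a, b⟩, rfl⟩ := H.hN hg
    exact ⟨(b, a), rfl⟩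
  hS2 := H.hS2
  hS3 := H.hS3

/-- A subgroup of order prime to 3 normalised by `D` lies in the image. -/
theorem invariant_le {X : Subgroup G} (he : ψ (c5A, 1) ∈ normalizer (X : Set G))
    (hf : ψ (1, c5A) ∈ normalizer (X : Set G)) (h3X : ¬ 3 ∣ Nat.card X) : X ≤ ψ.range := by
  have : Fact (Nat.Prime 3) := ⟨Nat.prime_three⟩
  have hc3 := u_facts.2.2.2.2.2.2.2.1
  have hcl : closure ({ψ (c5A, 1), ψ (1, c5A)} : Set G) ≤ DA.map ψ := by
    rw [closure_le]
    rintro x (rfl | rfl)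
    · exact ⟨_, ⟨mem_zpowers _, one_mem _⟩, rfl⟩
    · exact ⟨_, ⟨one_mem _, mem_zpowers _⟩, rfl⟩
  have hdvd : Nat.card (closure ({ψ (c5A, 1), ψ (1, c5A)} : Set G)) ∣ 3 ^ 2 := by
    have h := card_dvd_of_le hcl
    rwa [Nat.card_congr (Subgroup.equivMapOfInjective DA ψ H.inj).symm.toEquiv, card_DA] at h
  have hco : Nat.Coprime 3 (Nat.card X) := Nat.prime_three.coprime_iff_not_dvd.2 h3X
  refine (Cfsg.Agent.Lib.Coprime.le_lineCentralizers (q := 3) (e := ψ (c5A, 1)) (f := ψ (1, c5A))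
    ?_ he hf ?_ ?_ ((hco.pow_left 2).coprime_dvd_left hdvd) hco).trans ?_
  · show _ = _
    rw [← map_mul, ← map_mul]; simp
  · rw [← map_pow, Prod.pow_mk, hc3, one_pow, ← Prod.one_eq_mk, map_one]; exact one_mem _
  · rw [← map_pow, Prod.pow_mk, hc3, one_pow, ← Prod.one_eq_mk, map_one]; exact one_mem _
  refine sup_le (inf_le_right.trans H.h2) (iSup_le fun t => ?_)
  have hlt : t.val < 3 := ZMod.val_lt t
  rw [← map_pow, ← map_mul, Prod.pow_mk, Prod.mk_mul_mk, one_pow, mul_one, one_mul]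
  rcases (show t.val = 0 ∨ t.val = 1 ∨ t.val = 2 by omega) with e | e | e <;> rw [e]
  · rw [pow_zero]; exact inf_le_right.trans H.h1
  · rw [pow_one]; exact inf_le_right.trans H.h3
  · rw [← u_facts.2.2.2.2.2.2.2.2.2.1]; exact inf_le_right.trans H.h4

omit [Finite G] in
theorem card_El : Nat.card (ElA.map ψ) = 16 := by
  rw [← Nat.card_congr (Subgroup.equivMapOfInjective ElA ψ H.inj).toEquiv, card_ElA]

omit [Finite G] in
theorem mem_El {g : G} : g ∈ ElA.map ψ ↔ ∃ a b, InV a ∧ InV b ∧ ψ (a, b) = g := by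
  constructor
  · rintro ⟨⟨a, b⟩, h, rfl⟩; exact ⟨a, b, (mem_ElA.1 h).1, (mem_ElA.1 h).2, rfl⟩
  · rintro ⟨a, b, ha, hb, rfl⟩; exact ⟨(a, b), mem_ElA.2 ⟨ha, hb⟩, rfl⟩

omit [Finite G] in
theorem El_isPGroup : IsPGroup 2 (ElA.map ψ) :=
  IsPGroup.of_card (n := 4) (by rw [H.card_El]; norm_num)

omit [Finite G] in
/-- An element of the image normalising `El` normalises `V` in each coordinate. -/
theorem coord_norm {a b : A5} (h : ψ (a, b) ∈ normalizer ((ElA.map ψ : Subgroup G) : Set G)) :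
    (InV (a * uA * a⁻¹) ∧ InV (a * u2A * a⁻¹)) ∧ (InV (b * uA * b⁻¹) ∧ InV (b * u2A * b⁻¹)) := by
  have key : ∀ v w, InV v → InV w → InV (a * v * a⁻¹) ∧ InV (b * w * b⁻¹) := by
    intro v w hv hw
    have := (mem_normalizer_iff.1 h (ψ (v, w))).1 (H.mem_El.2 ⟨v, w, hv, hw, rfl⟩)
    rw [← psi_conj] at this
    obtain ⟨a', b', ha', hb', e⟩ := H.mem_El.1 this
    obtain ⟨e1, e2⟩ := Prod.ext_iff.1 (H.inj e)
    simp only [Prod.fst_mul, Prod.snd_mul, Prod.fst_inv, Prod.snd_inv] at e1 e2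
    exact ⟨e1 ▸ ha', e2 ▸ hb'⟩
  exact ⟨⟨(key uA uA (Or.inr (Or.inl rfl)) (Or.inr (Or.inl rfl))).1,
    (key u2A u2A (Or.inr (Or.inr (Or.inl rfl))) (Or.inr (Or.inr (Or.inl rfl)))).1⟩,
    (key uA uA (Or.inr (Or.inl rfl)) (Or.inr (Or.inl rfl))).2,
    (key u2A u2A (Or.inr (Or.inr (Or.inl rfl))) (Or.inr (Or.inr (Or.inl rfl)))).2⟩

/-- The normaliser of the Sylow 2-subgroup lies in the image. -/
theorem normalizer_El_le : normalizer ((ElA.map ψ : Subgroup G) : Set G) ≤ ψ.range := by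
  classical
  have : Fact (Nat.Prime 3) := ⟨Nat.prime_three⟩
  set N := normalizer ((ElA.map ψ : Subgroup G) : Set G) with hNdef
  have hDN : DA.map ψ ≤ N := by
    rintro _ ⟨⟨a, b⟩, hab, rfl⟩
    obtain ⟨i, hi⟩ := mem_zpowers_c5A (Subgroup.mem_prod.1 hab).1
    obtain ⟨j, hj⟩ := mem_zpowers_c5A (Subgroup.mem_prod.1 hab).2
    dsimp only at hi hj
    subst hi hj
    refine (mem_normalizer_iff_map_conj_eq ..).2 (eq_of_le_of_card_ge ?_ (le_of_eq ?_))
    · rintro _ ⟨x, hx, rfl⟩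
      obtain ⟨v, w, hv, hw, rfl⟩ := H.mem_El.1 hx
      exact H.mem_El.2 ⟨_, _, c_norm_V i v hv, c_norm_V j w hw,
        (psi_conj (_, _) (v, w))⟩
    · exact (Nat.card_congr (Subgroup.equivMapOfInjective _ _ (MulAut.conj _).injective).toEquiv)
  have hD : IsPGroup 3 ((DA.map ψ).subgroupOf N) :=
    (IsPGroup.of_card (n := 2) (show Nat.card (DA.map ψ) = 3 ^ 2 by
      rw [← Nat.card_congr (Subgroup.equivMapOfInjective DA ψ H.inj).toEquiv, card_DA]; norm_num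
      )).comap_of_injective N.subtype (subtype_injective N)
  obtain ⟨P, hP⟩ := hD.exists_le_sylow
  have hPeq : (P : Subgroup N).map N.subtype = DA.map ψ := by
    refine (eq_of_le_of_card_ge ?_ ?_).symm
    · intro x hx
      exact ⟨⟨x, hDN hx⟩, hP (mem_subgroupOf.2 hx), rfl⟩
    · refine (H.hS3 _ (P.2.map _)).trans (le_of_eq ?_)
      rw [← Nat.card_congr (Subgroup.equivMapOfInjective DA ψ H.inj).toEquiv, card_DA]
  have hmemP : ∀ x : N, x ∈ P ↔ (x : G) ∈ DA.map ψ := fun x => by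
    rw [← hPeq]
    exact ⟨fun h => ⟨x, h, rfl⟩, fun ⟨y, hy, e⟩ => Subtype.ext e ▸ hy⟩
  have hNC : normalizer ((P : Subgroup N) : Set N) ≤ centralizer ((P : Subgroup N) : Set N) := by
    intro n hn
    have hn' : (n : G) ∈ normalizer ((DA.map ψ : Subgroup G) : Set G) := by
      rw [mem_normalizer_iff]
      intro x
      refine ⟨fun hx => ?_, fun hx => ?_⟩
      · have := (mem_normalizer_iff.1 hn ⟨x, hDN hx⟩).1 ((hmemP _).2 hx)
        exact (hmemP _).1 this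
      · have hxN : x ∈ N := by
          have := mul_mem (mul_mem (inv_mem n.2) (hDN hx)) n.2
          rwa [show (n : G)⁻¹ * ((n : G) * x * (n : G)⁻¹) * n = x by group] at this
        exact (hmemP _).1 ((mem_normalizer_iff.1 hn ⟨x, hxN⟩).2 ((hmemP _).2 hx))
    obtain ⟨⟨a, b⟩, hab⟩ := H.hN hn'
    obtain ⟨⟨ha1, ha2⟩, hb1, hb2⟩ := H.coord_norm (a := a) (b := b) (by rw [hab]; exact n.2)
    have hc := (mem_normalizer_iff.1 hn' (ψ (c5A, c5A))).1
      ⟨_, ⟨mem_zpowers _, mem_zpowers _⟩, rfl⟩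
    rw [← hab, ← psi_conj] at hc
    obtain ⟨⟨d, e⟩, hde, he⟩ := hc
    obtain ⟨e1, e2⟩ := Prod.ext_iff.1 (H.inj he)
    simp only [Prod.fst_mul, Prod.snd_mul, Prod.fst_inv, Prod.snd_inv] at e1 e2
    obtain ⟨hd', he'⟩ := Subgroup.mem_prod.1 hde
    have hac := norm_DV a ha1 ha2 (mem_zpowers_c5A (e1 ▸ hd'))
    have hbc := norm_DV b hb1 hb2 (mem_zpowers_c5A (e2 ▸ he'))
    rw [mem_centralizer_iff]
    intro p hp
    obtain ⟨⟨x, y⟩, hxy, hp'⟩ := (hmemP p).1 hp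
    obtain ⟨i, hi⟩ := mem_zpowers_c5A (Subgroup.mem_prod.1 hxy).1
    obtain ⟨j, hj⟩ := mem_zpowers_c5A (Subgroup.mem_prod.1 hxy).2
    refine Subtype.ext ?_
    show (p : G) * (n : G) = n * p
    rw [← hab, ← hp', ← map_mul, ← map_mul]
    dsimp only at hi hj
    subst hi hj
    rw [Prod.mk_mul_mk, Prod.mk_mul_mk, ((show Commute a c5A from hac).pow_right i).eq,
      ((show Commute b c5A from hbc).pow_right j).eq]
  set K := (MonoidHom.transferSylow P hNC).ker with hKdef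
  have hKX : ∀ d : N, (d : G) ∈ normalizer ((K.map N.subtype : Subgroup G) : Set G) := fun d => by
    rw [mem_normalizer_iff]
    intro x
    constructor
    · rintro ⟨k, hk, rfl⟩
      exact ⟨d * k * d⁻¹, (MonoidHom.normal_ker _).conj_mem k hk d, rfl⟩
    · rintro ⟨k, hk, e⟩
      refine ⟨d⁻¹ * k * d, by
        have := (MonoidHom.normal_ker (MonoidHom.transferSylow P hNC)).conj_mem k hk d⁻¹
        rw [inv_inv] at this
        exact this, ?_⟩
      have e' : (k : G) = (d : G) * x * (d : G)⁻¹ := e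
      show (d : G)⁻¹ * (k : G) * (d : G) = x
      rw [e']; group
  have hKle : K.map N.subtype ≤ ψ.range := H.invariant_le
    (hKX ⟨_, hDN ⟨_, ⟨mem_zpowers _, one_mem _⟩, rfl⟩⟩)
    (hKX ⟨_, hDN ⟨_, ⟨one_mem _, mem_zpowers _⟩, rfl⟩⟩)
    (by
      rw [← Nat.card_congr (Subgroup.equivMapOfInjective K _ (subtype_injective N)).toEquiv]
      exact MonoidHom.not_dvd_card_ker_transferSylow P hNC)
  intro g hg
  have htop : (⊤ : Subgroup N) ≤ ψ.range.comap N.subtype := by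
    rw [← (MonoidHom.ker_transferSylow_isComplement' P hNC).sup_eq_top]
    refine sup_le (fun k hk => hKle ⟨k, hk, rfl⟩) fun p hp => ?_
    obtain ⟨q, -, hq⟩ := (hmemP p).1 hp
    exact ⟨q, hq⟩
  exact htop (mem_top (⟨g, hg⟩ : N))

/-- The Sylow 2-subgroup. -/
theorem exists_sylow : ∃ P : Sylow 2 G, (P : Subgroup G) = ElA.map ψ := by
  have : Fact (Nat.Prime 2) := ⟨Nat.prime_two⟩
  obtain ⟨P, hP⟩ := H.El_isPGroup.exists_le_sylow
  exact ⟨P, (eq_of_le_of_card_ge hP ((H.hS2 _ P.2).trans H.card_El.ge)).symm⟩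

/-- Fusion in `El` happens in the image. -/
theorem fusion {p q : A5 × A5} (hp : p ∈ ElA) (hq : q ∈ ElA) {g : G}
    (h : g * ψ p * g⁻¹ = ψ q) : ∃ r : A5 × A5, r * p * r⁻¹ = q := by
  have : Fact (Nat.Prime 2) := ⟨Nat.prime_two⟩
  obtain ⟨P, hP⟩ := H.exists_sylow
  have hPm : ∀ x, x ∈ P ↔ x ∈ ElA.map ψ := fun x => by rw [← hP]; rfl
  haveI : IsMulCommutative (P : Subgroup G) := ⟨⟨fun a b => Subtype.ext (by
    obtain ⟨x, y, hx, hy, hxy⟩ := H.mem_El.1 ((hPm _).1 a.2)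
    obtain ⟨x', y', hx', hy', hxy'⟩ := H.mem_El.1 ((hPm _).1 b.2)
    show (a : G) * b = b * a
    rw [← hxy, ← hxy', ← map_mul, ← map_mul, Prod.mk_mul_mk, Prod.mk_mul_mk,
      (inV_comm x x' hx hx').1, (inV_comm y y' hy hy').1])⟩⟩
  obtain ⟨n, hn, he⟩ := P.conj_eq_normalizer_conj_of_mem (ψ p) g⁻¹
    ((hPm _).2 (mem_map_of_mem ψ hp)) (by rw [inv_inv, h]; exact (hPm _).2 (mem_map_of_mem ψ hq))
  rw [inv_inv, h] at he
  obtain ⟨r, hr⟩ := H.normalizer_El_le (by rw [← hP]; exact hn)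
  refine ⟨r⁻¹, H.inj ?_⟩
  rw [psi_conj, map_inv, hr, inv_inv, he]

/-- The centraliser of the first four group is `V × A₅`. -/
theorem cent_four {g : G} (h1 : g * ψ (uA, 1) = ψ (uA, 1) * g)
    (h2 : g * ψ (u2A, 1) = ψ (u2A, 1) * g) : g ∈ ψ.range := by
  classical
  have : Fact (Nat.Prime 2) := ⟨Nat.prime_two⟩
  have : Fact (Nat.Prime 3) := ⟨Nat.prime_three⟩
  obtain ⟨hu, hu2, -, huu2, hu2u, -, -, hc3, hc1, -, -, -, -⟩ := u_facts
  set Y : Subgroup G := centralizer ({ψ (uA, 1), ψ (u2A, 1)} : Set G) with hYdef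
  have memY : ∀ x, x ∈ Y ↔ x * ψ (uA, 1) = ψ (uA, 1) * x ∧ x * ψ (u2A, 1) = ψ (u2A, 1) * x := by
    intro x
    rw [hYdef, mem_centralizer_iff]
    simp [eq_comm]
  have hVV : ∀ v, InV v → ∀ x ∈ Y, x * ψ (v, 1) = ψ (v, 1) * x := by
    intro v hv x hx
    obtain ⟨e1, e2⟩ := (memY x).1 hx
    rcases hv with rfl | rfl | rfl | rfl
    · rw [← Prod.one_eq_mk, map_one, mul_one, one_mul]
    · exact e1
    · exact e2
    · have e : ψ (u3A, 1) = ψ (uA, 1) * ψ (u2A, 1) := by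
        rw [← map_mul, Prod.mk_mul_mk, huu2, one_mul]
      rw [e]
      exact (Commute.mul_right e1 e2).eq
  have hmem : ∀ a b, InV a → ψ (a, b) ∈ Y := fun a b ha => by
    rw [memY, ← map_mul, ← map_mul, ← map_mul, ← map_mul]
    simp only [Prod.mk_mul_mk, mul_one, one_mul]
    rw [(inV_comm a uA ha (Or.inr (Or.inl rfl))).1, (inV_comm a u2A ha (Or.inr (Or.inr (Or.inl rfl)))).1]
    exact ⟨rfl, rfl⟩
  let E : Subgroup Y := ((V4.prod ⊥).map ψ).subgroupOf Y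
  have memE : ∀ x : Y, x ∈ E ↔ ∃ v, InV v ∧ ψ (v, 1) = (x : G) := by
    intro x
    constructor
    · rintro ⟨⟨v, w⟩, hvw, e⟩
      obtain ⟨hv, hw⟩ := Subgroup.mem_prod.1 hvw
      dsimp only at hw
      rw [mem_bot] at hw
      subst hw
      exact ⟨v, hv, e⟩
    · rintro ⟨v, hv, e⟩
      exact ⟨(v, 1), Subgroup.mem_prod.2 ⟨hv, one_mem _⟩, e⟩
  haveI : E.Normal := ⟨fun n hn y => by
    obtain ⟨v, hv, hvn⟩ := (memE n).1 hn
    refine (memE _).2 ⟨v, hv, ?_⟩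
    show ψ (v, 1) = (y : G) * n * (y : G)⁻¹
    rw [← hvn, hVV v hv y y.2, mul_inv_cancel_right]⟩
  have hE4 : Nat.card E = 4 := by
    rw [Nat.card_congr (subgroupOfEquivOfLe (by
      rintro _ ⟨⟨v, w⟩, hvw, rfl⟩
      exact hmem v w (Subgroup.mem_prod.1 hvw).1)).toEquiv,
      ← Nat.card_congr (Subgroup.equivMapOfInjective _ ψ H.inj).toEquiv,
      Nat.card_congr (Subgroup.prodEquiv _ _).toEquiv, Nat.card_prod, Subgroup.card_bot, mul_one]
    exact card_InV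
  let φ : A5 →* Y := (ψ.comp (MonoidHom.inr A5 A5)).codRestrict Y fun b => hmem 1 b (Or.inl rfl)
  let q : Y →* Y ⧸ E := QuotientGroup.mk' E
  let θ : A5 →* Y ⧸ E := q.comp φ
  have hθ : Function.Injective θ := by
    rw [injective_iff_map_eq_one]
    intro b hb
    obtain ⟨v, -, e⟩ := (memE _).1 ((QuotientGroup.eq_one_iff (φ b)).1 hb)
    exact (Prod.ext_iff.1 (H.inj (show ψ (v, 1) = ψ (1, b) from e))).2.symm
  have hqV : ∀ (v b : A5) (hv : InV v), q ⟨ψ (v, b), hmem v b hv⟩ = θ b := by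
    intro v b hv
    refine QuotientGroup.eq.2 ((memE _).2 ⟨v, hv, ?_⟩)
    show ψ (v, 1) = (ψ (v, b))⁻¹ * ψ (1, b)
    rw [← map_inv, ← map_mul, Prod.inv_mk, Prod.mk_mul_mk, mul_one, inv_mul_cancel,
      inv_eq_of_mul_eq_one_right (inV_comm v v hv hv).2.2]
  have hs : Cfsg.Agent.Lib.Spectrum.SelfThree.SC (θ c5A) := by
    refine ⟨orderOf_eq_prime (by rw [← map_pow, hc3, map_one])
      (fun e => hc1 (hθ (e.trans (map_one θ).symm))), ?_⟩
    intro w hw
    obtain ⟨y, rfl⟩ := QuotientGroup.mk'_surjective E w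
    have hw' : q (y * φ c5A * y⁻¹) = q (φ c5A) := by
      rw [map_mul, map_mul, map_inv, mul_inv_eq_iff_eq_mul]; exact hw
    obtain ⟨v, hv, e⟩ := (memE _).1 (QuotientGroup.eq.1 hw'.symm)
    change ψ (v, 1) = (ψ (1, c5A))⁻¹ * ((y : G) * ψ (1, c5A) * (y : G)⁻¹) at e
    have e2 : (y : G) * ψ (1, c5A) * (y : G)⁻¹ = ψ (v, c5A) := by
      rw [show (v, c5A) = ((1 : A5), c5A) * (v, 1) by simp, map_mul, e]; group
    have hv1 : v = 1 := by
      have h3 := congrArg (fun x => x ^ 3) e2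
      simp only [← MulAut.conj_apply, ← map_pow, Prod.pow_mk, hc3, one_pow] at h3
      rw [← Prod.one_eq_mk, map_one, map_one] at h3
      have h4 : v ^ 3 = 1 :=
        (Prod.ext_iff.1 (H.inj ((map_one ψ).trans h3))).1.symm
      rwa [pow_succ, pow_two, (inV_comm v v hv hv).2.2, one_mul] at h4
    subst hv1
    obtain ⟨⟨a, b⟩, hab⟩ := H.h2 (mem_centralizer_singleton_iff.2 (mul_inv_eq_iff_eq_mul.1 e2))
    obtain ⟨hA, hB⟩ := comm_of_map H.inj (a := a) (b := b) (a' := 1) (b' := c5A) (by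
      rw [hab]; exact mul_inv_eq_iff_eq_mul.1 e2)
    have hau := ((memY _).1 (hab ▸ y.2 : ψ (a, b) ∈ Y)).1
    have haV : InV a := cent_uA a (comm_of_map H.inj hau).1
    obtain ⟨i, rfl⟩ := cent_c5A b hB
    rw [show y = ⟨ψ (a, c5A ^ (i : ℕ)), hmem _ _ haV⟩ from Subtype.ext hab.symm]
    change q _ ∈ _
    rw [hqV a _ haV, map_pow]
    exact pow_mem (mem_zpowers _) _
  have hcW : Nat.card (Y ⧸ E) * 4 = Nat.card Y := by
    rw [card_eq_card_quotient_mul_card_subgroup E, hE4]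
  have hsurj : Function.Surjective θ := by
    rcases Cfsg.Agent.Lib.Spectrum.SelfThree.shape hs with
      ⟨N, hN, hN3, hidx⟩ | ⟨N, hN, hexp, h60, -⟩ | ⟨h168, -⟩
    · exfalso
      haveI := hN
      rcases (inferInstance : (N.comap θ).Normal).eq_bot_or_eq_top with hk | hk
      · have hinj : Function.Injective ((QuotientGroup.mk' N).comp θ) := by
          rw [injective_iff_map_eq_one]
          intro b hb
          have : b ∈ N.comap θ := (QuotientGroup.eq_one_iff (θ b)).1 hb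
          rwa [hk, mem_bot] at this
        have hle := Nat.card_le_card_of_injective _ hinj
        rw [card_A5, ← index_eq_card] at hle
        omega
      · have hm : θ c5A ∈ N := (hk ▸ mem_top c5A : c5A ∈ N.comap θ)
        exact hN3 (hs.ord ▸ N.orderOf_dvd_natCard hm)
    · have hWc : Nat.card (Y ⧸ E) = 60 * Nat.card N := by
        rw [card_eq_card_quotient_mul_card_subgroup N, h60]
      have hN2 : IsPGroup 2 N := fun n => ⟨1, Subtype.ext (by
        rw [pow_one, Subgroup.coe_pow, OneMemClass.coe_one]; exact hexp _ n.2)⟩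
      obtain ⟨k, hk⟩ := IsPGroup.iff_card.1 hN2
      rcases Nat.eq_zero_or_pos k with rfl | hk0
      · exact ((Nat.bijective_iff_injective_and_card _).2
          ⟨hθ, by rw [hWc, hk, card_A5, pow_zero, mul_one]⟩).2
      · exfalso
        have hd : 2 ^ 5 ∣ Nat.card G := by
          refine dvd_trans ?_ (Subgroup.card_subgroup_dvd_card Y)
          rw [← hcW, hWc, hk]
          obtain ⟨k', rfl⟩ := Nat.exists_eq_add_of_le hk0
          exact ⟨15 * 2 ^ k', by rw [pow_add]; ring⟩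
        obtain ⟨Q, hQ⟩ := Sylow.exists_subgroup_card_pow_prime 2 hd
        have := H.hS2 Q (IsPGroup.of_card hQ)
        omega
    · exfalso
      have := Subgroup.card_dvd_of_injective θ hθ
      rw [card_A5, h168] at this
      norm_num at this
  have hgY : g ∈ Y := (memY g).2 ⟨h1, h2⟩
  obtain ⟨b, hb⟩ := hsurj (q ⟨g, hgY⟩)
  obtain ⟨v, hv, e⟩ := (memE _).1 (QuotientGroup.eq.1 hb)
  change ψ (v, 1) = (ψ (1, b))⁻¹ * g at e
  exact ⟨(1, b) * (v, 1), by rw [map_mul, e, mul_inv_cancel_left]⟩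

/-- The centraliser of the second four group. -/
theorem cent_four' {g : G} (h1 : g * ψ (1, uA) = ψ (1, uA) * g)
    (h2 : g * ψ (1, u2A) = ψ (1, u2A) * g) : g ∈ ψ.range := by
  obtain ⟨⟨a, b⟩, hab⟩ := H.swap.cent_four (g := g) h1 h2
  exact ⟨(b, a), hab⟩

/-- The centraliser of the involution of the first factor. -/
theorem cent_t {g : G} (hg : g * ψ (uA, 1) = ψ (uA, 1) * g) : g ∈ ψ.range := by
  classical
  have : Fact (Nat.Prime 2) := ⟨Nat.prime_two⟩
  obtain ⟨hu, hu2, hu3, huu2, hu2u, hu1, hu21, hc3, hc1, hcinv, hcu, hcu3, hcu2⟩ := u_facts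
  set X : Subgroup G := centralizer ({ψ (uA, 1)} : Set G) with hXdef
  have memX : ∀ x, x ∈ X ↔ x * ψ (uA, 1) = ψ (uA, 1) * x := fun x => mem_centralizer_singleton_iff
  have hmem : ∀ a b, InV a → ψ (a, b) ∈ X := fun a b ha => by
    rw [memX, ← map_mul, ← map_mul]
    simp only [Prod.mk_mul_mk, mul_one, one_mul]
    rw [(inV_comm a uA ha (Or.inr (Or.inl rfl))).1]
  have hEX : ElA.map ψ ≤ X := by
    rintro _ ⟨⟨a, b⟩, h, rfl⟩
    exact hmem a b (mem_ElA.1 h).1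
  obtain ⟨P, hP⟩ := (H.El_isPGroup.comap_of_injective X.subtype
    (subtype_injective _)).exists_le_sylow
  have hPeq : (P : Subgroup X).map X.subtype = ElA.map ψ := by
    refine (eq_of_le_of_card_ge ?_ ((H.hS2 _ (P.2.map _)).trans H.card_El.ge)).symm
    intro x hx
    exact ⟨⟨x, hEX hx⟩, hP (mem_subgroupOf.2 hx), rfl⟩
  have hmemP : ∀ x : X, x ∈ P ↔ (x : G) ∈ ElA.map ψ := fun x => by
    rw [← hPeq]
    exact ⟨fun h => ⟨x, h, rfl⟩, fun ⟨y, hy, e⟩ => Subtype.ext e ▸ hy⟩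
  haveI : IsMulCommutative (P : Subgroup X) := ⟨⟨fun x y => Subtype.ext (Subtype.ext (by
    obtain ⟨a, b, ha, hb, he⟩ := H.mem_El.1 ((hmemP x.1).1 x.2)
    obtain ⟨a', b', ha', hb', he'⟩ := H.mem_El.1 ((hmemP y.1).1 y.2)
    show ((x.1 : X) : G) * (y.1 : X) = (y.1 : X) * (x.1 : X)
    rw [← he, ← he', ← map_mul, ← map_mul, Prod.mk_mul_mk, Prod.mk_mul_mk,
      (inV_comm a a' ha ha').1, (inV_comm b b' hb hb').1]))⟩⟩
  let sX : X := ⟨ψ (u2A, 1), hmem _ _ (Or.inr (Or.inr (Or.inl rfl)))⟩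
  have hsP : sX ∈ P := (hmemP _).2 (H.mem_El.2 ⟨u2A, 1, Or.inr (Or.inr (Or.inl rfl)), Or.inl rfl, rfl⟩)
  have hso : orderOf sX = 2 := orderOf_eq_prime
    (Subtype.ext (by
      show ψ (u2A, 1) ^ 2 = 1
      rw [pow_two]; exact psi_sq (by rw [Prod.mk_mul_mk, hu2, one_mul]; rfl)))
    fun e => hu21 (Prod.ext_iff.1 (H.inj ((congrArg Subtype.val e).trans (map_one ψ).symm))).1
  have hiso : ∀ k : X, k * sX * k⁻¹ ∈ P → k * sX * k⁻¹ = sX := by
    intro k hk
    obtain ⟨n, hn, he⟩ := P.conj_eq_normalizer_conj_of_mem sX k⁻¹ hsP (by rwa [inv_inv])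
    rw [inv_inv] at he
    rw [he]
    have hn' : (n : G) ∈ normalizer ((ElA.map ψ : Subgroup G) : Set G) := by
      rw [mem_normalizer_iff]
      intro x
      refine ⟨fun hx => (hmemP _).1 ((mem_normalizer_iff.1 hn ⟨x, hEX hx⟩).1 ((hmemP _).2 hx)),
        fun hx => ?_⟩
      have hxX : x ∈ X := by
        have := mul_mem (mul_mem (inv_mem n.2) (hEX hx)) n.2
        rwa [show (n : G)⁻¹ * ((n : G) * x * (n : G)⁻¹) * n = x by group] at this
      exact (hmemP _).1 ((mem_normalizer_iff.1 hn ⟨x, hxX⟩).2 ((hmemP _).2 hx))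
    obtain ⟨⟨a, b⟩, hab⟩ := H.normalizer_El_le hn'
    have hau : a * uA = uA * a := (comm_of_map H.inj (a := a) (b := b) (a' := uA) (b' := 1) (by
      rw [hab]; exact (memX _).1 n.2)).1
    refine Subtype.ext ?_
    show (n : G)⁻¹ * ψ (u2A, 1) * n = ψ (u2A, 1)
    rw [mul_assoc, inv_mul_eq_iff_eq_mul, ← hab, ← map_mul, ← map_mul]
    simp only [Prod.mk_mul_mk, mul_one, one_mul]
    rw [norm_uV a hau u2A (Or.inr (Or.inr (Or.inl rfl)))]
  obtain ⟨N, hNn, hNodd, hNcomm⟩ :=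
    Cfsg.Agent.Lib.ZStar.StronglyClosed.involutionThm X P sX hso hsP hiso
  set O := N.map X.subtype with hOdef
  have hOX : O ≤ X := map_subtype_le N
  have hOodd : ∀ x ∈ O, Odd (orderOf x) := by
    rintro _ ⟨n, hn, rfl⟩
    rw [coe_subtype, orderOf_coe]
    exact hNodd.of_dvd_nat (N.orderOf_dvd_natCard hn)
  have hOconj : ∀ y ∈ X, ∀ x ∈ O, y * x * y⁻¹ ∈ O := by
    rintro y hy _ ⟨n, hn, rfl⟩
    exact ⟨⟨y, hy⟩ * n * ⟨y, hy⟩⁻¹, hNn.conj_mem n hn _, rfl⟩
  -- an element of `O` in the image lies in the second factor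
  have hsnd : ∀ x ∈ O, ∀ a b, ψ (a, b) = x → a = 1 := by
    intro x hx a b hab
    refine eq_one_of_odd (cent_uA a (comm_of_map H.inj (a := a) (b := b) (a' := uA) (b' := 1)
      (by rw [hab]; exact (memX x).1 (hOX hx))).1) ((hOodd x hx).of_dvd_nat ?_)
    rw [← hab, orderOf_injective ψ H.inj]
    exact Prod.orderOf (a, b) ▸ Nat.dvd_lcm_left _ _
  -- `s` has no fixed points on `O`
  have hfix : ∀ x ∈ O, x * ψ (u2A, 1) = ψ (u2A, 1) * x → x = 1 := by
    intro x hx hxs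
    obtain ⟨⟨a, b⟩, hab⟩ := H.cent_four ((memX x).1 (hOX hx)) hxs
    obtain rfl := hsnd x hx a b hab
    let M : Subgroup A5 := O.comap (ψ.comp (MonoidHom.inr A5 A5))
    have hM : M.Normal := ⟨fun m hm y => by
      have := hOconj _ (hmem 1 y (Or.inl rfl)) _ (mem_comap.1 hm)
      rw [mem_comap]
      simpa [psi_conj, map_mul, map_inv] using this⟩
    rcases hM.eq_bot_or_eq_top with hk | hk
    · have : b ∈ M := mem_comap.2 (show ψ (1, b) ∈ O from hab ▸ hx)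
      rw [hk, mem_bot] at this
      rw [← hab, this, ← Prod.one_eq_mk, map_one]
    · exfalso
      have hm : uA ∈ M := hk ▸ mem_top _
      have ho := hOodd _ (mem_comap.1 hm)
      rw [MonoidHom.comp_apply, orderOf_injective ψ H.inj,
        orderOf_injective (MonoidHom.inr A5 A5) (fun p q h => (Prod.ext_iff.1 h).2),
        orderOf_eq_prime (by rw [pow_two, hu]) hu1] at ho
      exact absurd ho (by decide)
  -- so `O` is abelian
  have hOcomm : ∀ x ∈ O, ∀ y ∈ O, x * y = y * x := by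
    let s := ψ (u2A, 1)
    have hss : s * s = 1 := psi_sq (by rw [Prod.mk_mul_mk, hu2, one_mul]; rfl)
    let σ : O →* O :=
      { toFun := fun x => ⟨s * x * s⁻¹, hOconj s (hmem _ _ (Or.inr (Or.inr (Or.inl rfl)))) x x.2⟩
        map_one' := Subtype.ext (by simp)
        map_mul' := fun x y => Subtype.ext (by
          show s * ((x : G) * y) * s⁻¹ = s * x * s⁻¹ * (s * y * s⁻¹)
          group) }
    have hff : MonoidHom.FixedPointFree σ := fun x hx => Subtype.ext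
      (hfix x x.2 (mul_inv_eq_iff_eq_mul.1 (congrArg Subtype.val hx)).symm)
    have hinv : Function.Involutive σ := fun x => Subtype.ext (by
      show s * (s * (x : G) * s⁻¹) * s⁻¹ = x
      rw [inv_eq_of_mul_eq_one_right hss]
      calc s * (s * (x : G) * s) * s = (s * s) * x * (s * s) := by group
        _ = x := by rw [hss, one_mul, mul_one])
    intro x hx y hy
    exact congrArg Subtype.val (hff.commute_all_of_involutive hinv ⟨x, hx⟩ ⟨y, hy⟩).eq
  -- the second four group has no fixed points on `O`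
  have hW : ∀ x ∈ O, x * ψ (1, uA) = ψ (1, uA) * x → x * ψ (1, u2A) = ψ (1, u2A) * x → x = 1 := by
    intro x hx e1 e2
    obtain ⟨⟨a, b⟩, hab⟩ := H.cent_four' e1 e2
    obtain rfl := hsnd x hx a b hab
    have hbV : InV b := cent_uA b (comm_of_map H.inj (a := 1) (b := b) (a' := 1) (b' := uA)
      (by rw [hab]; exact e1)).2
    have hb : b = 1 := eq_one_of_odd hbV ((hOodd x hx).of_dvd_nat (by
      rw [← hab, orderOf_injective ψ H.inj]
      exact Prod.orderOf ((1 : A5), b) ▸ Nat.dvd_lcm_right _ _))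
    rw [← hab, hb, ← Prod.one_eq_mk, map_one]
  set v1 := ψ (1, uA) with hv1def
  set v2 := ψ (1, u2A) with hv2def
  set f := ψ (1, c5A) with hfdef
  have hv11 : v1 * v1 = 1 := psi_sq (by rw [Prod.mk_mul_mk, hu, one_mul]; rfl)
  have hv22 : v2 * v2 = 1 := psi_sq (by rw [Prod.mk_mul_mk, hu2, one_mul]; rfl)
  have hv12 : v1 * v2 = v2 * v1 := by
    rw [← map_mul, ← map_mul, Prod.mk_mul_mk, Prod.mk_mul_mk, huu2, hu2u]
  have hfv2 : f * v2 * f⁻¹ = v1 := by
    rw [← psi_conj]; simp [hcu2, v1]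
  have hfv1 : f * v1 * f⁻¹ = v1 * v2 := by
    rw [← psi_conj, ← map_mul]; simp [hcu, huu2]
  have hf3 : f * f * f = 1 := by
    rw [← map_mul, ← map_mul, ← pow_two, ← pow_succ, Prod.pow_mk, hc3, one_pow, ← Prod.one_eq_mk, map_one]
  have hm1 : v1 ∈ X := hmem 1 uA (Or.inl rfl)
  have hm2 : v2 ∈ X := hmem 1 u2A (Or.inl rfl)
  have hmf : f ∈ X := hmem 1 c5A (Or.inl rfl)
  have hfixf : ∀ y ∈ O, y * f = f * y → y = 1 := by
    intro y hy hyf
    obtain ⟨⟨a, b⟩, hab⟩ := H.h2 (mem_centralizer_singleton_iff.2 hyf)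
    refine hfix y hy ?_
    obtain rfl := hsnd y hy a b hab
    rw [← hab, ← map_mul, ← map_mul]; simp
  -- no element of `O` but `1` commutes with `v1`
  have hC1 : ∀ x ∈ O, x * v1 = v1 * x → x = 1 := by
    intro x hx hx1
    have hi1 : v1⁻¹ = v1 := inv_eq_of_mul_eq_one_right hv11
    have hi2 : v2⁻¹ = v2 := inv_eq_of_mul_eq_one_right hv22
    have hx1' : v1 * x * v1 = x := by rw [← hx1, mul_assoc, hv11, mul_one]
    have hx2mem : v2 * x * v2 ∈ O := by
      have := hOconj v2 hm2 x hx; rwa [hi2] at this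
    have hw : x * (v2 * x * v2) = 1 := by
      refine hW _ (mul_mem hx hx2mem) ?_ ?_
      · have c : Commute (v2 * x * v2) v1 :=
          Commute.mul_left (Commute.mul_left (hv12.symm : Commute v2 v1) hx1) (hv12.symm : Commute v2 v1)
        exact (Commute.mul_left hx1 c).eq
      · calc x * (v2 * x * v2) * v2 = x * v2 * x * (v2 * v2) := by group
          _ = x * v2 * x := by rw [hv22, mul_one]
          _ = v2 * (v2 * x * v2 * x) := by
              rw [show v2 * (v2 * x * v2 * x) = (v2 * v2) * x * v2 * x by group, hv22, one_mul]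
          _ = v2 * (x * (v2 * x * v2)) := by rw [hOcomm _ hx _ hx2mem]
    have hx2 : v2 * x * v2 = x⁻¹ := eq_inv_of_mul_eq_one_right hw
    have hx3 : (v1 * v2) * x * (v1 * v2)⁻¹ = x⁻¹ := by
      rw [mul_inv_rev, hi1, hi2]
      calc v1 * v2 * x * (v2 * v1) = v1 * (v2 * x * v2) * v1 := by group
        _ = v1 * x⁻¹ * v1 := by rw [hx2]
        _ = (v1⁻¹ * x * v1⁻¹)⁻¹ := by group
        _ = x⁻¹ := by rw [hi1, hx1']
    set x1 := f * x * f⁻¹ with hx1d
    set x2 := f * x1 * f⁻¹ with hx2d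
    have hm : x1 ∈ O := hOconj f hmf x hx
    have hm' : x2 ∈ O := hOconj f hmf x1 hm
    have hff : f * x2 * f⁻¹ = x := by
      calc f * x2 * f⁻¹ = (f * f * f) * x * (f * f * f)⁻¹ := by rw [hx2d, hx1d]; group
        _ = x := by rw [hf3]; group
    clear_value x1 x2
    have hy : x * x1 * x2 = 1 := by
      refine hfixf _ (mul_mem (mul_mem hx hm) hm') ?_
      have : f * (x * x1 * x2) * f⁻¹ = x * x1 * x2 := by
        calc f * (x * x1 * x2) * f⁻¹ = (f * x * f⁻¹) * (f * x1 * f⁻¹) * (f * x2 * f⁻¹) := by group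
          _ = x1 * x2 * x := by rw [← hx1d, ← hx2d, hff]
          _ = x * (x1 * x2) := hOcomm _ (mul_mem hm hm') _ hx
          _ = x * x1 * x2 := by rw [mul_assoc]
      exact (mul_inv_eq_iff_eq_mul.1 this).symm
    have hc1' : v1 * x1 * v1⁻¹ = x1⁻¹ := by
      calc v1 * x1 * v1⁻¹ = f * (v2 * x * v2⁻¹) * f⁻¹ := by rw [← hfv2, hx1d]; group
        _ = f * x⁻¹ * f⁻¹ := by rw [hi2, hx2]
        _ = x1⁻¹ := by rw [hx1d]; group
    have hff2 : f * (v1 * v2) * f⁻¹ = v2 := by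
      calc f * (v1 * v2) * f⁻¹ = (f * v1 * f⁻¹) * (f * v2 * f⁻¹) := by group
        _ = v1 * v2 * v1 := by rw [hfv1, hfv2]
        _ = v1 * v1 * v2 := by rw [mul_assoc, ← hv12, mul_assoc]
        _ = v2 := by rw [hv11, one_mul]
    have hc2' : v1 * x2 * v1⁻¹ = x2⁻¹ := by
      calc v1 * x2 * v1⁻¹ = f * (v2 * x1 * v2⁻¹) * f⁻¹ := by rw [← hfv2, hx2d]; group
        _ = f * ((f * (v1 * v2) * f⁻¹) * (f * x * f⁻¹) * (f * (v1 * v2) * f⁻¹)⁻¹) * f⁻¹ := by
            rw [hff2, hx1d]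
        _ = f * (f * ((v1 * v2) * x * (v1 * v2)⁻¹) * f⁻¹) * f⁻¹ := by group
        _ = f * (f * x⁻¹ * f⁻¹) * f⁻¹ := by rw [hx3]
        _ = (f * (f * x * f⁻¹) * f⁻¹)⁻¹ := by simp only [_root_.mul_inv_rev, inv_inv, mul_assoc]
        _ = x2⁻¹ := by rw [← hx1d, ← hx2d]
    have hy' : x * x1⁻¹ * x2⁻¹ = 1 := by
      calc x * x1⁻¹ * x2⁻¹ = (v1 * x * v1⁻¹) * (v1 * x1 * v1⁻¹) * (v1 * x2 * v1⁻¹) := by
            rw [hc1', hc2', hi1, hx1']
        _ = v1 * (x * x1 * x2) * v1⁻¹ := by group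
        _ = 1 := by rw [hy]; group
    have e1 : x = x2 * x1 := by
      rwa [mul_assoc, ← mul_inv_rev, mul_inv_eq_one] at hy'
    have e2 : x * x = 1 := by
      calc x * x = x * (x2 * x1) := by rw [← e1]
        _ = x * (x1 * x2) := by rw [hOcomm _ hm' _ hm]
        _ = 1 := by rw [← mul_assoc, hy]
    exact orderOf_eq_one_iff.1 (Nat.eq_one_of_dvd_coprimes
      (Nat.coprime_two_right.2 (hOodd x hx)) dvd_rfl
      (orderOf_dvd_of_pow_eq_one (by rw [pow_two, e2])))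
  -- hence `O = 1`
  have hO : ∀ x ∈ O, x = 1 := by
    have hi1 : v1⁻¹ = v1 := inv_eq_of_mul_eq_one_right hv11
    have hinv1 : ∀ x ∈ O, v1 * x * v1 = x⁻¹ := by
      intro x hx
      have hm : v1 * x * v1 ∈ O := by have := hOconj v1 hm1 x hx; rwa [hi1] at this
      refine eq_inv_of_mul_eq_one_right (hC1 _ (mul_mem hx hm) ?_)
      calc x * (v1 * x * v1) * v1 = x * v1 * x * (v1 * v1) := by group
        _ = x * v1 * x := by rw [hv11, mul_one]
        _ = v1 * (v1 * x * v1 * x) := by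
            rw [show v1 * (v1 * x * v1 * x) = (v1 * v1) * x * v1 * x by group, hv11, one_mul]
        _ = v1 * (x * (v1 * x * v1)) := by rw [hOcomm _ hx _ hm]
    -- `v2` and `v1 v2` invert as well, so their product both inverts and centralises
    intro x hx
    have hfi : f⁻¹ = f * f := inv_eq_of_mul_eq_one_left (by rw [← hf3])
    have hi2 : v2⁻¹ = v2 := inv_eq_of_mul_eq_one_right hv22
    have hinv2 : v2 * x * v2 = x⁻¹ := by
      have h := hinv1 _ (hOconj f hmf x hx)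
      calc v2 * x * v2 = v2 * x * v2⁻¹ := by rw [hi2]
        _ = f⁻¹ * ((f * v2 * f⁻¹) * (f * x * f⁻¹) * (f * v2 * f⁻¹)⁻¹) * f := by group
        _ = f⁻¹ * (v1 * (f * x * f⁻¹) * v1⁻¹) * f := by rw [hfv2]
        _ = f⁻¹ * (f * x * f⁻¹)⁻¹ * f := by rw [hi1, h]
        _ = x⁻¹ := by group
    have hinv3 : (v1 * v2) * x * (v1 * v2)⁻¹ = x⁻¹ := by
      have hmem' : f⁻¹ * x * f ∈ O := by
        have := hOconj _ (inv_mem hmf) x hx; rwa [inv_inv] at this
      calc (v1 * v2) * x * (v1 * v2)⁻¹ = (f * v1 * f⁻¹) * x * (f * v1 * f⁻¹)⁻¹ := by rw [hfv1]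
        _ = f * (v1 * (f⁻¹ * x * f) * v1⁻¹) * f⁻¹ := by group
        _ = f * (f⁻¹ * x * f)⁻¹ * f⁻¹ := by rw [hi1, hinv1 _ hmem']
        _ = x⁻¹ := by group
    have : x = x⁻¹ := by
      calc x = (v1 * (x)⁻¹ * v1) := by
            rw [hinv1 _ (inv_mem hx), inv_inv]
        _ = v1 * (v2 * x * v2) * v1 := by rw [hinv2]
        _ = v1 * v2 * x * (v1 * v2)⁻¹ := by rw [mul_inv_rev, hi1, hi2]; group
        _ = x⁻¹ := hinv3
    exact orderOf_eq_one_iff.1 (Nat.eq_one_of_dvd_coprimes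
      (Nat.coprime_two_right.2 (hOodd x hx)) dvd_rfl
      (orderOf_dvd_of_pow_eq_one (by rw [pow_two]; nth_rewrite 2 [this]; exact mul_inv_cancel x)))
  have hgX : g ∈ X := (memX g).2 hg
  have h := hO _ ⟨_, hNcomm ⟨g, hgX⟩, rfl⟩
  change ψ (u2A, 1) * g * (ψ (u2A, 1))⁻¹ * g⁻¹ = 1 at h
  exact H.cent_four hg (mul_inv_eq_iff_eq_mul.1 (mul_inv_eq_one.1 h)).symm

/-- The centraliser of the involution of the second factor. -/
theorem cent_t' {g : G} (hg : g * ψ (1, uA) = ψ (1, uA) * g) : g ∈ ψ.range := by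
  obtain ⟨⟨a, b⟩, hab⟩ := H.swap.cent_t (g := g) hg
  exact ⟨(b, a), hab⟩

/-- The centraliser of a diagonal involution. -/
theorem cent_sigma {g : G} (hg : g * ψ (uA, uA) = ψ (uA, uA) * g) : g ∈ ψ.range := by
  classical
  have : Fact (Nat.Prime 2) := ⟨Nat.prime_two⟩
  obtain ⟨hu, hu2, hu3, huu2, hu2u, -⟩ := u_facts
  set X : Subgroup G := centralizer ({ψ (uA, uA)} : Set G) with hXdef
  have memX : ∀ x, x ∈ X ↔ x * ψ (uA, uA) = ψ (uA, uA) * x := fun x => mem_centralizer_singleton_iff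
  have hiu : InV uA := Or.inr (Or.inl rfl)
  have hiu2 : InV u2A := Or.inr (Or.inr (Or.inl rfl))
  have hEX : ElA.map ψ ≤ X := by
    rintro _ ⟨⟨a, b⟩, h, rfl⟩
    rw [memX, ← map_mul, ← map_mul, Prod.mk_mul_mk, Prod.mk_mul_mk,
      (inV_comm a uA (mem_ElA.1 h).1 hiu).1, (inV_comm b uA (mem_ElA.1 h).2 hiu).1]
  obtain ⟨P, hP⟩ := (H.El_isPGroup.comap_of_injective X.subtype
    (subtype_injective _)).exists_le_sylow
  have hPeq : (P : Subgroup X).map X.subtype = ElA.map ψ := by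
    refine (eq_of_le_of_card_ge ?_ ((H.hS2 _ (P.2.map _)).trans H.card_El.ge)).symm
    intro x hx
    exact ⟨⟨x, hEX hx⟩, hP (mem_subgroupOf.2 hx), rfl⟩
  have hmemP : ∀ x : X, x ∈ P ↔ (x : G) ∈ ElA.map ψ := fun x => by
    rw [← hPeq]
    exact ⟨fun h => ⟨x, h, rfl⟩, fun ⟨y, hy, e⟩ => Subtype.ext e ▸ hy⟩
  have hNC : normalizer ((P : Subgroup X) : Set X) ≤ centralizer ((P : Subgroup X) : Set X) := by
    intro n hn
    have hn' : (n : G) ∈ normalizer ((ElA.map ψ : Subgroup G) : Set G) := by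
      rw [mem_normalizer_iff]
      intro x
      refine ⟨fun hx => (hmemP _).1 ((mem_normalizer_iff.1 hn ⟨x, hEX hx⟩).1 ((hmemP _).2 hx)),
        fun hx => ?_⟩
      have hxX : x ∈ X := by
        have := mul_mem (mul_mem (inv_mem n.2) (hEX hx)) n.2
        rwa [show (n : G)⁻¹ * ((n : G) * x * (n : G)⁻¹) * n = x by group] at this
      exact (hmemP _).1 ((mem_normalizer_iff.1 hn ⟨x, hxX⟩).2 ((hmemP _).2 hx))
    obtain ⟨⟨a, b⟩, hab⟩ := H.normalizer_El_le hn'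
    obtain ⟨hau, hbu⟩ := comm_of_map H.inj (a := a) (b := b) (a' := uA) (b' := uA) (by
      rw [hab]; exact (memX _).1 n.2)
    rw [mem_centralizer_iff]
    intro p hp
    obtain ⟨a', b', ha', hb', he⟩ := H.mem_El.1 ((hmemP p).1 hp)
    refine Subtype.ext ?_
    show (p : G) * n = n * p
    rw [← hab, ← he, ← map_mul, ← map_mul, Prod.mk_mul_mk, Prod.mk_mul_mk,
      norm_uV a hau a' ha', norm_uV b hbu b' hb']
  set K := (MonoidHom.transferSylow P hNC).ker with hKdef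
  have hKodd : ¬ 2 ∣ Nat.card (K.map X.subtype) := by
    rw [← Nat.card_congr (Subgroup.equivMapOfInjective K _ (subtype_injective X)).toEquiv]
    exact MonoidHom.not_dvd_card_ker_transferSylow P hNC
  have hKX : ∀ d : X, (d : G) ∈ normalizer ((K.map X.subtype : Subgroup G) : Set G) := fun d => by
    rw [mem_normalizer_iff]
    intro x
    constructor
    · rintro ⟨k, hk, rfl⟩
      exact ⟨d * k * d⁻¹, (MonoidHom.normal_ker _).conj_mem k hk d, rfl⟩
    · rintro ⟨k, hk, e⟩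
      refine ⟨d⁻¹ * k * d, by
        have := (MonoidHom.normal_ker (MonoidHom.transferSylow P hNC)).conj_mem k hk d⁻¹
        rw [inv_inv] at this
        exact this, ?_⟩
      have e' : (k : G) = (d : G) * x * (d : G)⁻¹ := e
      show (d : G)⁻¹ * (k : G) * (d : G) = x
      rw [e']; group
  have hv : ∀ v, InV v → ψ (v, 1) ∈ X := fun v hv => hEX (H.mem_El.2 ⟨v, 1, hv, Or.inl rfl, rfl⟩)
  have hfix : ∀ v, InV v → v ≠ 1 → K.map X.subtype ⊓ centralizer ({ψ (v, 1)} : Set G) ≤ ⊥ := by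
    rintro v hvV hv1 x ⟨hxK, hxc⟩
    obtain ⟨r, hr⟩ := (invol_A5 v (inV_comm v v hvV hvV).2.2).resolve_left hv1
    have hr' : ψ (v, 1) = ψ (r, 1) * ψ (uA, 1) * (ψ (r, 1))⁻¹ := by
      rw [← psi_conj]; simp [hr]
    have hc := mem_centralizer_singleton_iff.1 hxc
    rw [hr'] at hc
    have hcu : (ψ (r, 1))⁻¹ * x * ψ (r, 1) * ψ (uA, 1) = ψ (uA, 1) * ((ψ (r, 1))⁻¹ * x * ψ (r, 1)) := by
      calc (ψ (r, 1))⁻¹ * x * ψ (r, 1) * ψ (uA, 1)
          = (ψ (r, 1))⁻¹ * (x * (ψ (r, 1) * ψ (uA, 1) * (ψ (r, 1))⁻¹)) * ψ (r, 1) := by group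
        _ = _ := by rw [hc]; group
    have hxr : x ∈ ψ.range := by
      have := mul_mem (mul_mem (⟨_, rfl⟩ : ψ (r, 1) ∈ ψ.range) (H.cent_t hcu))
        (inv_mem (⟨_, rfl⟩ : ψ (r, 1) ∈ ψ.range))
      rwa [show ψ (r, 1) * ((ψ (r, 1))⁻¹ * x * ψ (r, 1)) * (ψ (r, 1))⁻¹ = x by group] at this
    obtain ⟨⟨a, b⟩, hab⟩ := hxr
    obtain ⟨hau, hbu⟩ := comm_of_map H.inj (a := a) (b := b) (a' := uA) (b' := uA) (by
      rw [hab]; exact (memX _).1 (map_subtype_le K hxK))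
    have ho : Odd (orderOf x) := (Nat.odd_iff.2 (Nat.two_dvd_ne_zero.1 hKodd)).of_dvd_nat
      ((K.map X.subtype).orderOf_dvd_natCard hxK)
    have h2 : x * x = 1 := by
      rw [← hab]
      exact psi_sq (by
        rw [Prod.mk_mul_mk, (inV_comm a a (cent_uA a hau) (cent_uA a hau)).2.2,
          (inV_comm b b (cent_uA b hbu) (cent_uA b hbu)).2.2]; rfl)
    exact mem_bot.2 (orderOf_eq_one_iff.1 (Nat.eq_one_of_dvd_coprimes
      (Nat.coprime_two_right.2 ho) dvd_rfl (orderOf_dvd_of_pow_eq_one (by rw [pow_two, h2]))))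
  have hKbot : K.map X.subtype = ⊥ := by
    have hsq : ∀ v, InV v → ψ (v, 1) ^ 2 ∈ centralizer ((K.map X.subtype : Subgroup G) : Set G) :=
      fun v hvV => by
        rw [pow_two, psi_sq (by rw [Prod.mk_mul_mk, (inV_comm v v hvV hvV).2.2, one_mul]; rfl)]
        exact one_mem _
    have hcl : closure ({ψ (uA, 1), ψ (u2A, 1)} : Set G) ≤ ElA.map ψ := by
      rw [closure_le]
      rintro x (rfl | rfl)
      · exact ⟨_, mem_ElA.2 ⟨hiu, Or.inl rfl⟩, rfl⟩
      · exact ⟨_, mem_ElA.2 ⟨hiu2, Or.inl rfl⟩, rfl⟩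
    have hdvd : Nat.card (closure ({ψ (uA, 1), ψ (u2A, 1)} : Set G)) ∣ 2 ^ 4 := by
      have h := card_dvd_of_le hcl
      rwa [H.card_El] at h
    have hco : Nat.Coprime 2 (Nat.card (K.map X.subtype)) :=
      Nat.prime_two.coprime_iff_not_dvd.2 hKodd
    refine le_bot_iff.1 ((Cfsg.Agent.Lib.Coprime.le_lineCentralizers (q := 2)
      (e := ψ (uA, 1)) (f := ψ (u2A, 1)) ?_ (hKX ⟨_, hv _ hiu⟩) (hKX ⟨_, hv _ hiu2⟩)
      (hsq _ hiu) (hsq _ hiu2) ((hco.pow_left 4).coprime_dvd_left hdvd) hco).trans ?_)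
    · show _ = _
      rw [← map_mul, ← map_mul, Prod.mk_mul_mk, Prod.mk_mul_mk, huu2, hu2u]
    refine sup_le (hfix _ hiu2 u_facts.2.2.2.2.2.2.1) (iSup_le fun t => ?_)
    have hlt : t.val < 2 := ZMod.val_lt t
    rcases (show t.val = 0 ∨ t.val = 1 by omega) with e | e <;> rw [e]
    · rw [pow_zero, mul_one]; exact hfix _ hiu u_facts.2.2.2.2.2.1
    · rw [pow_one, ← map_mul, Prod.mk_mul_mk, huu2, one_mul]
      exact hfix _ (Or.inr (Or.inr (Or.inr rfl))) (by decide +kernel)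
  have htop : (⊤ : Subgroup X) ≤ ψ.range.comap X.subtype := by
    rw [← (MonoidHom.ker_transferSylow_isComplement' P hNC).sup_eq_top]
    refine sup_le (fun k hk => ?_) fun p hp => ?_
    · have : (k : G) ∈ K.map X.subtype := ⟨k, hk, rfl⟩
      rw [hKbot, mem_bot] at this
      rw [mem_comap, coe_subtype, this]
      exact one_mem _
    · obtain ⟨q, -, hq⟩ := (hmemP p).1 hp
      exact ⟨q, hq⟩
  exact htop (mem_top (⟨g, (memX g).2 hg⟩ : X))

omit [Finite G] in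
/-- An involution of the image is conjugate there to one of three representatives. -/
theorem invol_cases {a b : A5} (h2 : ψ (a, b) * ψ (a, b) = 1) (h1 : ψ (a, b) ≠ 1) :
    ∃ r : A5 × A5, r * (uA, 1) * r⁻¹ = (a, b) ∨ r * (1, uA) * r⁻¹ = (a, b) ∨
      r * (uA, uA) * r⁻¹ = (a, b) := by
  have h := H.inj (((map_mul ψ _ _).trans h2).trans (map_one ψ).symm)
  obtain ⟨ha, hb⟩ := Prod.ext_iff.1 h
  rcases invol_A5 a ha with rfl | ⟨p, hp⟩ <;> rcases invol_A5 b hb with rfl | ⟨q, hq⟩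
  · exact absurd (by rw [← Prod.one_eq_mk, map_one]) h1
  · exact ⟨(1, q), Or.inr (Or.inl (Prod.ext (by simp) (by simpa using hq)))⟩
  · exact ⟨(p, 1), Or.inl (Prod.ext (by simpa using hp) (by simp))⟩
  · exact ⟨(p, q), Or.inr (Or.inr (Prod.ext (by simpa using hp) (by simpa using hq)))⟩

/-- The centraliser of an involution of the image lies in the image. -/
theorem cent_invol {x g : G} (hx : x ∈ ψ.range) (h2 : x * x = 1) (h1 : x ≠ 1)
    (hg : g * x = x * g) : g ∈ ψ.range := by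
  obtain ⟨⟨a, b⟩, rfl⟩ := hx
  obtain ⟨r, hr⟩ := H.invol_cases h2 h1
  have key : ∀ p : A5 × A5, r * p * r⁻¹ = (a, b) →
      (∀ y : G, y * ψ p = ψ p * y → y ∈ ψ.range) → g ∈ ψ.range := by
    intro p hp hcp
    rw [← hp, psi_conj] at hg
    have hc : (ψ r)⁻¹ * g * ψ r * ψ p = ψ p * ((ψ r)⁻¹ * g * ψ r) := by
      calc (ψ r)⁻¹ * g * ψ r * ψ p = (ψ r)⁻¹ * (g * (ψ r * ψ p * (ψ r)⁻¹)) * ψ r := by group
        _ = _ := by rw [hg]; group
    have := mul_mem (mul_mem (⟨r, rfl⟩ : ψ r ∈ ψ.range) (hcp _ hc))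
      (inv_mem (⟨r, rfl⟩ : ψ r ∈ ψ.range))
    rwa [show ψ r * ((ψ r)⁻¹ * g * ψ r) * (ψ r)⁻¹ = g by group] at this
  rcases hr with hr | hr | hr
  · exact key _ hr fun y hy => H.cent_t hy
  · exact key _ hr fun y hy => H.cent_t' hy
  · exact key _ hr fun y hy => H.cent_sigma hy

/-- The involutions `(u, 1)` and `(1, u)` are not conjugate. -/
theorem not_conj (g : G) : g * ψ (uA, 1) * g⁻¹ ≠ ψ (1, uA) := by
  intro h
  have hiu : InV uA := Or.inr (Or.inl rfl)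
  obtain ⟨r, hr⟩ := H.fusion (mem_ElA.2 ⟨hiu, Or.inl rfl⟩) (mem_ElA.2 ⟨Or.inl rfl, hiu⟩) h
  have h2 := (Prod.ext_iff.1 hr).2
  simp only [Prod.snd_mul, Prod.snd_inv, mul_one, mul_inv_cancel] at h2
  exact u_facts.2.2.2.2.2.1 h2.symm

/-- The image is the whole group. -/
theorem surjective : Function.Surjective ψ := by
  intro g
  obtain ⟨hu, -, -, -, -, hu1, -⟩ := u_facts
  have hiu : InV uA := Or.inr (Or.inl rfl)
  set t := ψ (uA, 1) with ht
  set v := ψ (1, uA) with hv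
  have ht2 : t * t = 1 := psi_sq (by rw [Prod.mk_mul_mk, hu, one_mul]; rfl)
  have hv2 : v * v = 1 := psi_sq (by rw [Prod.mk_mul_mk, hu, one_mul]; rfl)
  have ht1 : t ≠ 1 := fun e => hu1 (Prod.ext_iff.1 (H.inj (e.trans (map_one ψ).symm))).1
  have hv1 : v ≠ 1 := fun e => hu1 (Prod.ext_iff.1 (H.inj (e.trans (map_one ψ).symm))).2
  set y := g * t * g⁻¹ with hy
  have hy2 : y * y = 1 := by
    calc y * y = g * (t * t) * g⁻¹ := by rw [hy]; group
      _ = 1 := by rw [ht2]; group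
  have hy1 : y ≠ 1 := fun e => ht1 (conj_eq_one_iff.1 e)
  have hmem : y ∈ ψ.range → g ∈ ψ.range := by
    rintro ⟨⟨a, b⟩, hab⟩
    obtain ⟨r, hr⟩ := H.invol_cases (by rw [hab, hy2]) (by rw [hab]; exact hy1)
    have key : ∀ p ∈ ElA, r * p * r⁻¹ = (a, b) → g ∈ ψ.range := by
      intro p hp hrp
      have hc : ((ψ r)⁻¹ * g) * ψ (uA, 1) * ((ψ r)⁻¹ * g)⁻¹ = ψ p := by
        calc ((ψ r)⁻¹ * g) * ψ (uA, 1) * ((ψ r)⁻¹ * g)⁻¹ = (ψ r)⁻¹ * y * ψ r := by
              rw [hy, ht]; group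
          _ = (ψ r)⁻¹ * (ψ r * ψ p * (ψ r)⁻¹) * ψ r := by rw [← psi_conj, hrp, hab]
          _ = ψ p := by group
      obtain ⟨s, hs⟩ := H.fusion (mem_ElA.2 ⟨hiu, Or.inl rfl⟩) hp hc
      rw [← hs, psi_conj] at hc
      have hC : (ψ s)⁻¹ * (ψ r)⁻¹ * g * ψ (uA, 1) = ψ (uA, 1) * ((ψ s)⁻¹ * (ψ r)⁻¹ * g) := by
        calc (ψ s)⁻¹ * (ψ r)⁻¹ * g * ψ (uA, 1)
            = (ψ s)⁻¹ * ((ψ r)⁻¹ * g * ψ (uA, 1) * ((ψ r)⁻¹ * g)⁻¹) * ((ψ r)⁻¹ * g) := by group
          _ = _ := by rw [hc]; group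
      have := mul_mem (mul_mem (⟨r, rfl⟩ : ψ r ∈ ψ.range) (⟨s, rfl⟩ : ψ s ∈ ψ.range)) (H.cent_t hC)
      rwa [show ψ r * ψ s * ((ψ s)⁻¹ * (ψ r)⁻¹ * g) = g by group] at this
    rcases hr with hr | hr | hr
    · exact key _ (mem_ElA.2 ⟨hiu, Or.inl rfl⟩) hr
    · exact key _ (mem_ElA.2 ⟨Or.inl rfl, hiu⟩) hr
    · exact key _ (mem_ElA.2 ⟨hiu, hiu⟩) hr
  refine hmem ?_
  set d := y * v with hd
  have hvd : SemiconjBy v d d⁻¹ := by
    show v * (y * v) = (y * v)⁻¹ * v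
    rw [_root_.mul_inv_rev, inv_eq_of_mul_eq_one_right hv2, inv_eq_of_mul_eq_one_right hy2]
    group
  have hvj : ∀ j : ℕ, v * d ^ j = (d ^ j)⁻¹ * v := fun j => by
    rw [← inv_pow]; exact (hvd.pow_right j).eq
  rcases Nat.even_or_odd (orderOf d) with ⟨j, hj⟩ | ⟨j, hj⟩
  · set i := d ^ j with hi
    have hj0 : 0 < j := by have := orderOf_pos d; omega
    have hi1 : i ≠ 1 := pow_ne_one_of_lt_orderOf (by omega) (by omega)
    have hi2 : i * i = 1 := by rw [hi, ← pow_add, ← hj, pow_orderOf_eq_one]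
    have hiv : i * v = v * i := by
      rw [hvj j, ← hi, inv_eq_of_mul_eq_one_right hi2]
    have hir : i ∈ ψ.range := H.cent_invol ⟨_, rfl⟩ hv2 hv1 hiv
    refine H.cent_invol hir hi2 hi1 ?_
    have hy' : y = d * v := by rw [hd, mul_assoc, hv2, mul_one]
    rw [hy', mul_assoc, ← hiv, ← mul_assoc, ← mul_assoc, hi, ← pow_succ', pow_succ]
  · exfalso
    have e : d ^ (j + 1) * v * (d ^ (j + 1))⁻¹ = y := by
      have h1 : v * (d ^ (j + 1))⁻¹ = d ^ (j + 1) * v := by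
        have := hvj (j + 1)
        calc v * (d ^ (j + 1))⁻¹ = d ^ (j + 1) * ((d ^ (j + 1))⁻¹ * v) * (d ^ (j + 1))⁻¹ := by group
          _ = d ^ (j + 1) * v := by rw [← this]; group
      rw [mul_assoc, h1, ← mul_assoc, ← pow_add, show j + 1 + (j + 1) = orderOf d + 1 by omega,
        pow_succ, pow_orderOf_eq_one, one_mul, hd, mul_assoc, hv2, mul_one]
    refine H.not_conj ((d ^ (j + 1))⁻¹ * g) ?_
    calc (d ^ (j + 1))⁻¹ * g * ψ (uA, 1) * ((d ^ (j + 1))⁻¹ * g)⁻¹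
        = (d ^ (j + 1))⁻¹ * y * d ^ (j + 1) := by rw [hy, ht]; group
      _ = ψ (1, uA) := by rw [← e, hv]; group

end Hyp

/-- A group containing `A₅ × A₅` with its 3-local data is equal to it. -/
theorem sq_surjective (ψ : A5 × A5 →* G) (hψ : Function.Injective ψ)
    (h1 : centralizer ({ψ (c5A, 1)} : Set G) ≤ ψ.range)
    (h2 : centralizer ({ψ (1, c5A)} : Set G) ≤ ψ.range)
    (h3 : centralizer ({ψ (c5A, c5A)} : Set G) ≤ ψ.range)
    (h4 : centralizer ({ψ (c5A, c5A⁻¹)} : Set G) ≤ ψ.range)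
    (hN : normalizer ((DA.map ψ : Subgroup G) : Set G) ≤ ψ.range)
    (hS2 : ∀ Q : Subgroup G, IsPGroup 2 Q → Nat.card Q ≤ 16)
    (hS3 : ∀ Q : Subgroup G, IsPGroup 3 Q → Nat.card Q ≤ 9) :
    Function.Surjective ψ :=
  (⟨hψ, h1, h2, h3, h4, hN, hS2, hS3⟩ : Hyp ψ).surjective

end Cfsg.Agent.Lib.EightThree88.SqGlobal
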