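import Cfsg.Agent.Lib.EightThree88.SymHalves

/-!
# The crossed case: the Sylow 2-subgroup and the fusion of its involutions
-/

set_option autoImplicit false
set_option maxHeartbeats 800000
set_option maxRecDepth 100000
set_option synthInstance.maxSize 2000
set_option synthInstance.maxHeartbeats 400000

namespace Cfsg.Agent.Lib.EightThree88.Sym

open Subgroup Model Equiv

universe u

local notation "A" => alternatingGroup (Fin 5)

/-- The embedding of the alternating group of degree five in the model. -/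
def inB : A →* Pr := (MonoidHom.inr (Perm (Fin 3)) (Perm (Fin 5))).comp (alternatingGroup (Fin 5)).subtype

/-- Conjugation by `(34)`. -/
def tau5 (v : A) : A :=
  ⟨swap 3 4 * (v : Perm (Fin 5)) * swap 3 4, by
    rw [Perm.mem_alternatingGroup, map_mul, map_mul, Perm.mem_alternatingGroup.1 v.2,
      Perm.sign_swap (by decide)]; norm_num⟩

/-- The four group `<(01)(34), (03)(14)>`. -/
def InW (v : A) : Prop := v = 1 ∨ v = d5A ∨ v = h5A ∨ v = d5A * h5A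

instance : DecidablePred InW := fun v => by unfold InW; infer_instance

theorem W_facts : (∀ a : A, InW a → ∀ b : A, InW b → InW (a * b) ∧ a * b = b * a) ∧
    (∀ a : A, InW a → a * a = 1 ∧ InW a⁻¹ ∧ InW (tau5 a) ∧ tau5 (tau5 a) = a) := by decide +kernel

theorem W_conj : ∀ a : A, InW a → a ≠ 1 → ∃ r : A, r * a * r⁻¹ = d5A := by decide +kernel

theorem W_fixed : ∀ a : A, InW a → tau5 a = a → a = 1 ∨ a = d5A := by decide +kernel

theorem inB_tau : ∀ v : A, tP * inB v * tP = inB (tau5 v) := by decide +kernel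

theorem inB_special : inB d5A = dP ∧ inB h5A = hP ∧ inB w5A = wP ∧ dP * tP = a2P ∧ tau5 d5A = d5A := by
  decide +kernel

theorem inB_center : ∀ a : A, a * h5A = h5A * a → a * w5A = w5A * a → a * d5A = d5A * a → a = 1 := by
  decide +kernel

theorem four_ne : tP ≠ a2P ∧ tP ≠ a1P * tP ∧ tP ≠ a1P * a2P ∧ a2P ≠ a1P * tP ∧ a2P ≠ a1P * a2P ∧
    a1P * tP ≠ a1P * a2P := by decide +kernel

variable {G : Type u} [Group G] [Finite G]

/-- Extension of a subgroup by an involution normalising it. -/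
def ext2 (K : Subgroup G) (m : G) (hm : m * m = 1) (hn : ∀ k ∈ K, m * k * m ∈ K) : Subgroup G where
  carrier := {x | x ∈ K ∨ m * x ∈ K}
  one_mem' := Or.inl (one_mem K)
  mul_mem' := fun {x y} hx hy => by
    rcases hx with hx | hx <;> rcases hy with hy | hy
    · exact Or.inl (mul_mem hx hy)
    · refine Or.inr ?_
      have e : m * (x * y) = m * x * m * (m * y) := by
        calc m * (x * y) = m * x * 1 * y := by group
          _ = _ := by rw [← hm]; group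
      rw [e]; exact mul_mem (hn x hx) hy
    · exact Or.inr (by rw [← mul_assoc]; exact mul_mem hx hy)
    · refine Or.inl ?_
      have e : x * y = m * (m * x) * m * (m * y) := by
        calc x * y = 1 * x * 1 * y := by group
          _ = _ := by rw [← hm]; group
      rw [e]; exact mul_mem (hn _ hx) hy
  inv_mem' := fun {x} hx => by
    rcases hx with hx | hx
    · exact Or.inl (inv_mem hx)
    · refine Or.inr ?_
      have e : m * x⁻¹ = m * (m * x)⁻¹ * m := by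
        calc m * x⁻¹ = m * x⁻¹ * 1 := by group
          _ = m * x⁻¹ * (m⁻¹ * m) := by group
          _ = _ := by group
      rw [e]; exact hn _ (inv_mem hx)

theorem mem_ext2 {K : Subgroup G} {m : G} {hm : m * m = 1} {hn : ∀ k ∈ K, m * k * m ∈ K} {x : G} :
    x ∈ ext2 K m hm hn ↔ x ∈ K ∨ m * x ∈ K := Iff.rfl

theorem card_ext2 {K : Subgroup G} {m : G} {hm : m * m = 1} {hn : ∀ k ∈ K, m * k * m ∈ K} (hK : m ∉ K) :
    Nat.card (ext2 K m hm hn) = 2 * Nat.card K := by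
  have hset : ((ext2 K m hm hn : Subgroup G) : Set G) = (K : Set G) ∪ (fun k => m * k) '' (K : Set G) := by
    ext x
    show x ∈ K ∨ m * x ∈ K ↔ _
    refine or_congr Iff.rfl ⟨fun h => ⟨m * x, h, by show m * (m * x) = x; rw [← mul_assoc, hm, one_mul]⟩, ?_⟩
    rintro ⟨k, hk, rfl⟩
    show m * (m * k) ∈ K
    rwa [← mul_assoc, hm, one_mul]
  have hdisj : Disjoint (K : Set G) ((fun k => m * k) '' (K : Set G)) := by
    rw [Set.disjoint_left]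
    rintro x hx ⟨k, hk, rfl⟩
    exact hK (by simpa using mul_mem (show m * k ∈ K from hx) (inv_mem hk))
  rw [show Nat.card (ext2 K m hm hn) = ((ext2 K m hm hn : Subgroup G) : Set G).ncard from Nat.card_coe_set_eq _,
    hset, Set.ncard_union_eq hdisj (Set.toFinite _) (Set.toFinite _),
    Set.ncard_image_of_injective _ (mul_right_injective m), ← Nat.card_coe_set_eq]
  exact (two_mul _).symm

/-- The crossed case with small centraliser of `tau`. -/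
structure SqData (G : Type u) [Group G] where
  S : Data8 G
  hX : S.n * S.φ a1P * S.n⁻¹ = S.φ (a2P * tP)
  small : Small S
  comm : ∀ u v : A, Commute (S.φ (1, (u : Perm (Fin 5)))) (S.n * S.φ (1, (v : Perm (Fin 5))) * S.n⁻¹)

namespace SqData

variable (Q : SqData G)

/-- The product of the two alternating groups. -/
def Ψ : A × A →* G :=
  MonoidHom.noncommCoprod (Q.S.φ.comp inB) ((MulAut.conj Q.S.n).toMonoidHom.comp (Q.S.φ.comp inB)) Q.comm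

theorem Ψ_apply (u v : A) : Q.Ψ (u, v) = Q.S.φ (inB u) * (Q.S.n * Q.S.φ (inB v) * Q.S.n⁻¹) := rfl

theorem Ψ_fst (u : A) : Q.Ψ (u, 1) = Q.S.φ (inB u) := by
  rw [Ψ_apply, map_one, map_one, mul_one, mul_inv_cancel, mul_one]

theorem Ψ_snd (v : A) : Q.Ψ (1, v) = Q.S.n * Q.S.φ (inB v) * Q.S.n⁻¹ := by
  rw [Ψ_apply, map_one, map_one, one_mul]

theorem n_mul : Q.S.n * Q.S.n = 1 := Q.S.n_sq

theorem t_mul : Q.S.φ tP * Q.S.φ tP = 1 := by rw [← map_mul, a_facts.2.2.1, map_one]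

theorem n_Ψ (p : A × A) : Q.S.n * Q.Ψ p * Q.S.n = Q.Ψ (p.2, p.1) := by
  have ni := Q.S.n_inv
  obtain ⟨u, v⟩ := p
  have hc : Q.S.φ (inB v) * (Q.S.n * Q.S.φ (inB u) * Q.S.n⁻¹) =
      Q.S.n * Q.S.φ (inB u) * Q.S.n⁻¹ * Q.S.φ (inB v) := (Q.comm v u).eq
  show Q.S.n * Q.Ψ (u, v) * Q.S.n = Q.Ψ (v, u)
  rw [Ψ_apply, Ψ_apply, hc, ni]
  show Q.S.n * (Q.S.φ (inB u) * (Q.S.n * Q.S.φ (inB v) * Q.S.n)) * Q.S.n =
    Q.S.n * Q.S.φ (inB u) * Q.S.n * Q.S.φ (inB v)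
  calc _ = Q.S.n * Q.S.φ (inB u) * Q.S.n * Q.S.φ (inB v) * (Q.S.n * Q.S.n) := by group
    _ = _ := by rw [Q.n_mul, mul_one]

theorem t_Ψ (p : A × A) : Q.S.φ tP * Q.Ψ p * Q.S.φ tP = Q.Ψ (tau5 p.1, tau5 p.2) := by
  obtain ⟨u, v⟩ := p
  have ni := Q.S.n_inv
  have hc : Q.S.n * Q.S.φ tP = Q.S.φ tP * Q.S.n := Q.S.n_comm_t
  have e : ∀ x, Q.S.φ tP * Q.S.φ (inB x) * Q.S.φ tP = Q.S.φ (inB (tau5 x)) := fun x => by
    rw [← map_mul, ← map_mul, inB_tau]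
  rw [Ψ_apply, Ψ_apply, ni]
  show Q.S.φ tP * (Q.S.φ (inB u) * (Q.S.n * Q.S.φ (inB v) * Q.S.n)) * Q.S.φ tP =
    Q.S.φ (inB (tau5 u)) * (Q.S.n * Q.S.φ (inB (tau5 v)) * Q.S.n)
  rw [← e, ← e]
  calc Q.S.φ tP * (Q.S.φ (inB u) * (Q.S.n * Q.S.φ (inB v) * Q.S.n)) * Q.S.φ tP
      = Q.S.φ tP * Q.S.φ (inB u) * (1 * Q.S.n) * Q.S.φ (inB v) * (Q.S.n * Q.S.φ tP) := by group
    _ = Q.S.φ tP * Q.S.φ (inB u) * Q.S.φ tP * ((Q.S.φ tP * Q.S.n) * Q.S.φ (inB v) * (Q.S.n * Q.S.φ tP)) := by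
      rw [← Q.t_mul]; group
    _ = Q.S.φ tP * Q.S.φ (inB u) * Q.S.φ tP * ((Q.S.n * Q.S.φ tP) * Q.S.φ (inB v) * (Q.S.φ tP * Q.S.n)) := by
      rw [hc]
    _ = _ := by group

theorem Ψ_d : Q.Ψ (d5A, 1) = Q.S.φ dP := by rw [Ψ_fst, inB_special.1]

theorem n_d : Q.S.n * Q.S.φ dP * Q.S.n = Q.S.φ a1P := by
  have h := Q.hX
  rw [Q.S.n_inv, ← halves_facts.1] at h
  rw [← h, show Q.S.n * (Q.S.n * Q.S.φ a1P * Q.S.n) * Q.S.n = (Q.S.n * Q.S.n) * Q.S.φ a1P * (Q.S.n * Q.S.n) by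
    group, Q.n_mul, one_mul, mul_one]

theorem Ψ_a1 : Q.Ψ (1, d5A) = Q.S.φ a1P := by rw [Ψ_snd, Q.S.n_inv, inB_special.1, Q.n_d]

theorem Ψ_inj : Function.Injective Q.Ψ := by
  rw [← MonoidHom.ker_eq_bot_iff, eq_bot_iff_forall]
  rintro ⟨u, v⟩ h
  have h1 := MonoidHom.mem_ker.1 h
  rw [Ψ_apply] at h1
  have hu : u = 1 := by
    have e : Q.S.φ (inB u) = (Q.S.n * Q.S.φ (inB v) * Q.S.n⁻¹)⁻¹ := eq_inv_of_mul_eq_one_left h1
    have c : ∀ x : A, u * x = x * u := fun x => by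
      have hc : Commute (Q.S.φ (inB u)) (Q.S.φ (inB x)) := by
        rw [e]; exact (Q.comm x v).symm.inv_left
      have h2 : inB u * inB x = inB x * inB u := Q.S.inj (by rw [map_mul, map_mul]; exact hc.eq)
      exact Subtype.ext (congrArg Prod.snd h2)
    exact inB_center u (c _) (c _) (c _)
  subst hu
  rw [map_one, map_one, one_mul, mul_inv_eq_one, mul_eq_left] at h1
  have hv : inB v = inB 1 := Q.S.inj (by rw [h1, map_one, map_one])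
  exact Prod.ext rfl (Subtype.ext (congrArg Prod.snd hv))

/-- The four group in each factor. -/
def W : Subgroup A where
  carrier := {v | InW v}
  one_mem' := Or.inl rfl
  mul_mem' := fun {a b} ha hb => (W_facts.1 a ha b hb).1
  inv_mem' := fun {a} ha => (W_facts.2 a ha).2.1

/-- The elementary abelian group of order 16. -/
def El : Subgroup G := (W.prod W).map Q.Ψ

theorem mem_El {x : G} : x ∈ Q.El ↔ ∃ a b, InW a ∧ InW b ∧ x = Q.Ψ (a, b) := by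
  constructor
  · rintro ⟨⟨a, b⟩, h, rfl⟩; exact ⟨a, b, (mem_prod.1 h).1, (mem_prod.1 h).2, rfl⟩
  · rintro ⟨a, b, ha, hb, rfl⟩; exact ⟨(a, b), mem_prod.2 ⟨ha, hb⟩, rfl⟩

theorem El_le : Q.El ≤ Q.Ψ.range := fun x hx => by
  obtain ⟨a, b, -, -, rfl⟩ := Q.mem_El.1 hx; exact ⟨_, rfl⟩

theorem card_El : Nat.card Q.El = 16 := by
  rw [El, ← Nat.card_congr (Subgroup.equivMapOfInjective _ Q.Ψ Q.Ψ_inj).toEquiv,
    Nat.card_congr (Subgroup.prodEquiv _ _).toEquiv, Nat.card_prod,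
    show Nat.card W = 4 by
      show Nat.card {v : A // InW v} = 4
      rw [Nat.card_eq_fintype_card]; decide +kernel]

theorem n_El : ∀ k ∈ Q.El, Q.S.n * k * Q.S.n ∈ Q.El := by
  intro k hk
  obtain ⟨a, b, ha, hb, rfl⟩ := Q.mem_El.1 hk
  exact Q.mem_El.2 ⟨b, a, hb, ha, Q.n_Ψ _⟩

theorem t_El : ∀ k ∈ Q.El, Q.S.φ tP * k * Q.S.φ tP ∈ Q.El := by
  intro k hk
  obtain ⟨a, b, ha, hb, rfl⟩ := Q.mem_El.1 hk
  exact Q.mem_El.2 ⟨_, _, (W_facts.2 a ha).2.2.1, (W_facts.2 b hb).2.2.1, Q.t_Ψ _⟩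

theorem El_sq : ∀ k ∈ Q.El, k * k = 1 := by
  intro k hk
  obtain ⟨a, b, ha, hb, rfl⟩ := Q.mem_El.1 hk
  rw [← map_mul, Prod.mk_mul_mk, (W_facts.2 a ha).1, (W_facts.2 b hb).1]
  exact map_one Q.Ψ

/-- `El<n>`. -/
def Tn : Subgroup G := ext2 Q.El Q.S.n Q.n_mul Q.n_El

theorem t_Tn : ∀ k ∈ Q.Tn, Q.S.φ tP * k * Q.S.φ tP ∈ Q.Tn := by
  intro k hk
  rcases hk with h | h
  · exact Or.inl (Q.t_El k h)
  · refine Or.inr ?_
    rw [show Q.S.n * (Q.S.φ tP * k * Q.S.φ tP) = (Q.S.n * Q.S.φ tP) * k * Q.S.φ tP by group,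
      Q.S.n_comm_t, mul_assoc (Q.S.φ tP) Q.S.n k]
    exact Q.t_El _ h

/-- The Sylow 2-subgroup. -/
def T : Subgroup G := ext2 Q.Tn (Q.S.φ tP) Q.t_mul Q.t_Tn

/-- Exponents of the coset representatives. -/
theorem T_cases {x : G} (hx : x ∈ Q.T) : ∃ e ∈ Q.El,
    x = e ∨ x = Q.S.n * e ∨ x = Q.S.φ tP * e ∨ x = Q.S.n * Q.S.φ tP * e := by
  rcases hx with (h | h) | (h | h)
  · exact ⟨x, h, Or.inl rfl⟩
  · exact ⟨_, h, Or.inr (Or.inl (by rw [← mul_assoc, Q.n_mul, one_mul]))⟩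
  · exact ⟨_, h, Or.inr (Or.inr (Or.inl (by rw [← mul_assoc, Q.t_mul, one_mul])))⟩
  · refine ⟨_, h, Or.inr (Or.inr (Or.inr ?_))⟩
    calc x = (Q.S.φ tP * Q.S.φ tP) * x := by rw [Q.t_mul, one_mul]
      _ = Q.S.φ tP * (Q.S.n * Q.S.n) * (Q.S.φ tP * x) := by rw [Q.n_mul]; group
      _ = (Q.S.φ tP * Q.S.n) * (Q.S.n * (Q.S.φ tP * x)) := by group
      _ = _ := by rw [Q.S.n_comm_t]

theorem range_Ψ_t {k : Pr} (h : Q.S.φ k ∈ Q.El) : k ≠ tP := by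
  rintro rfl
  obtain ⟨a, b, ha, hb, e⟩ := Q.mem_El.1 h
  have he : Q.Ψ (tau5 a, tau5 b) = Q.Ψ (a, b) := by
    rw [← Q.t_Ψ (a, b), ← e, mul_assoc, Q.t_mul, mul_one]
  obtain ⟨e1, e2⟩ := Prod.ext_iff.1 (Q.Ψ_inj he)
  have mem : ∀ x ∈ ({Q.S.φ 1, Q.S.φ dP, Q.S.φ a1P, Q.S.φ (dP * a1P)} : Set G), x ≠ Q.S.φ tP := by
    have hne : (1 : Pr) ≠ tP ∧ dP ≠ tP ∧ a1P ≠ tP ∧ dP * a1P ≠ tP := by decide +kernel
    rintro x (rfl | rfl | rfl | rfl) h'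
    exacts [hne.1 (Q.S.inj h'), hne.2.1 (Q.S.inj h'), hne.2.2.1 (Q.S.inj h'), hne.2.2.2 (Q.S.inj h')]
  refine mem _ ?_ e.symm
  rcases W_fixed a ha e1 with rfl | rfl <;> rcases W_fixed b hb e2 with rfl | rfl
  · exact Or.inl ((map_one _).trans (map_one _).symm)
  · exact Or.inr (Or.inr (Or.inl Q.Ψ_a1))
  · exact Or.inr (Or.inl Q.Ψ_d)
  · refine Or.inr (Or.inr (Or.inr ?_))
    rw [map_mul, ← Q.Ψ_d, ← Q.Ψ_a1, ← map_mul, Prod.mk_mul_mk, mul_one, one_mul]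
    exact rfl

theorem n_not_El : Q.S.n ∉ Q.El := by
  intro h
  obtain ⟨a, b, ha, hb, e⟩ := Q.mem_El.1 h
  have he : Q.Ψ (b, a) = Q.Ψ (a, b) := by
    rw [← Q.n_Ψ (a, b), ← e, mul_assoc, Q.n_mul, mul_one]
  obtain ⟨e1, -⟩ := Prod.ext_iff.1 (Q.Ψ_inj he)
  simp only at e1
  subst e1
  -- a fixed point of the swap is not conjugate outside the range
  have ht : Q.Ψ (tau5 b, tau5 b) = Q.Ψ (b, b) := by
    rw [← Q.t_Ψ (b, b), ← e, ← Q.S.n_comm_t, mul_assoc, Q.t_mul, mul_one]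
  refine Q.S.n_not_range ?_
  rw [e]
  rcases W_fixed b hb (Prod.ext_iff.1 (Q.Ψ_inj ht)).1 with rfl | rfl
  · exact (map_one Q.Ψ).symm ▸ one_mem _
  · rw [show (d5A, d5A) = ((d5A, 1) : A × A) * (1, d5A) by rw [Prod.mk_mul_mk, mul_one, one_mul], map_mul,
      Q.Ψ_d, Q.Ψ_a1]
    exact mul_mem ⟨_, rfl⟩ ⟨_, rfl⟩

theorem nt_not_El : Q.S.n * Q.S.φ tP ∉ Q.El := by
  intro h
  obtain ⟨a, b, ha, hb, e⟩ := Q.mem_El.1 h
  have ht : Q.Ψ (tau5 a, tau5 b) = Q.Ψ (a, b) := by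
    rw [← Q.t_Ψ (a, b), ← e, show Q.S.φ tP * (Q.S.n * Q.S.φ tP) * Q.S.φ tP
      = (Q.S.φ tP * Q.S.n) * (Q.S.φ tP * Q.S.φ tP) by group, Q.t_mul, mul_one, Q.S.n_comm_t]
  refine Q.S.n_not_range ?_
  have hr : Q.S.n * Q.S.φ tP ∈ Q.S.φ.range := by
    rw [e, show (a, b) = ((a, 1) : A × A) * (1, b) by rw [Prod.mk_mul_mk, mul_one, one_mul], map_mul, Q.Ψ_fst]
    refine mul_mem ⟨_, rfl⟩ ?_
    rcases W_fixed b hb (Prod.ext_iff.1 (Q.Ψ_inj ht)).2 with rfl | rfl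
    · exact (map_one Q.Ψ).symm ▸ one_mem _
    · rw [Q.Ψ_a1]; exact ⟨_, rfl⟩
  simpa [mul_assoc, Q.t_mul] using mul_mem hr (⟨tP, rfl⟩ : Q.S.φ tP ∈ Q.S.φ.range)

theorem t_not_El : Q.S.φ tP ∉ Q.El := fun h => Q.range_Ψ_t h rfl

theorem t_not_Tn : Q.S.φ tP ∉ Q.Tn := fun h => h.elim Q.t_not_El Q.nt_not_El

theorem card_T : Nat.card Q.T = 64 := by
  rw [T, card_ext2 Q.t_not_Tn, Tn, card_ext2 Q.n_not_El, Q.card_El]

theorem El_le_T : Q.El ≤ Q.T := fun _ h => Or.inl (Or.inl h)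

theorem t_mem_T : Q.S.φ tP ∈ Q.T := Or.inr (Or.inl (by rw [Q.t_mul]; exact one_mem _))

theorem n_mem_T : Q.S.n ∈ Q.T := Or.inl (Or.inr (by rw [Q.n_mul]; exact one_mem _))

/-- The conjugates of `tau` in the Sylow subgroup. -/
def four : Set G := {Q.S.φ tP, Q.S.φ a2P, Q.S.φ (a1P * tP), Q.S.φ (a1P * a2P)}

theorem four_orbit {x : G} (hx : x ∈ Q.four) : ∃ v ∈ Q.El, v * Q.S.φ tP * v⁻¹ = x := by
  obtain ⟨hd, hh2, hha, hht, -⟩ := halves_facts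
  have hmem : ∀ a b, InW a → InW b → Q.Ψ (a, b) ∈ Q.El := fun a b ha hb => Q.mem_El.2 ⟨a, b, ha, hb, rfl⟩
  have i1 : InW (1 : A) := Or.inl rfl
  have ih : InW h5A := Or.inr (Or.inr (Or.inl rfl))
  have hinv : ∀ v ∈ Q.El, v⁻¹ = v := fun v hv => inv_eq_of_mul_eq_one_right (Q.El_sq v hv)
  have eh : Q.Ψ (h5A, 1) = Q.S.φ hP := by rw [Q.Ψ_fst, inB_special.2.1]
  have e1 : Q.Ψ (h5A, 1) * Q.S.φ tP * Q.Ψ (h5A, 1) = Q.S.φ a2P := by
    rw [eh, ← map_mul, ← map_mul, hht]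
  have e2 : Q.Ψ (1, h5A) * Q.S.φ tP * Q.Ψ (1, h5A) = Q.S.φ (a1P * tP) := by
    rw [Q.Ψ_snd, Q.S.n_inv, inB_special.2.1]
    calc Q.S.n * Q.S.φ hP * Q.S.n * Q.S.φ tP * (Q.S.n * Q.S.φ hP * Q.S.n)
        = Q.S.n * Q.S.φ hP * (Q.S.n * Q.S.φ tP) * Q.S.n * Q.S.φ hP * Q.S.n := by group
      _ = Q.S.n * Q.S.φ hP * Q.S.φ tP * (Q.S.n * Q.S.n) * Q.S.φ hP * Q.S.n := by rw [Q.S.n_comm_t]; group
      _ = Q.S.n * Q.S.φ (hP * tP * hP) * Q.S.n := by rw [Q.n_mul, map_mul, map_mul]; group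
      _ = Q.S.n * Q.S.φ (dP * tP) * Q.S.n := by rw [hht, inB_special.2.2.2.1]
      _ = (Q.S.n * Q.S.φ dP * Q.S.n) * (Q.S.n * Q.S.φ tP * Q.S.n) := by
        calc Q.S.n * Q.S.φ (dP * tP) * Q.S.n = Q.S.n * Q.S.φ dP * 1 * Q.S.φ tP * Q.S.n := by rw [map_mul]; group
          _ = _ := by rw [← Q.n_mul]; group
      _ = _ := by
        rw [Q.n_d, Q.S.n_comm_t, mul_assoc, Q.n_mul, mul_one, map_mul]
  rcases hx with rfl | rfl | rfl | rfl
  · exact ⟨1, one_mem _, by group⟩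
  · exact ⟨_, hmem _ _ ih i1, by rw [hinv _ (hmem _ _ ih i1), e1]⟩
  · exact ⟨_, hmem _ _ i1 ih, by rw [hinv _ (hmem _ _ i1 ih), e2]⟩
  · refine ⟨Q.Ψ (h5A, 1) * Q.Ψ (1, h5A), mul_mem (hmem _ _ ih i1) (hmem _ _ i1 ih), ?_⟩
    rw [mul_inv_rev, hinv _ (hmem _ _ ih i1), hinv _ (hmem _ _ i1 ih),
      show Q.Ψ (h5A, 1) * Q.Ψ (1, h5A) * Q.S.φ tP * (Q.Ψ (1, h5A) * Q.Ψ (h5A, 1)) =
        Q.Ψ (h5A, 1) * (Q.Ψ (1, h5A) * Q.S.φ tP * Q.Ψ (1, h5A)) * Q.Ψ (h5A, 1) by group, e2, eh,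
      ← map_mul, ← map_mul]
    refine congrArg Q.S.φ ?_
    rw [← mul_assoc, hha, mul_assoc a1P hP tP, mul_assoc a1P, hht]

theorem card_four : Q.four.ncard = 4 := by
  obtain ⟨n1, n2, n3, n4, n5, n6⟩ := four_ne
  have hi := Q.S.inj
  rw [four, Set.ncard_insert_of_notMem, Set.ncard_insert_of_notMem, Set.ncard_insert_of_notMem,
    Set.ncard_singleton]
  · simpa only [Set.mem_insert_iff, Set.mem_singleton_iff, hi.eq_iff, not_or] using n6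
  · simpa only [Set.mem_insert_iff, Set.mem_singleton_iff, hi.eq_iff, not_or] using ⟨n4, n5⟩
  · simpa only [Set.mem_insert_iff, Set.mem_singleton_iff, hi.eq_iff, not_or] using ⟨n1, n2, n3⟩

/-- A 2-subgroup of the centraliser of `tau` has order at most 16. -/
theorem two_cent {R : Subgroup G} (hR : IsPGroup 2 R) (hle : ∀ r ∈ R, r * Q.S.φ tP = Q.S.φ tP * r) :
    Nat.card R ≤ 16 := by
  classical
  have : Fact (Nat.Prime 2) := ⟨Nat.prime_two⟩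
  set C := centralizer ({Q.S.φ tP} : Set G) with hC
  let Dp : Subgroup Pr :=
    { carrier := {a | InD a}
      one_mem' := InD_closed.1
      mul_mem' := fun {a b} ha hb => InD_closed.2.2 a ha b hb
      inv_mem' := fun {a} ha => (InD_mul a ha).1 }
  have h9 : 9 ∣ Nat.card C := by
    have hle' : Dp.map Q.S.φ ≤ C := by
      rintro _ ⟨a, ha, rfl⟩
      exact mem_centralizer_singleton_iff.2 (Q.S.φ_comm (InD_three a ha).2.2.2)
    refine dvd_trans (dvd_of_eq ?_) (card_dvd_of_le hle')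
    rw [Nat.card_congr (Dp.equivMapOfInjective Q.S.φ Q.S.inj).toEquiv.symm, ← card_InD, ← Fintype.card_subtype,
      ← Nat.card_eq_fintype_card]
    rfl
  have h144 : Nat.card C ≤ 144 := by
    have hsub : (C : Set G) ⊆ Q.S.φ '' {x | InN x} ∪ (fun g => Q.S.n * g) '' (Q.S.φ '' {x | InN x}) := by
      intro g hg
      obtain ⟨x, hx, e | e⟩ := Q.S.norm_D (Q.small g (mem_centralizer_singleton_iff.1 hg))
      · exact Or.inl ⟨x, hx, e.symm⟩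
      · exact Or.inr ⟨_, ⟨x, hx, rfl⟩, e.symm⟩
    have h := (Set.ncard_le_ncard hsub (Set.toFinite _)).trans (Set.ncard_union_le _ _)
    rw [Set.ncard_image_of_injective _ (mul_right_injective _), card_filter_image Q.S.inj, card_InN,
      ← Nat.card_coe_set_eq] at h
    exact h
  have hRC : R ≤ C := fun r hr => mem_centralizer_singleton_iff.2 (hle r hr)
  obtain ⟨k, hk⟩ := IsPGroup.iff_card.1 hR
  have hco : Nat.Coprime 9 (Nat.card R) := by rw [hk]; exact Nat.Coprime.pow_right k (by norm_num)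
  have h := Nat.le_of_dvd Nat.card_pos (hco.mul_dvd_of_dvd_of_dvd h9 (card_dvd_of_le hRC))
  omega

theorem comm_El {a b : G} (ha : a ∈ Q.El) (hb : b ∈ Q.El) : a * b = b * a := by
  calc a * b = a * b * ((a * b) * (a * b))⁻¹ := by rw [Q.El_sq _ (mul_mem ha hb), inv_one, mul_one]
    _ = b⁻¹ * a⁻¹ := by group
    _ = _ := by rw [inv_eq_of_mul_eq_one_right (Q.El_sq a ha), inv_eq_of_mul_eq_one_right (Q.El_sq b hb)]

theorem dd_El : Q.S.φ dP ∈ Q.El ∧ Q.S.φ a1P ∈ Q.El ∧ Q.S.φ (a1P * dP) ∈ Q.El := by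
  have h1 : Q.S.φ dP ∈ Q.El := Q.mem_El.2 ⟨_, _, Or.inr (Or.inl rfl), Or.inl rfl, Q.Ψ_d.symm⟩
  have h2 : Q.S.φ a1P ∈ Q.El := Q.mem_El.2 ⟨_, _, Or.inl rfl, Or.inr (Or.inl rfl), Q.Ψ_a1.symm⟩
  exact ⟨h1, h2, by rw [map_mul]; exact mul_mem h2 h1⟩

theorem El_reps {e : G} (he : e ∈ Q.El) (he1 : e ≠ 1) : ∃ r : G,
    r * e * r⁻¹ = Q.S.φ dP ∨ r * e * r⁻¹ = Q.S.φ a1P ∨ r * e * r⁻¹ = Q.S.φ (a1P * dP) := by
  obtain ⟨a, b, ha, hb, rfl⟩ := Q.mem_El.1 he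
  have hc : ∀ r : A × A, Q.Ψ r * Q.Ψ (a, b) * (Q.Ψ r)⁻¹ = Q.Ψ (r.1 * a * r.1⁻¹, r.2 * b * r.2⁻¹) := fun r => by
    rw [← map_inv, ← map_mul, ← map_mul]; rfl
  by_cases ha1 : a = 1 <;> by_cases hb1 : b = 1
  · subst ha1 hb1; exact absurd (map_one Q.Ψ) he1
  · obtain ⟨s, hs⟩ := W_conj b hb hb1
    subst ha1
    exact ⟨Q.Ψ (1, s), Or.inr (Or.inl (by rw [hc (1, s), hs, one_mul, one_mul, inv_one, Q.Ψ_a1]))⟩
  · obtain ⟨r, hr⟩ := W_conj a ha ha1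
    subst hb1
    exact ⟨Q.Ψ (r, 1), Or.inl (by rw [hc (r, 1), hr, one_mul, one_mul, inv_one, Q.Ψ_d])⟩
  · obtain ⟨r, hr⟩ := W_conj a ha ha1
    obtain ⟨s, hs⟩ := W_conj b hb hb1
    refine ⟨Q.Ψ (r, s), Or.inr (Or.inr ?_)⟩
    rw [hc (r, s), hr, hs, map_mul, ← Q.Ψ_d, ← Q.Ψ_a1, ← map_mul, Prod.mk_mul_mk, mul_one, one_mul]

theorem sigma_not_t (g : G) : g * Q.S.φ (a1P * dP) * g⁻¹ ≠ Q.S.φ tP := by
  intro hg
  have : Fact (Nat.Prime 2) := ⟨Nat.prime_two⟩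
  have hσ := Q.dd_El.2.2
  have hn : Commute Q.S.n (Q.S.φ (a1P * dP)) := by
    have h1 : Q.S.n * Q.S.φ a1P * Q.S.n = Q.S.φ dP := by
      have h := Q.hX; rwa [Q.S.n_inv, ← halves_facts.1] at h
    show Q.S.n * Q.S.φ (a1P * dP) = Q.S.φ (a1P * dP) * Q.S.n
    calc Q.S.n * Q.S.φ (a1P * dP) = Q.S.n * Q.S.φ a1P * 1 * Q.S.φ dP * 1 := by rw [map_mul]; group
      _ = (Q.S.n * Q.S.φ a1P * Q.S.n) * (Q.S.n * Q.S.φ dP * Q.S.n) * Q.S.n := by rw [← Q.n_mul]; group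
      _ = _ := by rw [h1, Q.n_d, ← map_mul, halves_facts.2.2.2.2.2.2.2.2.1]
  have ht : Commute (Q.S.φ tP) (Q.S.φ (a1P * dP)) :=
    Q.S.φ_comm (by decide +kernel : tP * (a1P * dP) = a1P * dP * tP)
  have hT : ∀ x ∈ Q.T, Commute x (Q.S.φ (a1P * dP)) := by
    intro x hx
    obtain ⟨e, he, h | h | h | h⟩ := Q.T_cases hx <;> rw [h] <;>
      have hc : Commute e (Q.S.φ (a1P * dP)) := Q.comm_El he hσ
    exacts [hc, hn.mul_left hc, ht.mul_left hc, (hn.mul_left ht).mul_left hc]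
  have h := Q.two_cent (R := Q.T.map (MulAut.conj g).toMonoidHom)
    ((IsPGroup.of_card (n := 6) (by rw [Q.card_T]; norm_num)).map _) (by
      rintro _ ⟨x, hx, rfl⟩
      rw [← hg]
      show g * x * g⁻¹ * (g * Q.S.φ (a1P * dP) * g⁻¹) = g * Q.S.φ (a1P * dP) * g⁻¹ * (g * x * g⁻¹)
      exact ((Commute.conj_iff g).2 (hT x hx)).eq)
  rw [← Nat.card_congr (Q.T.equivMapOfInjective _ (MulAut.conj g).injective).toEquiv, Q.card_T] at h
  omega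

/-- The conjugates of `tau` in the Sylow subgroup. -/
theorem t_class {x g : G} (hx : x ∈ Q.T) (hg : g * Q.S.φ tP * g⁻¹ = x) : x ∈ Q.four := by
  have hx2 : x * x = 1 := by
    rw [← hg]
    calc g * Q.S.φ tP * g⁻¹ * (g * Q.S.φ tP * g⁻¹) = g * (Q.S.φ tP * Q.S.φ tP) * g⁻¹ := by group
      _ = 1 := by rw [Q.t_mul]; group
  have hinv : ∀ r : G, g⁻¹ * r⁻¹ * (r * x * r⁻¹) * (g⁻¹ * r⁻¹)⁻¹ = Q.S.φ tP := fun r => by rw [← hg]; group
  have fixed : ∀ (m e : G), m * m = 1 → e ∈ Q.El → x = m * e → m * e * m = e := by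
    intro m e hm he hxe
    rw [hxe] at hx2
    calc m * e * m = (m * e * (m * e)) * e⁻¹ := by group
      _ = e := by rw [hx2, one_mul, inv_eq_of_mul_eq_one_right (Q.El_sq e he)]
  obtain ⟨e, he, h | h | h | h⟩ := Q.T_cases hx
  · exfalso
    subst h
    by_cases h1 : x = 1
    · rw [h1, mul_inv_eq_one, mul_eq_left] at hg
      exact a_facts.2.2.2.2.2.2.2.2.2.2.2.2.2.2.2.2.2.2.1 (Q.S.inj (hg.trans (map_one _).symm))
    obtain ⟨r, hr | hr | hr⟩ := Q.El_reps he h1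
    · have := hinv r; rw [hr] at this; exact Q.S.not_t_d _ this
    · have := hinv r
      rw [hr, ← Q.n_d] at this
      refine Q.S.not_t_d (g⁻¹ * r⁻¹ * Q.S.n) ?_
      rw [← this, mul_inv_rev (g⁻¹ * r⁻¹) Q.S.n, Q.S.n_inv]; group
    · have := hinv r; rw [hr] at this; exact Q.sigma_not_t _ this
  · exfalso
    have hf := fixed _ _ Q.n_mul he h
    obtain ⟨a, b, ha, hb, rfl⟩ := Q.mem_El.1 he
    rw [Q.n_Ψ] at hf
    obtain ⟨e1, -⟩ := Prod.ext_iff.1 (Q.Ψ_inj hf)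
    simp only at e1
    subst e1
    refine Q.S.not_t_n (g⁻¹ * Q.Ψ (b, 1)) ?_
    have e1 : Q.Ψ (b, 1) * Q.S.n * (Q.Ψ (b, 1))⁻¹ = x := by
      rw [← map_inv, Prod.inv_mk, inv_one, inv_eq_of_mul_eq_one_right (W_facts.2 b hb).1, h,
        show Q.Ψ (b, 1) * Q.S.n = (Q.S.n * Q.S.n) * Q.Ψ (b, 1) * Q.S.n by rw [Q.n_mul, one_mul],
        show Q.S.n * Q.S.n * Q.Ψ (b, 1) * Q.S.n = Q.S.n * (Q.S.n * Q.Ψ (b, 1) * Q.S.n) by group, Q.n_Ψ,
        mul_assoc, ← map_mul, Prod.mk_mul_mk, one_mul, mul_one]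
    calc g⁻¹ * Q.Ψ (b, 1) * Q.S.n * (g⁻¹ * Q.Ψ (b, 1))⁻¹ = g⁻¹ * (Q.Ψ (b, 1) * Q.S.n * (Q.Ψ (b, 1))⁻¹) * g := by
          group
      _ = _ := by rw [e1, ← hg]; group
  · have hf := fixed _ _ Q.t_mul he h
    obtain ⟨a, b, ha, hb, rfl⟩ := Q.mem_El.1 he
    rw [Q.t_Ψ] at hf
    obtain ⟨e1, e2⟩ := Prod.ext_iff.1 (Q.Ψ_inj hf)
    have ht : tP * dP = a2P ∧ tP * a1P = a1P * tP ∧ tP * (dP * a1P) = a1P * a2P := by decide +kernel
    rw [h]
    rcases W_fixed a ha e1 with rfl | rfl <;> rcases W_fixed b hb e2 with rfl | rfl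
    · exact Or.inl (by rw [← Prod.one_eq_mk, map_one, mul_one])
    · exact Or.inr (Or.inr (Or.inl (by rw [Q.Ψ_a1, ← map_mul, ht.2.1])))
    · exact Or.inr (Or.inl (by rw [Q.Ψ_d, ← map_mul, ht.1]))
    · refine Or.inr (Or.inr (Or.inr ?_))
      rw [show ((d5A, d5A) : A × A) = (d5A, 1) * (1, d5A) by rw [Prod.mk_mul_mk, mul_one, one_mul], map_mul Q.Ψ,
        Q.Ψ_d, Q.Ψ_a1, ← map_mul, ← map_mul, ht.2.2]
      rfl
  · exfalso
    set m := Q.S.n * Q.S.φ tP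
    have hm : m * m = 1 := by
      calc m * m = Q.S.n * (Q.S.φ tP * Q.S.n) * Q.S.φ tP := by simp only [m]; group
        _ = (Q.S.n * Q.S.n) * (Q.S.φ tP * Q.S.φ tP) := by rw [← Q.S.n_comm_t]; group
        _ = 1 := by rw [Q.n_mul, Q.t_mul, mul_one]
    have hmΨ : ∀ p : A × A, m * Q.Ψ p * m = Q.Ψ (tau5 p.2, tau5 p.1) := by
      intro p
      calc m * Q.Ψ p * m = (Q.S.φ tP * Q.S.n) * Q.Ψ p * (Q.S.n * Q.S.φ tP) := by rw [← Q.S.n_comm_t]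
        _ = Q.S.φ tP * (Q.S.n * Q.Ψ p * Q.S.n) * Q.S.φ tP := by group
        _ = _ := by rw [Q.n_Ψ, Q.t_Ψ]
    have hf := fixed _ _ hm he h
    obtain ⟨a, b, ha, hb, rfl⟩ := Q.mem_El.1 he
    rw [hmΨ] at hf
    obtain ⟨-, e2⟩ := Prod.ext_iff.1 (Q.Ψ_inj hf)
    refine Q.S.not_t_nt (g⁻¹ * Q.Ψ (a, 1)) ?_
    have e1 : Q.Ψ (a, 1) * m * (Q.Ψ (a, 1))⁻¹ = x := by
      rw [← map_inv, Prod.inv_mk, inv_one, inv_eq_of_mul_eq_one_right (W_facts.2 a ha).1, h,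
        show Q.Ψ (a, 1) * m = (m * m) * Q.Ψ (a, 1) * m by rw [hm, one_mul],
        show m * m * Q.Ψ (a, 1) * m = m * (m * Q.Ψ (a, 1) * m) by group, hmΨ,
        mul_assoc, ← map_mul, Prod.mk_mul_mk]
      simp only at e2 ⊢
      rw [mul_one, show tau5 (1 : A) = 1 by decide +kernel, one_mul, e2]
    calc g⁻¹ * Q.Ψ (a, 1) * m * (g⁻¹ * Q.Ψ (a, 1))⁻¹ = g⁻¹ * (Q.Ψ (a, 1) * m * (Q.Ψ (a, 1))⁻¹) * g := by
          group
      _ = _ := by rw [e1, ← hg]; group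

include Q in
/-- `T` is a Sylow 2-subgroup. -/
theorem two_le (R : Subgroup G) (hR : IsPGroup 2 R) : Nat.card R ≤ 64 := by
  classical
  have : Fact (Nat.Prime 2) := ⟨Nat.prime_two⟩
  have hTp : IsPGroup 2 Q.T := IsPGroup.of_card (n := 6) (by rw [Q.card_T]; norm_num)
  obtain ⟨P, hP⟩ := hTp.exists_le_sylow
  suffices hPT : (P : Subgroup G) ≤ Q.T by
    obtain ⟨P', hP'⟩ := hR.exists_le_sylow
    refine (card_le_of_le hP').trans (le_of_eq ?_)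
    have hPeq : Nat.card (P : Subgroup G) = 64 := by rw [le_antisymm hPT hP, Q.card_T]
    rw [P'.card_eq_multiplicity, ← P.card_eq_multiplicity, hPeq]
  by_contra hne
  have hlt : Q.T.subgroupOf (P : Subgroup G) < ⊤ := lt_top_iff_ne_top.2 fun h => hne (subgroupOf_eq_top.1 h)
  haveI : Group.IsNilpotent (P : Subgroup G) := P.2.isNilpotent
  obtain ⟨-, p, hpN, hpT⟩ := SetLike.lt_iff_le_and_exists.1 (Group.normalizerCondition_of_isNilpotent _ hlt)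
  have hmem : (p : G) * Q.S.φ tP * (p : G)⁻¹ ∈ Q.T :=
    mem_subgroupOf.1 ((mem_normalizer_iff.1 hpN ⟨_, hP Q.t_mem_T⟩).1 (mem_subgroupOf.2 Q.t_mem_T))
  obtain ⟨v, hv, hve⟩ := Q.four_orbit (Q.t_class hmem rfl)
  have hy : v⁻¹ * (p : G) * Q.S.φ tP = Q.S.φ tP * (v⁻¹ * (p : G)) := by
    calc v⁻¹ * (p : G) * Q.S.φ tP = v⁻¹ * ((p : G) * Q.S.φ tP * (p : G)⁻¹) * p := by group
      _ = _ := by rw [← hve]; group
  let R' : Subgroup G := (P : Subgroup G) ⊓ centralizer ({Q.S.φ tP} : Set G)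
  let CT : Subgroup G := Q.T ⊓ centralizer ({Q.S.φ tP} : Set G)
  have hR' : Nat.card R' ≤ 16 := Q.two_cent (P.2.to_le inf_le_left)
    fun r hr => mem_centralizer_singleton_iff.1 (mem_inf.1 hr).2
  have hCT : 16 ≤ Nat.card CT := by
    let Z5 : Subgroup A := zpowers d5A
    have hZ : ∀ x ∈ Z5, InW x ∧ tau5 x = x := by
      intro x hx
      obtain ⟨i, rfl⟩ := mem_zpowers_iff.1 hx
      have hd2 : d5A * d5A = (1 : A) := five_gens_facts.2.2.2.2.2.1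
      rcases Int.emod_two_eq_zero_or_one i with e | e <;>
        rw [← Int.mul_ediv_add_emod i 2, zpow_add, zpow_mul, zpow_two, hd2, one_zpow, one_mul, e]
      · exact ⟨Or.inl (zpow_zero _), by rw [zpow_zero]; decide +kernel⟩
      · exact ⟨Or.inr (Or.inl (zpow_one _)), by rw [zpow_one]; exact inB_special.2.2.2.2⟩
    let F : Subgroup G := (Z5.prod Z5).map Q.Ψ
    have hF4 : Nat.card F = 4 := by
      rw [← Nat.card_congr (Subgroup.equivMapOfInjective _ Q.Ψ Q.Ψ_inj).toEquiv,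
        Nat.card_congr (Subgroup.prodEquiv _ _).toEquiv, Nat.card_prod, Nat.card_zpowers,
        orderOf_eq_prime (p := 2) (by rw [pow_two]; exact five_gens_facts.2.2.2.2.2.1)
          five_gens_facts.2.2.2.2.2.2.2.2.1]
    have hFmem : ∀ f ∈ F, f ∈ Q.El ∧ Q.S.φ tP * f * Q.S.φ tP = f ∧ Q.S.n * f * Q.S.n ∈ F := by
      rintro _ ⟨⟨a, b⟩, hab, rfl⟩
      obtain ⟨ha, hb⟩ := mem_prod.1 hab
      refine ⟨Q.mem_El.2 ⟨a, b, (hZ a ha).1, (hZ b hb).1, rfl⟩, ?_, ⟨(b, a), mem_prod.2 ⟨hb, ha⟩, (Q.n_Ψ (a, b)).symm⟩⟩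
      rw [Q.t_Ψ, (hZ a ha).2, (hZ b hb).2]
    let Fn : Subgroup G := ext2 F Q.S.n Q.n_mul fun f hf => (hFmem f hf).2.2
    have hFn : ∀ f ∈ Fn, Q.S.φ tP * f * Q.S.φ tP = f := by
      rintro f (hf | hf)
      · exact (hFmem f hf).2.1
      · have h1 := (hFmem _ hf).2.1
        rw [show Q.S.φ tP * (Q.S.n * f) * Q.S.φ tP = (Q.S.φ tP * Q.S.n) * f * Q.S.φ tP by group,
          ← Q.S.n_comm_t, mul_assoc Q.S.n, mul_assoc Q.S.n] at h1
        exact mul_left_cancel h1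
    let Ft : Subgroup G := ext2 Fn (Q.S.φ tP) Q.t_mul fun f hf => by rw [hFn f hf]; exact hf
    have hFnT : ∀ f ∈ Fn, f ∈ Q.Tn := fun f hf =>
      hf.imp (fun h => (hFmem f h).1) (fun h => (hFmem _ h).1)
    have hcard : Nat.card Ft = 16 := by
      rw [card_ext2 (fun h => Q.t_not_Tn (hFnT _ h)), card_ext2 (fun h => Q.n_not_El (hFmem _ h).1), hF4]
    rw [← hcard]
    refine card_le_of_le fun f hf => mem_inf.2 ⟨hf.imp (hFnT f) (hFnT _), mem_centralizer_singleton_iff.2 ?_⟩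
    have hft : ∀ h ∈ Fn, h * Q.S.φ tP = Q.S.φ tP * h := fun h hh => by
      conv_lhs => rw [← hFn h hh]
      rw [mul_assoc, Q.t_mul, mul_one]
    rcases hf with hf | hf
    · exact hft f hf
    · have h1 := hft _ hf
      rw [mul_assoc] at h1
      exact mul_left_cancel h1
  have heq : CT = R' := eq_of_le_of_card_ge (inf_le_inf_right _ hP) (hR'.trans hCT)
  have hm : v⁻¹ * (p : G) ∈ R' :=
    mem_inf.2 ⟨mul_mem (inv_mem (hP (Q.El_le_T hv))) p.2, mem_centralizer_singleton_iff.2 hy⟩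
  rw [← heq] at hm
  refine hpT (mem_subgroupOf.2 ?_)
  simpa using mul_mem (Q.El_le_T hv) (mem_inf.1 hm).1

/-- Neither `n` nor `n tau` is conjugate into `El`. -/
theorem not_into_El {m : G} (hm : m = Q.S.n ∨ m = Q.S.n * Q.S.φ tP) (g : G) : g * m * g⁻¹ ∉ Q.El := by
  classical
  intro hge
  have : Fact (Nat.Prime 2) := ⟨Nat.prime_two⟩
  have hmr : m ∉ Q.S.φ.range := by
    rcases hm with rfl | rfl
    · exact Q.S.n_not_range
    · intro h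
      refine Q.S.n_not_range ?_
      simpa [mul_assoc, Q.t_mul] using mul_mem h (⟨tP, rfl⟩ : Q.S.φ tP ∈ Q.S.φ.range)
  have hmt : m * Q.S.φ tP = Q.S.φ tP * m := by
    rcases hm with rfl | rfl
    · exact Q.S.n_comm_t
    · rw [← mul_assoc, ← Q.S.n_comm_t]
  by_cases h1 : g * m * g⁻¹ = 1
  · exact hmr ((conj_eq_one_iff.1 h1) ▸ one_mem _)
  obtain ⟨r, hr⟩ := Q.El_reps hge h1
  obtain ⟨hd1, hd2, hd3⟩ := Q.dd_El
  set X : Set G := {Q.S.φ dP, Q.S.φ a1P, Q.S.φ (a1P * dP)} with hX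
  set x := (r * g) * m * (r * g)⁻¹ with hxdef
  have hxX : x ∈ X := by
    have e : x = r * (g * m * g⁻¹) * r⁻¹ := by rw [hxdef]; group
    rw [e]
    exact hr
  have hXEl : ∀ y ∈ X, y ∈ Q.El := by rintro y (rfl | rfl | rfl) <;> assumption
  have hXt : ∀ y ∈ X, y * Q.S.φ tP = Q.S.φ tP * y := by
    have ht : dP * tP = tP * dP ∧ a1P * tP = tP * a1P ∧ (a1P * dP) * tP = tP * (a1P * dP) := by decide +kernel
    rintro y (rfl | rfl | rfl)
    exacts [Q.S.φ_comm ht.1, Q.S.φ_comm ht.2.1, Q.S.φ_comm ht.2.2]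
  set C := centralizer ({x} : Set G)
  let R : Subgroup G := ext2 Q.El (Q.S.φ tP) Q.t_mul Q.t_El
  have hRC : R ≤ C := by
    intro y hy
    rw [mem_centralizer_singleton_iff]
    rcases hy with hy | hy
    · exact Q.comm_El hy (hXEl x hxX)
    · have h1 : Commute (Q.S.φ tP * (Q.S.φ tP * y)) x :=
        (show Commute (Q.S.φ tP) x from (hXt x hxX).symm).mul_left (Q.comm_El hy (hXEl x hxX))
      rwa [← mul_assoc, Q.t_mul, one_mul] at h1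
  have hRp : IsPGroup 2 R := IsPGroup.of_card (n := 5) (by rw [card_ext2 Q.t_not_El, Q.card_El]; norm_num)
  obtain ⟨PR, hPR⟩ := (hRp.comap_of_injective C.subtype (subtype_injective C)).exists_le_sylow
  set t' := (r * g) * Q.S.φ tP * (r * g)⁻¹ with ht'
  have ht'C : t' ∈ C := by
    rw [mem_centralizer_singleton_iff, ht', hxdef]
    exact ((Commute.conj_iff (r * g)).2 (show Commute (Q.S.φ tP) m from hmt.symm)).eq
  set t'' : C := ⟨t', ht'C⟩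
  have ht'p : IsPGroup 2 (zpowers t'') := by
    obtain ⟨k, -, hk⟩ := (Nat.dvd_prime_pow Nat.prime_two).1
      (show orderOf t'' ∣ 2 ^ 1 from orderOf_dvd_of_pow_eq_one (Subtype.ext (show t' ^ (2 ^ 1) = 1 by
        rw [pow_one, pow_two, ht']
        calc r * g * Q.S.φ tP * (r * g)⁻¹ * (r * g * Q.S.φ tP * (r * g)⁻¹)
            = r * g * (Q.S.φ tP * Q.S.φ tP) * (r * g)⁻¹ := by group
          _ = 1 := by rw [Q.t_mul]; group)))
    exact IsPGroup.of_card (n := k) (by rw [Nat.card_zpowers, hk])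
  obtain ⟨P', hP'⟩ := ht'p.exists_le_sylow
  obtain ⟨c, hc⟩ := MulAction.exists_smul_eq C P' PR
  have hcm : c * t'' * c⁻¹ ∈ (PR : Subgroup C) := by
    rw [← hc]; exact ⟨t'', hP' (mem_zpowers _), rfl⟩
  obtain ⟨P, hP⟩ := (PR.2.map C.subtype).exists_le_sylow
  obtain ⟨PT, hPT⟩ := (IsPGroup.of_card (p := 2) (n := 6)
    (show Nat.card Q.T = 2 ^ 6 by rw [Q.card_T]; norm_num)).exists_le_sylow
  have hPTeq : Q.T = (PT : Subgroup G) := eq_of_le_of_card_ge hPT (by rw [Q.card_T]; exact Q.two_le _ PT.2)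
  obtain ⟨k, hk⟩ := MulAction.exists_smul_eq G P PT
  have toT : ∀ y ∈ (P : Subgroup G), k * y * k⁻¹ ∈ Q.T := fun y hy => by
    rw [hPTeq, ← hk]; exact ⟨y, hy, rfl⟩
  have inP : ∀ y : C, y ∈ (PR : Subgroup C) → (y : G) ∈ (P : Subgroup G) := fun y hy => hP ⟨y, hy, rfl⟩
  have hfourR : ∀ y ∈ Q.four, y ∈ (P : Subgroup G) := by
    intro y hy
    obtain ⟨v, hv, rfl⟩ := Q.four_orbit hy
    have htR : Q.S.φ tP ∈ R := Or.inr (by rw [Q.t_mul]; exact one_mem _)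
    have hyR : v * Q.S.φ tP * v⁻¹ ∈ R := mul_mem (mul_mem (Or.inl hv) htR) (inv_mem (Or.inl hv))
    exact inP ⟨_, hRC hyR⟩ (hPR hyR)
  have himg : (fun y => k * y * k⁻¹) '' Q.four = Q.four := by
    refine Set.eq_of_subset_of_ncard_le ?_ ?_ (Set.toFinite _)
    · rintro _ ⟨y, hy, rfl⟩
      obtain ⟨v, -, hv⟩ := Q.four_orbit hy
      exact Q.t_class (toT y (hfourR y hy)) (g := k * v) (by rw [← hv]; group)
    · rw [Set.ncard_image_of_injective _ fun a b h => mul_left_cancel (mul_right_cancel h)]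
  have hct : (c : G) * t' * (c : G)⁻¹ ∈ Q.four := by
    have h := Q.t_class (toT _ (inP _ hcm)) (g := k * c * (r * g))
      (show k * (c : G) * (r * g) * Q.S.φ tP * (k * (c : G) * (r * g))⁻¹ = k * ((c : G) * t' * (c : G)⁻¹) * k⁻¹ by
        rw [ht']; group)
    rw [← himg] at h
    obtain ⟨y, hy, he⟩ := h
    rwa [show y = (c : G) * t' * (c : G)⁻¹ from mul_left_cancel (mul_right_cancel he)] at hy
  obtain ⟨v, hv, hve⟩ := Q.four_orbit hct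
  set g' := v⁻¹ * (c : G) * (r * g) with hg'
  have hg't : g' * Q.S.φ tP = Q.S.φ tP * g' := by
    rw [← mul_inv_eq_iff_eq_mul]
    calc g' * Q.S.φ tP * g'⁻¹ = v⁻¹ * ((c : G) * t' * (c : G)⁻¹) * v := by rw [hg', ht']; group
      _ = _ := by rw [← hve]; group
  have hg'm : g' * m * g'⁻¹ = x := by
    have hcx : (c : G) * x * (c : G)⁻¹ = x := mul_inv_eq_iff_eq_mul.2 (mem_centralizer_singleton_iff.1 c.2)
    calc g' * m * g'⁻¹ = v⁻¹ * ((c : G) * x * (c : G)⁻¹) * v := by rw [hg', hxdef]; group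
      _ = v⁻¹ * (x * v) := by rw [hcx, mul_assoc]
      _ = _ := by rw [← Q.comm_El hv (hXEl x hxX), inv_mul_cancel_left]
  have hm' : m = g'⁻¹ * x * g' := by rw [← hg'm]; group
  obtain ⟨y, hy, e | e⟩ := Q.S.norm_D (Q.small g' hg't)
  · refine hmr ?_
    rw [hm', e]
    have hxr : x ∈ Q.S.φ.range := by rcases hxX with h | h | h <;> rw [h] <;> exact ⟨_, rfl⟩
    exact mul_mem (mul_mem (inv_mem ⟨y, rfl⟩) hxr) ⟨y, rfl⟩
  · refine hmr ?_
    rw [hm', e, mul_inv_rev, Q.S.n_inv, show (Q.S.φ y)⁻¹ * Q.S.n * x * (Q.S.n * Q.S.φ y) =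
      (Q.S.φ y)⁻¹ * (Q.S.n * x * Q.S.n) * Q.S.φ y by group]
    refine mul_mem (mul_mem (inv_mem ⟨y, rfl⟩) ?_) ⟨y, rfl⟩
    have h1 : Q.S.n * Q.S.φ a1P * Q.S.n = Q.S.φ dP := by
      have h := Q.hX; rwa [Q.S.n_inv, ← halves_facts.1] at h
    rcases hxX with h | h | h <;> rw [h]
    · rw [Q.n_d]; exact ⟨_, rfl⟩
    · rw [h1]; exact ⟨_, rfl⟩
    · rw [map_mul, show Q.S.n * (Q.S.φ a1P * Q.S.φ dP) * Q.S.n = Q.S.n * Q.S.φ a1P * 1 * Q.S.φ dP * Q.S.n by group,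
        ← Q.n_mul, show Q.S.n * Q.S.φ a1P * (Q.S.n * Q.S.n) * Q.S.φ dP * Q.S.n =
        (Q.S.n * Q.S.φ a1P * Q.S.n) * (Q.S.n * Q.S.φ dP * Q.S.n) by group, h1, Q.n_d]
      exact mul_mem ⟨_, rfl⟩ ⟨_, rfl⟩

end SqData

end Cfsg.Agent.Lib.EightThree88.Sym
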