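import Cfsg.Agent.Lib.EightThree88.SqTwo
import Cfsg.Agent.Lib.EightThree88.SqGlobal
import Cfsg.Agent.Lib.Fusion.Thompson
import Cfsg.Agent.Lib.Components.GenFitting
import Mathlib.GroupTheory.SpecificGroups.Alternating.Simple

/-!
# The crossed case: the group is `(A₅ × A₅).2²`
-/

set_option autoImplicit false
set_option maxHeartbeats 800000
set_option maxRecDepth 100000
set_option synthInstance.maxSize 2000
set_option synthInstance.maxHeartbeats 400000

namespace Cfsg.Agent.Lib.EightThree88.Sym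

open Subgroup Model Equiv

universe u

local notation "A" => alternatingGroup (Fin 5)

theorem squares_generate : ∀ a : A, ∃ b c : A, a = b * b * (c * c) := by decide +kernel

theorem fst_split : ∀ σ : Perm (Fin 3), ∃ i : Fin 3, ∃ j : Fin 2, ((σ, 1) : Pr) = zP ^ i.val * a1P ^ j.val := by
  decide +kernel

theorem snd_split : ∀ u : Perm (Fin 5), Perm.sign u = 1 ∨ Perm.sign (swap 3 4 * u) = 1 := by decide +kernel

theorem D_pow : (∀ i j : Fin 3, InD (wP ^ i.val * zP ^ j.val)) ∧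
    (∀ d : Pr, InD d → ∃ i j : Fin 3, d = wP ^ i.val * zP ^ j.val) ∧
    (wP * zP⁻¹)⁻¹ = zP * wP ^ 2 ∧ wP * zP = zP * wP ∧
    a1P * (zP * wP ^ 2) * a1P⁻¹ = (zP * wP)⁻¹ := by decide +kernel

theorem cent_all : ∀ k : Pr, k * zP = zP * k → k * wP = wP * k → k * hP = hP * k → k * a1P = a1P * k → k = 1 := by
  decide +kernel

variable {G : Type u} [Group G] [Finite G]

theorem le_index_two (f : A →* G) {K : Subgroup G} (hK : K.index = 2) : f.range ≤ K := by
  rintro _ ⟨a, rfl⟩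
  obtain ⟨b, c, rfl⟩ := squares_generate a
  rw [map_mul, map_mul, map_mul]
  exact mul_mem ((K.mul_mem_iff_of_index_two hK).2 Iff.rfl) ((K.mul_mem_iff_of_index_two hK).2 Iff.rfl)

theorem transfer_two (M : Subgroup G) (t : G) (ht : orderOf t = 2) (hM : M.index % 4 = 2)
    (hcon : ∀ g : G, g * t * g⁻¹ ∉ M) : ∃ N : Subgroup G, N.index = 2 ∧ t ∉ N := by
  have : Finite (G ⧸ M) := Quotient.finite _
  refine Fusion.Thompson.exists_index_two_of_fixedPointFree (G := G) (α := G ⧸ M) hM t ht fun x => ?_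
  induction x using QuotientGroup.induction_on with
  | H k =>
    intro he
    rw [MulAction.Quotient.smul_mk, smul_eq_mul, QuotientGroup.eq] at he
    refine hcon k⁻¹ ?_
    simpa [mul_assoc] using M.inv_mem he

namespace SqData

variable (Q : SqData G)

theorem Ψ_z : Q.Ψ (1, w5A) = Q.S.φ zP := by rw [Q.Ψ_snd, inB_special.2.2.1]; exact Q.S.n_w

theorem Ψ_w : Q.Ψ (w5A, 1) = Q.S.φ wP := by rw [Q.Ψ_fst, inB_special.2.2.1]

/-- The image of the model lies in `N ∪ tau N`. -/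
theorem range_split (k : Pr) : Q.S.φ k ∈ Q.Ψ.range ∨ Q.S.φ tP * Q.S.φ k ∈ Q.Ψ.range := by
  have h1 : Q.S.φ (k.1, 1) ∈ Q.Ψ.range := by
    obtain ⟨i, j, e⟩ := fst_split k.1
    rw [e, map_mul, map_pow, map_pow]
    exact mul_mem (pow_mem (show Q.S.φ zP ∈ Q.Ψ.range from ⟨_, Q.Ψ_z⟩) _)
      (pow_mem (show Q.S.φ a1P ∈ Q.Ψ.range from ⟨_, Q.Ψ_a1⟩) _)
  have hev : ∀ u : Perm (Fin 5), Perm.sign u = 1 → Q.S.φ (1, u) ∈ Q.Ψ.range := fun u hu =>
    ⟨(⟨u, Perm.mem_alternatingGroup.2 hu⟩, 1), Q.Ψ_fst _⟩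
  rcases snd_split k.2 with h | h
  · left
    rw [show k = (k.1, 1) * (1, k.2) by ext <;> simp, map_mul]
    exact mul_mem h1 (hev _ h)
  · right
    rw [← map_mul, show tP * k = (k.1, 1) * (1, swap 3 4 * k.2) by
      ext <;> simp [tP], map_mul]
    exact mul_mem h1 (hev _ h)

include Q in
theorem square_main : ∃ N : Subgroup G, N.Normal ∧ Cfsg.generalizedFittingSubgroup G = N ∧
    Nonempty (N ≃* A × A) ∧ (∀ K : Subgroup G, K.Normal → K ≤ N → K = ⊥ ∨ K = N) ∧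
    N.index = 4 ∧ ∀ g : G, g ^ 2 ∈ N := by
  classical
  have : Fact (Nat.Prime 2) := ⟨Nat.prime_two⟩
  have ni := Q.S.n_inv
  set N := Q.Ψ.range with hN
  -- the Sylow subgroup
  obtain ⟨PT, hPT⟩ := (IsPGroup.of_card (p := 2) (n := 6)
    (show Nat.card Q.T = 2 ^ 6 by rw [Q.card_T]; norm_num)).exists_le_sylow
  have hPTeq : Q.T = (PT : Subgroup G) := eq_of_le_of_card_ge hPT (by rw [Q.card_T]; exact Q.two_le _ PT.2)
  have hodd : Q.T.index % 2 = 1 := by
    rw [hPTeq]; exact Nat.two_dvd_ne_zero.1 PT.not_dvd_index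
  have hG := Q.T.card_mul_index
  rw [Q.card_T] at hG
  -- first transfer
  have hTnT : ∀ x ∈ Q.Tn, x ∈ Q.T := fun x hx => Or.inl hx
  have hM : Q.Tn.index % 4 = 2 := by
    have h := Q.Tn.card_mul_index
    rw [Tn, card_ext2 Q.n_not_El, Q.card_El, ← Tn] at h
    omega
  have tord : orderOf (Q.S.φ tP) = 2 := orderOf_eq_prime (by rw [pow_two, Q.t_mul])
    fun e => Q.t_not_El (e ▸ one_mem _)
  obtain ⟨G1, hG1, htG1⟩ := transfer_two Q.Tn _ tord hM (by
    intro g hg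
    obtain ⟨v, hv, hve⟩ := Q.four_orbit (Q.t_class (hTnT _ hg) rfl)
    refine Q.t_not_Tn ?_
    rw [show Q.S.φ tP = v⁻¹ * (g * Q.S.φ tP * g⁻¹) * v by rw [← hve]; group]
    exact mul_mem (mul_mem (inv_mem (Or.inl hv)) hg) (Or.inl hv))
  have hNG1 : N ≤ G1 := by
    rintro _ ⟨⟨a, b⟩, rfl⟩
    rw [show (a, b) = ((a, 1) : A × A) * (1, b) by rw [Prod.mk_mul_mk, mul_one, one_mul], map_mul]
    exact mul_mem (le_index_two (Q.Ψ.comp (MonoidHom.inl A A)) hG1 ⟨a, rfl⟩)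
      (le_index_two (Q.Ψ.comp (MonoidHom.inr A A)) hG1 ⟨b, rfl⟩)
  obtain ⟨m, hm, hmG1, hm2⟩ : ∃ m : G, (m = Q.S.n ∨ m = Q.S.n * Q.S.φ tP) ∧ m ∈ G1 ∧ m * m = 1 := by
    by_cases h : Q.S.n ∈ G1
    · exact ⟨_, Or.inl rfl, h, Q.n_mul⟩
    · refine ⟨_, Or.inr rfl, (G1.mul_mem_iff_of_index_two hG1).2 ⟨fun h' => absurd h' h, fun h' => absurd h' htG1⟩, ?_⟩
      calc Q.S.n * Q.S.φ tP * (Q.S.n * Q.S.φ tP) = Q.S.n * (Q.S.φ tP * Q.S.n) * Q.S.φ tP := by group
        _ = (Q.S.n * Q.S.n) * (Q.S.φ tP * Q.S.φ tP) := by rw [← Q.S.n_comm_t]; group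
        _ = 1 := by rw [Q.n_mul, Q.t_mul, mul_one]
  have hmEl : m ∉ Q.El := by
    rcases hm with rfl | rfl
    exacts [Q.n_not_El, Q.nt_not_El]
  -- second transfer
  have hElG1 : Q.El ≤ G1 := Q.El_le.trans hNG1
  have hM1 : (Q.El.subgroupOf G1).index % 4 = 2 := by
    have h := (Q.El.subgroupOf G1).card_mul_index
    rw [Nat.card_congr (subgroupOfEquivOfLe hElG1).toEquiv, Q.card_El] at h
    have h' := G1.card_mul_index
    rw [hG1] at h'
    omega
  have mord : orderOf (⟨m, hmG1⟩ : G1) = 2 := orderOf_eq_prime (Subtype.ext (show m ^ 2 = 1 by rw [pow_two, hm2]))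
    fun e => hmEl ((show m = 1 from congrArg Subtype.val e) ▸ one_mem _)
  obtain ⟨G0', hG0', hmG0'⟩ := transfer_two (Q.El.subgroupOf G1) _ mord hM1
    fun g hg => Q.not_into_El hm (g : G) (mem_subgroupOf.1 hg)
  set G0 : Subgroup G := G0'.map G1.subtype with hG0
  have hG0le : G0 ≤ G1 := map_subtype_le _
  have hmG0 : m ∉ G0 := by
    rintro ⟨x, hx, e⟩
    exact hmG0' ((Subtype.ext e : x = ⟨m, hmG1⟩) ▸ hx)
  have hNG0 : N ≤ G0 := by
    rintro _ ⟨⟨a, b⟩, rfl⟩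
    rw [show (a, b) = ((a, 1) : A × A) * (1, b) by rw [Prod.mk_mul_mk, mul_one, one_mul], map_mul]
    let f : A × A →* G1 := Q.Ψ.codRestrict G1 fun p => hNG1 ⟨p, rfl⟩
    exact mul_mem ⟨_, le_index_two (f.comp (MonoidHom.inl A A)) hG0' ⟨a, rfl⟩, rfl⟩
      ⟨_, le_index_two (f.comp (MonoidHom.inr A A)) hG0' ⟨b, rfl⟩, rfl⟩
  have hG0card : Nat.card G0 * 4 = Nat.card G := by
    rw [hG0, ← Nat.card_congr (G0'.equivMapOfInjective _ (subtype_injective G1)).toEquiv]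
    have h := G0'.card_mul_index
    have h' := G1.card_mul_index
    rw [hG0'] at h
    rw [hG1] at h'
    omega
  have htG0 : Q.S.φ tP ∉ G0 := fun h => htG1 (hG0le h)
  have hnG0 : Q.S.n ∉ G0 ∧ Q.S.n * Q.S.φ tP ∉ G0 := by
    rcases hm with rfl | rfl
    · exact ⟨hmG0, fun h => htG1 (by
        have := mul_mem (inv_mem hmG1) (hG0le h); rwa [inv_mul_cancel_left] at this)⟩
    · exact ⟨fun h => htG1 (by
        have := mul_mem (inv_mem (hG0le h)) hmG1; rwa [inv_mul_cancel_left] at this), hmG0⟩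
  -- elements of `G0` in the known subgroups
  have inR : ∀ k, Q.S.φ k ∈ G0 → Q.S.φ k ∈ N := by
    intro k hk
    refine (Q.range_split k).resolve_right fun h => htG0 ?_
    have := mul_mem (hNG0 h) (inv_mem hk)
    rwa [mul_inv_cancel_right] at this
  have inNR : ∀ k, Q.S.n * Q.S.φ k ∉ G0 := by
    intro k hk
    rcases Q.range_split k with h | h
    · exact hnG0.1 (by have := mul_mem hk (inv_mem (hNG0 h)); rwa [mul_inv_cancel_right] at this)
    · refine hnG0.2 ?_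
      have := mul_mem hk (inv_mem (hNG0 h))
      rwa [show Q.S.n * Q.S.φ k * (Q.S.φ tP * Q.S.φ k)⁻¹ = Q.S.n * (Q.S.φ tP)⁻¹ by group,
        inv_eq_of_mul_eq_one_right Q.t_mul] at this
  have swapN : ∀ x ∈ N, Q.S.n * x * Q.S.n ∈ N := by
    rintro _ ⟨p, rfl⟩; exact ⟨_, (Q.n_Ψ p).symm⟩
  have tN : ∀ x ∈ N, Q.S.φ tP * x * Q.S.φ tP ∈ N := by
    rintro _ ⟨p, rfl⟩; exact ⟨_, (Q.t_Ψ p).symm⟩
  have cz : ∀ g ∈ G0, g * Q.S.φ zP = Q.S.φ zP * g → g ∈ N := by
    intro g hg hc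
    obtain ⟨k, rfl⟩ := Q.S.cent_z hc
    exact inR k hg
  have cw : ∀ g ∈ G0, g * Q.S.φ wP = Q.S.φ wP * g → g ∈ N := by
    intro g hg hc
    obtain ⟨k, -, rfl⟩ := Q.S.cent_w hc
    rw [ni] at hg ⊢
    rcases Q.range_split k with h | h
    · exact swapN _ h
    · exfalso
      refine htG0 ?_
      have h1 := mul_mem (hNG0 (swapN _ h)) (inv_mem hg)
      rwa [show Q.S.n * (Q.S.φ tP * Q.S.φ k) * Q.S.n * (Q.S.n * Q.S.φ k * Q.S.n)⁻¹ =
        Q.S.n * Q.S.φ tP * Q.S.n⁻¹ by group, Q.S.n_t] at h1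
  have cy : ∀ g ∈ G0, g * Q.S.φ (zP * wP) = Q.S.φ (zP * wP) * g → g ∈ N := by
    intro g hg hc
    obtain ⟨x, -, e | e⟩ := Q.S.cent_diag hc
    · rw [e] at hg ⊢; exact inR x hg
    · rw [e] at hg; exact absurd hg (inNR x)
  have cy' : ∀ g ∈ G0, g * Q.S.φ (zP * wP ^ 2) = Q.S.φ (zP * wP ^ 2) * g → g ∈ N := by
    intro g hg hc
    have ha : Q.S.φ a1P ∈ N := ⟨_, Q.Ψ_a1⟩
    have h1 := cy _ (mul_mem (mul_mem (hNG0 ha) hg) (inv_mem (hNG0 ha))) (by
      have h2 : Commute (Q.S.φ a1P * g * (Q.S.φ a1P)⁻¹) (Q.S.φ (zP * wP)⁻¹) := by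
        rw [← D_pow.2.2.2.2, map_mul, map_mul, map_inv]
        exact (Commute.conj_iff _).2 hc
      rw [map_inv] at h2
      exact ((Commute.inv_right_iff).1 h2).eq)
    have := mul_mem (mul_mem (inv_mem ha) h1) ha
    rwa [show (Q.S.φ a1P)⁻¹ * (Q.S.φ a1P * g * (Q.S.φ a1P)⁻¹) * Q.S.φ a1P = g by group] at this
  -- the embedding fills `G0`
  let ψ : A × A →* G0 := Q.Ψ.codRestrict G0 fun p => hNG0 ⟨p, rfl⟩
  have hψ : Function.Injective ψ := fun p q h => Q.Ψ_inj (congrArg Subtype.val h)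
  have toψ : ∀ g : G0, (g : G) ∈ N → g ∈ ψ.range := by
    rintro g ⟨p, hp⟩; exact ⟨p, Subtype.ext hp⟩
  have hcomm : ∀ {g : G0} {p : A × A}, g ∈ centralizer ({ψ p} : Set G0) → (g : G) * Q.Ψ p = Q.Ψ p * (g : G) :=
    fun h => congrArg Subtype.val (mem_centralizer_singleton_iff.1 h)
  have hc5 : SqGlobal.c5A = w5A := rfl
  have hsurj : Function.Surjective ψ := by
    refine SqGlobal.sq_surjective ψ hψ (fun g hg => toψ g (cw _ g.2 ?_)) (fun g hg => toψ g (cz _ g.2 ?_))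
      (fun g hg => toψ g (cy _ g.2 ?_)) (fun g hg => toψ g (cy' _ g.2 ?_)) ?_ ?_ ?_
    · have h := hcomm hg
      rwa [hc5, Q.Ψ_w] at h
    · have h := hcomm hg
      rwa [hc5, Q.Ψ_z] at h
    · have h := hcomm hg
      rwa [hc5, show ((w5A, w5A) : A × A) = (w5A, 1) * (1, w5A) by rw [Prod.mk_mul_mk, mul_one, one_mul],
        map_mul, Q.Ψ_w, Q.Ψ_z, ← map_mul, D_pow.2.2.2.1] at h
    · have h := hcomm hg
      rw [hc5, show ((w5A, w5A⁻¹) : A × A) = (w5A, 1) * (1, w5A)⁻¹ by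
        rw [Prod.inv_mk, Prod.mk_mul_mk, inv_one, mul_one, one_mul], map_mul, map_inv, Q.Ψ_w, Q.Ψ_z,
        ← map_inv, ← map_mul] at h
      rw [← D_pow.2.2.1, map_inv]
      exact ((show Commute (g : G) _ from h).inv_right).eq
    · intro g hg
      refine toψ g ?_
      have key : ∀ d, InD d → ∃ e, InD e ∧ (g : G) * Q.S.φ d * (g : G)⁻¹ = Q.S.φ e := by
        intro d hd
        obtain ⟨i, j, rfl⟩ := D_pow.2.1 d hd
        have hval : ∀ i j : Fin 3, ((ψ (w5A ^ i.val, w5A ^ j.val) : G0) : G) = Q.S.φ (wP ^ i.val * zP ^ j.val) := by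
          intro i j
          show Q.Ψ (w5A ^ i.val, w5A ^ j.val) = _
          rw [map_mul, map_pow, map_pow, ← Q.Ψ_w, ← Q.Ψ_z, ← map_pow, ← map_pow, ← map_mul]
          simp
        have hm : ψ (w5A ^ i.val, w5A ^ j.val) ∈ SqGlobal.DA.map ψ :=
          mem_map_of_mem _ (mem_prod.2 ⟨pow_mem (mem_zpowers _) _, pow_mem (mem_zpowers _) _⟩)
        obtain ⟨⟨a, b⟩, hab, he⟩ := (mem_normalizer_iff.1 hg _).1 hm
        obtain ⟨ha, hb⟩ := mem_prod.1 hab
        obtain ⟨i', rfl⟩ := SqGlobal.mem_zpowers_c5A ha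
        obtain ⟨j', rfl⟩ := SqGlobal.mem_zpowers_c5A hb
        refine ⟨_, D_pow.1 i' j', ?_⟩
        rw [← hval, ← hval]
        exact (congrArg Subtype.val he).symm
      obtain ⟨x, -, e | e⟩ := Q.S.norm_D key
      · rw [e]; exact inR x (e ▸ g.2)
      · exact absurd (e ▸ g.2) (inNR x)
    · intro R hR
      obtain ⟨k, hk⟩ := IsPGroup.iff_card.1 hR
      have h2 : 2 ^ (k + 2) ∣ Nat.card G := by
        rw [← hG0card, pow_add]
        exact mul_dvd_mul (hk ▸ card_subgroup_dvd_card R) (dvd_refl _)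
      obtain ⟨R', hR'⟩ := Sylow.exists_subgroup_card_pow_prime 2 h2
      have h3 := Q.two_le R' (IsPGroup.of_card hR')
      rw [hR', pow_add] at h3
      omega
    · intro R hR
      rw [Nat.card_congr (R.equivMapOfInjective _ (subtype_injective G0)).toEquiv]
      exact Q.S.sylow _ (hR.map _)
  have hG0N : G0 = N := le_antisymm (fun g hg => by
    obtain ⟨p, hp⟩ := hsurj ⟨g, hg⟩
    exact ⟨p, congrArg Subtype.val hp⟩) hNG0
  have hidx : N.index = 4 := by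
    have h := N.card_mul_index
    rw [← hG0card, hG0N] at h
    exact Nat.eq_of_mul_eq_mul_left Nat.card_pos h
  -- `N` is normal
  set H := normalizer (N : Set G) with hH
  have hNH : N ≤ H := le_normalizer
  have hgen : ∀ x : G, x * x = 1 → (∀ y ∈ N, x * y * x ∈ N) → x ∈ H := by
    intro x hx hxy
    rw [hH, mem_normalizer_iff]
    intro y
    rw [inv_eq_of_mul_eq_one_right hx]
    refine ⟨fun h => hxy y h, fun h => ?_⟩
    have := hxy _ h
    rwa [show x * (x * y * x) * x = (x * x) * y * (x * x) by group, hx, one_mul, mul_one] at this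
  have hTH : Q.T ≤ H := by
    intro x hx
    have h1 := hgen _ Q.n_mul swapN
    have h2 := hgen _ Q.t_mul tN
    obtain ⟨e, he, h | h | h | h⟩ := Q.T_cases hx <;> rw [h] <;> have h3 : e ∈ H := hNH (Q.El_le he)
    exacts [h3, mul_mem h1 h3, mul_mem h2 h3, mul_mem (mul_mem h1 h2) h3]
  have top_of : ∀ K : Subgroup G, N ≤ K → Q.T ≤ K → K = ⊤ := by
    intro K h1 h2
    refine index_eq_one.1 ?_
    have d1 : K.index ∣ 4 := hidx ▸ index_dvd_of_le h1
    have d2 : Nat.Coprime K.index 4 := by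
      have h3 := index_dvd_of_le h2
      exact (Nat.Coprime.pow_right 2 (Nat.coprime_two_right.2 ((Nat.odd_iff.2 hodd).of_dvd_nat h3)))
    exact Nat.eq_one_of_dvd_coprimes d2 dvd_rfl d1
  have hnormal : N.Normal := normalizer_eq_top_iff.1 (top_of H hNH hTH)
  haveI := hnormal
  -- squares
  have hsq : ∀ g : G, g ^ 2 ∈ N := by
    let q : G →* G ⧸ N := QuotientGroup.mk' N
    have hq1 : ∀ x ∈ N, q x = 1 := fun x hx => (QuotientGroup.eq_one_iff x).2 hx
    have htop := top_of ((Q.T.map q).comap q) (fun x hx => ⟨1, one_mem _, by rw [map_one, hq1 x hx]⟩)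
      fun x hx => mem_map_of_mem q hx
    intro g
    obtain ⟨x, hx, hxg⟩ := mem_comap.1 (htop ▸ mem_top g : g ∈ (Q.T.map q).comap q)
    refine (QuotientGroup.eq_one_iff _).1 ?_
    show q (g ^ 2) = 1
    rw [map_pow, ← hxg, ← map_pow]
    obtain ⟨e, he, h | h | h | h⟩ := Q.T_cases hx <;> rw [h] <;> have he1 := hq1 e (Q.El_le he)
    · rw [map_pow, he1, one_pow]
    · rw [map_pow, map_mul, he1, mul_one, ← map_pow, pow_two, Q.n_mul, map_one]
    · rw [map_pow, map_mul, he1, mul_one, ← map_pow, pow_two, Q.t_mul, map_one]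
    · rw [map_pow, map_mul, he1, mul_one, ← map_pow, pow_two]
      rw [show Q.S.n * Q.S.φ tP * (Q.S.n * Q.S.φ tP) = Q.S.n * (Q.S.φ tP * Q.S.n) * Q.S.φ tP by group,
        ← Q.S.n_comm_t, show Q.S.n * (Q.S.n * Q.S.φ tP) * Q.S.φ tP = (Q.S.n * Q.S.n) * (Q.S.φ tP * Q.S.φ tP) by
        group, Q.n_mul, Q.t_mul, mul_one, map_one]
  -- the centraliser of `N`
  have hCN : centralizer (N : Set G) = ⊥ := by
    rw [eq_bot_iff]
    intro c hc
    have hc' : ∀ x ∈ N, c * x = x * c := fun x hx => (mem_centralizer_iff.1 hc x hx).symm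
    obtain ⟨k, hk, rfl⟩ := Q.S.cent_z' (hc' _ ⟨_, Q.Ψ_z⟩)
    have back : ∀ a : Pr, Q.S.φ a ∈ N → k * a = a * k := fun a ha =>
      Q.S.inj (by rw [map_mul, map_mul]; exact hc' _ ha)
    rw [mem_bot, cent_all k hk (back _ ⟨_, Q.Ψ_w⟩) (back _ ⟨(h5A, 1), by rw [Q.Ψ_fst, inB_special.2.1]⟩)
      (back _ ⟨_, Q.Ψ_a1⟩), map_one]
  -- minimality
  have hmin : ∀ K : Subgroup G, K.Normal → K ≤ N → K = ⊥ ∨ K = N := by
    intro K hK hKN
    by_cases hKb : K = ⊥
    · exact Or.inl hKb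
    right
    refine le_antisymm hKN ?_
    haveI := hK
    let M : Subgroup (A × A) := K.comap Q.Ψ
    haveI : M.Normal := hK.comap Q.Ψ
    have hswap : ∀ p : A × A, p ∈ M → (p.2, p.1) ∈ M := by
      intro p hp
      show Q.Ψ (p.2, p.1) ∈ K
      rw [← Q.n_Ψ]
      have := hK.conj_mem _ hp Q.S.n
      rwa [ni] at this
    obtain ⟨a, ha, ha1⟩ : ∃ a : A, ((a, 1) : A × A) ∈ M ∧ a ≠ 1 := by
      obtain ⟨x, hx, hx1⟩ := K.ne_bot_iff_exists_ne_one.1 hKb |> fun ⟨⟨x, hx⟩, h⟩ =>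
        (⟨x, hx, fun e => h (Subtype.ext e)⟩ : ∃ x, x ∈ K ∧ x ≠ 1)
      obtain ⟨⟨u, v⟩, rfl⟩ := hKN hx
      have hp : ((u, v) : A × A) ∈ M := hx
      by_cases hu : u = 1
      · subst hu
        exact ⟨v, hswap _ hp, fun e => hx1 (by rw [e, ← Prod.one_eq_mk, map_one])⟩
      obtain ⟨b, hb⟩ : ∃ b : A, u * b ≠ b * u := by
        by_contra h
        push Not at h
        exact hu (inB_center u (h _) (h _) (h _))
      refine ⟨u * b * u⁻¹ * b⁻¹, ?_, fun e => hb (mul_inv_eq_iff_eq_mul.1 (mul_inv_eq_one.1 e))⟩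
      have h2 := mul_mem hp (‹M.Normal›.conj_mem _ (inv_mem hp) ((b, 1) : A × A))
      rw [show (u, v) * ((b, 1) * (u, v)⁻¹ * (b, 1)⁻¹) = ((u * b * u⁻¹ * b⁻¹, 1) : A × A) by
        simp [Prod.inv_mk, mul_assoc]] at h2
      exact h2
    have hall : ∀ b : A, ((b, 1) : A × A) ∈ M := by
      have hn : (M.comap (MonoidHom.inl A A)).Normal := ‹M.Normal›.comap _
      rcases hn.eq_bot_or_eq_top with h | h
      · exact absurd (mem_bot.1 (h ▸ (mem_comap.2 ha : a ∈ M.comap (MonoidHom.inl A A)))) ha1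
      · exact fun b => mem_comap.1 (h ▸ mem_top b : b ∈ M.comap (MonoidHom.inl A A))
    rintro _ ⟨⟨u, v⟩, rfl⟩
    rw [show (u, v) = ((u, 1) : A × A) * (1, v) by rw [Prod.mk_mul_mk, mul_one, one_mul]]
    exact mem_comap.1 (mul_mem (hall u) (hswap _ (hall v)))
  -- the generalised Fitting subgroup
  have hNne : N ≠ ⊥ := by
    intro h
    have h1 : Q.Ψ (w5A, 1) = 1 := mem_bot.1 (h ▸ (⟨_, rfl⟩ : Q.Ψ (w5A, 1) ∈ N))
    rw [← map_one Q.Ψ] at h1
    exact five_gens_facts.2.2.2.1 (Prod.ext_iff.1 (Q.Ψ_inj h1)).1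
  have hF : Cfsg.fittingSubgroup G = ⊥ := by
    haveI : (Cfsg.fittingSubgroup G).Normal := Cores.fittingSubgroup_normal
    rcases hmin (N ⊓ Cfsg.fittingSubgroup G) inferInstance inf_le_left with h | h
    · refine le_bot_iff.1 (le_trans ?_ hCN.le)
      exact fun x hx => mem_centralizer_iff.2 fun y hy =>
        commute_of_normal_of_disjoint _ _ inferInstance inferInstance (disjoint_iff.2 h) y x hy hx
    · exfalso
      haveI := Cores.isNilpotent_of_le (inf_eq_left.1 h) (Cores.fittingSubgroup_isNilpotent (G := G))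
      haveI : Nontrivial N := (nontrivial_iff_ne_bot N).2 hNne
      refine Group.IsNilpotent.center_ne_bot (G := N) ?_
      rw [eq_bot_iff]
      intro x hx
      have : (x : G) ∈ centralizer (N : Set G) := mem_centralizer_iff.2 fun y hy =>
        congrArg Subtype.val (mem_center_iff.1 hx ⟨y, hy⟩)
      rw [hCN, mem_bot] at this
      exact mem_bot.2 (Subtype.ext this)
  have hlayer : Cfsg.layer G ≤ N := by
    refine sSup_le fun K hK => ?_
    rcases Components.Component.le_or_commutator_eq_bot hK (hnormal.isSubnormal : N.IsSubnormal) with h | h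
    · exact h
    · exfalso
      have h1 : K ≤ centralizer (N : Set G) :=
        commutator_eq_bot_iff_le_centralizer.1 (commutator_comm N K ▸ h)
      exact Components.Component.ne_bot hK (le_bot_iff.1 (h1.trans hCN.le))
  have hFN : Cfsg.generalizedFittingSubgroup G = N := by
    have hle : Cfsg.generalizedFittingSubgroup G ≤ N := by
      rw [Cfsg.generalizedFittingSubgroup, hF, sup_bot_eq]
      exact hlayer
    refine (hmin _ Components.GenFitting.generalizedFitting_normal hle).resolve_left ?_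
    haveI : Nontrivial G := ⟨⟨Q.S.n, 1, Q.S.n_ne_one⟩⟩
    exact Components.GenFitting.ne_bot
  exact ⟨N, hnormal, hFN, ⟨(MonoidHom.ofInjective Q.Ψ_inj).symm⟩, hmin, hidx, hsq⟩

end SqData

/-- The crossed case. -/
theorem Data8.square_case (S : Data8 G) (hX : S.n * S.φ a1P * S.n⁻¹ = S.φ (a2P * tP)) (hsmall : Small S)
    (hcomm : ∀ u v : A, Commute (S.φ (1, (u : Perm (Fin 5)))) (S.n * S.φ (1, (v : Perm (Fin 5))) * S.n⁻¹)) :
    ∃ N : Subgroup G, N.Normal ∧ Cfsg.generalizedFittingSubgroup G = N ∧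
      Nonempty (N ≃* A × A) ∧ (∀ K : Subgroup G, K.Normal → K ≤ N → K = ⊥ ∨ K = N) ∧
      N.index = 4 ∧ ∀ g : G, g ^ 2 ∈ N :=
  SqData.square_main ⟨S, hX, hsmall, hcomm⟩

end Cfsg.Agent.Lib.EightThree88.Sym
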