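import Cfsg.Agent.Lib.EightThree88.SymModel
import Cfsg.Agent.S3333

/-!
# The 3-local data of the symmetric case
-/

set_option autoImplicit false
set_option maxHeartbeats 800000
set_option maxRecDepth 100000
set_option synthInstance.maxSize 2000
set_option synthInstance.maxHeartbeats 400000

namespace Cfsg.Agent.Lib.EightThree88.Sym

open Subgroup Model

universe u

/-- The local data: `φ` is the normaliser of `⟨z⟩`, `n` exchanges `z` and `w`. -/
structure Data8 (G : Type u) [Group G] where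
  φ : Pr →* G
  inj : Function.Injective φ
  norm : φ.range = normalizer ((zpowers (φ zP) : Subgroup G) : Set G)
  n : G
  n_sq : n * n = 1
  n_z : n * φ zP * n⁻¹ = φ wP
  n_w : n * φ wP * n⁻¹ = φ zP
  n_t : n * φ tP * n⁻¹ = φ tP
  n_a : n * φ a1P * n⁻¹ = φ a2P ∨ n * φ a1P * n⁻¹ = φ (a2P * tP)
  card_cy : Nat.card (centralizer ({φ (zP * wP)} : Set G)) = 36
  sylow : ∀ Q : Subgroup G, IsPGroup 3 Q → Nat.card Q ≤ 9
  sylow_conj : ∀ Q : Subgroup G, IsPGroup 3 Q → Nat.card Q = 9 →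
    ∃ h : G, ∀ x : Pr, InD x → h * φ x * h⁻¹ ∈ Q

variable {G : Type u} [Group G] [Finite G]

theorem card_cent_conj (h x : G) :
    Nat.card (centralizer ({h * x * h⁻¹} : Set G)) = Nat.card (centralizer ({x} : Set G)) := by
  refine Nat.card_congr ((Equiv.subtypeEquiv (MulAut.conj h).toEquiv fun y => ?_).symm)
  show y ∈ centralizer ({x} : Set G) ↔ h * y * h⁻¹ ∈ centralizer ({h * x * h⁻¹} : Set G)
  simp only [mem_centralizer_singleton_iff]
  refine ⟨fun e => ?_, fun e => mul_left_cancel (a := h) (mul_right_cancel (b := h⁻¹) ?_)⟩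
  · calc h * y * h⁻¹ * (h * x * h⁻¹) = h * (y * x) * h⁻¹ := by group
      _ = _ := by rw [e]; group
  · calc h * (y * x) * h⁻¹ = h * y * h⁻¹ * (h * x * h⁻¹) := by group
      _ = _ := by rw [e]; group

theorem cent_inv (x : G) : centralizer ({x⁻¹} : Set G) = centralizer ({x} : Set G) := by
  ext y
  simp only [mem_centralizer_singleton_iff]
  exact ⟨fun h => (inv_inv x) ▸ (Commute.inv_right (show Commute y x⁻¹ from h)).eq,
    fun h => (Commute.inv_right (show Commute y x from h)).eq⟩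

theorem card_filter_image {φ : Pr →* G} (hφ : Function.Injective φ) (p : Pr → Prop) [DecidablePred p] :
    (φ '' {x | p x}).ncard = (Finset.univ.filter p).card := by
  rw [Set.ncard_image_of_injective _ hφ, ← Set.ncard_coe_finset]
  congr 1
  ext x
  simp

theorem InC_comm : ∀ a b : Pr, InC a → InD b → b * a = a * b := by decide +kernel

theorem line_fixed : ∀ d : Pr, InD d → d ≠ 1 → (a1P * d * a1P⁻¹ = d ∨ a1P * d * a1P⁻¹ = d⁻¹) →
    d = zP ∨ d = zP⁻¹ ∨ d = wP ∨ d = wP⁻¹ := by decide +kernel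

theorem mono_facts : InN 1 ∧ InC tP ∧ InN (a1P * a2P) ∧ a1P * zP⁻¹ * a1P⁻¹ = zP ∧
    a2P * wP⁻¹ * a2P⁻¹ = wP ∧ a1P * wP⁻¹ * a1P⁻¹ = wP⁻¹ ∧ (a1P * a2P) * wP⁻¹ * (a1P * a2P)⁻¹ = wP ∧
    (a1P * a2P) * zP⁻¹ * (a1P * a2P)⁻¹ = zP := by decide +kernel

theorem exists_data8 (P : Sylow 3 G) (D : Subgroup G) (hDP : D = P) (y z : G)
    (hgen : closure {y, z} = D) (hcomm : IsMulCommutative D) (hcard : Nat.card D = 9)
    (hexp : ∀ a ∈ D, a ^ 3 = 1) (hC : Nat.card (centralizer (D : Set G)) = 18)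
    [hcn : ((centralizer (D : Set G)).subgroupOf (normalizer (D : Set G))).Normal]
    (eNC : normalizer (D : Set G) ⧸ (centralizer (D : Set G)).subgroupOf (normalizer (D : Set G)) ≃*
      DihedralGroup 4)
    (hycard : Nat.card (centralizer ({y} : Set G)) = 36)
    (hysq : ∀ g ∈ centralizer ({y} : Set G), g ^ 2 ∈ D)
    (eL : normalizer ((zpowers z : Subgroup G) : Set G) ≃* Pr) :
    ∃ S : Data8 G, ∀ g : G, g ∈ D ↔ ∃ x, InD x ∧ g = S.φ x := by
  classical
  obtain ⟨a1sq, a2sq, tsq, a1z, a1w, a2z, a2w, a1N, a2N, tN, z3, w3, zne, wne, hzw, a12, a1t, a2t, tne, zN, wN⟩ :=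
    a_facts
  have hyD : y ∈ D := hgen ▸ subset_closure (Set.mem_insert _ _)
  have hzD : z ∈ D := hgen ▸ subset_closure (Set.mem_insert_of_mem _ rfl)
  have hDc : ∀ a ∈ D, ∀ b ∈ D, a * b = b * a := fun a ha b hb =>
    congrArg Subtype.val (hcomm.is_comm.comm (⟨a, ha⟩ : D) ⟨b, hb⟩)
  have hnot : ∀ a ∈ D, ¬ D ≤ zpowers a := fun a ha hle => by
    have h1 := card_le_of_le hle
    rw [hcard, Nat.card_zpowers] at h1
    have := Nat.le_of_dvd (by norm_num) (orderOf_dvd_of_pow_eq_one (hexp a ha))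
    omega
  have hz1 : z ≠ 1 := fun e => hnot y hyD (by
    rw [← hgen, closure_le]
    rintro _ (rfl | rfl)
    · exact mem_zpowers _
    · exact e ▸ one_mem _)
  -- the embedding
  set φ0 : Pr →* G := (normalizer ((zpowers z : Subgroup G) : Set G)).subtype.comp eL.symm.toMonoidHom
    with hφ0
  have φ0inj : Function.Injective φ0 := Subtype.coe_injective.comp eL.symm.injective
  have φ0range : ∀ g, g ∈ normalizer ((zpowers z : Subgroup G) : Set G) → ∃ x, φ0 x = g := fun g hg =>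
    ⟨eL ⟨g, hg⟩, by simp [hφ0]⟩
  have φ0mem : ∀ x, φ0 x ∈ normalizer ((zpowers z : Subgroup G) : Set G) := fun x => (eL.symm x).2
  obtain ⟨kz, hkz⟩ := φ0range z (le_normalizer (mem_zpowers z))
  have hzcases : kz = zP ∨ kz = zP⁻¹ := by
    refine normal_three kz (φ0inj ?_) ?_ fun g => ?_
    · rw [map_mul, map_mul, hkz, map_one, ← pow_two, ← pow_succ, hexp z hzD]
    · exact fun e => hz1 (by rw [← hkz, e, map_one])
    · have hm : φ0 g * z * (φ0 g)⁻¹ ∈ zpowers z := (mem_normalizer_iff.1 (φ0mem g) z).1 (mem_zpowers z)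
      obtain ⟨j, hj⟩ := hm
      have hz3 : z ^ (3 : ℤ) = 1 := by exact_mod_cast hexp z hzD
      have hj' : φ0 g * z * (φ0 g)⁻¹ = z ^ (j % 3) := by
        rw [← hj]
        show z ^ j = _
        conv_lhs => rw [← Int.emod_add_mul_ediv j 3, zpow_add, zpow_mul, hz3, one_zpow, mul_one]
      have h0 := Int.emod_nonneg j (show (3 : ℤ) ≠ 0 by norm_num)
      have h1 := Int.emod_lt_of_pos j (show (0 : ℤ) < 3 by norm_num)
      rcases (show j % 3 = 0 ∨ j % 3 = 1 ∨ j % 3 = 2 by omega) with e | e | e <;> rw [e] at hj'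
      · rw [zpow_zero, mul_inv_eq_one, mul_eq_left] at hj'
        exact absurd hj' hz1
      · exact Or.inl (φ0inj (by rw [map_mul, map_mul, map_inv, hkz, hj', zpow_one]))
      · refine Or.inr (φ0inj ?_)
        rw [map_mul, map_mul, map_inv, map_inv, hkz, hj']
        refine eq_inv_of_mul_eq_one_left ?_
        rw [← zpow_add_one]; exact hz3
  obtain ⟨ky, hky⟩ := φ0range y (centralizer_le_normalizer _ (by
    rw [mem_centralizer_iff]
    rintro _ ⟨i, rfl⟩
    exact ((show Commute y z from hDc y hyD z hzD).zpow_right i).eq.symm))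
  obtain ⟨g0, hg0⟩ := three_std ky (φ0inj (by
    rw [map_mul, map_mul, hky, map_one, ← pow_two, ← pow_succ, hexp y hyD]))
  set φ : Pr →* G := φ0.comp (MulAut.conj g0⁻¹).toMonoidHom with hφ
  have φ_apply : ∀ x, φ x = φ0 (g0⁻¹ * x * g0) := fun x => by simp [hφ]
  have φinj : Function.Injective φ := fun a b e => by
    rw [φ_apply, φ_apply] at e
    exact mul_left_cancel (mul_right_cancel (φ0inj e))
  have φz : φ zP = z ∨ φ zP = z⁻¹ := by
    rw [φ_apply, ← hkz]
    have hc := conj_zP g0⁻¹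
    rw [inv_inv] at hc
    rcases hc with e | e <;> rw [e] <;> rcases hzcases with e' | e' <;> rw [e']
    · exact Or.inl rfl
    · exact Or.inr (by rw [map_inv, inv_inv])
    · exact Or.inr (by rw [map_inv])
    · exact Or.inl rfl
  have φzN : zpowers (φ zP) = zpowers z :=
    φz.elim (fun e => by rw [e]) (fun e => by rw [e, zpowers_inv])
  have φnorm : φ.range = normalizer ((zpowers (φ zP) : Subgroup G) : Set G) := by
    rw [φzN]
    ext g
    constructor
    · rintro ⟨x, rfl⟩; rw [φ_apply]; exact φ0mem _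
    · intro hg
      obtain ⟨x, rfl⟩ := φ0range g hg
      exact ⟨g0 * x * g0⁻¹, by rw [φ_apply]; congr 1; group⟩
  have φy : φ (g0 * ky * g0⁻¹) = y := by rw [φ_apply, ← hky]; congr 1; group
  have φzD : φ zP ∈ D := φz.elim (fun e => e ▸ hzD) (fun e => e ▸ inv_mem hzD)
  set k := g0 * ky * g0⁻¹ with hk
  have hkne : k ≠ 1 ∧ k ≠ zP ∧ k ≠ zP⁻¹ := by
    have hle : ∀ s, k = s → φ s ∈ zpowers z → False := fun s e hs => hnot z hzD (by
      rw [← hgen, closure_le]
      rintro _ (rfl | rfl)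
      · rw [← φy, e]; exact hs
      · exact mem_zpowers _)
    refine ⟨fun e => hle 1 e ?_, fun e => hle _ e ?_, fun e => hle _ e ?_⟩
    · rw [map_one]; exact one_mem _
    · exact φzN ▸ mem_zpowers _
    · rw [map_inv]; exact inv_mem (φzN ▸ mem_zpowers _)
  have hkD : φ k ∈ D := φy ▸ hyD
  have φwD : φ wP ∈ D := by
    rcases (show InD k from hg0) with e | e | e | e | e | e | e | e | e
    · exact absurd e hkne.1
    · exact absurd e hkne.2.1
    · exact absurd e hkne.2.2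
    all_goals rw [e] at hkD
    · exact hkD
    · simpa using hkD
    · rw [map_mul] at hkD; simpa using mul_mem (inv_mem φzD) hkD
    · rw [map_mul] at hkD; simpa using mul_mem (inv_mem φzD) hkD
    · rw [map_mul, map_inv] at hkD; simpa using mul_mem φzD hkD
    · rw [map_mul, map_inv] at hkD; simpa using mul_mem φzD hkD
  have φD : ∀ x, InD x → φ x ∈ D := fun x hx => by
    rcases hx with rfl | rfl | rfl | rfl | rfl | rfl | rfl | rfl | rfl <;>
      (try simp only [map_mul, map_inv, map_one])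
    exacts [one_mem _, φzD, inv_mem φzD, φwD, inv_mem φwD, mul_mem φzD φwD,
      mul_mem φzD (inv_mem φwD), mul_mem (inv_mem φzD) φwD, mul_mem (inv_mem φzD) (inv_mem φwD)]
  have Dset : φ '' {x | InD x} = (D : Set G) := by
    refine Set.eq_of_subset_of_ncard_le (Set.image_subset_iff.2 φD) ?_ (Set.toFinite _)
    rw [card_filter_image φinj, card_InD, ← Nat.card_coe_set_eq]
    exact le_of_eq hcard
  have Dφ : ∀ g, g ∈ D ↔ ∃ x, InD x ∧ g = φ x := fun g => by
    rw [← SetLike.mem_coe, ← Dset]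
    exact ⟨fun ⟨x, hx, e⟩ => ⟨x, hx, e.symm⟩, fun ⟨x, hx, e⟩ => ⟨x, hx, e.symm⟩⟩
  -- the centraliser of `D`
  have Cset : φ '' {x | InC x} = (centralizer (D : Set G) : Set G) := by
    refine Set.eq_of_subset_of_ncard_le ?_ ?_ (Set.toFinite _)
    · rintro _ ⟨x, hx, rfl⟩
      rw [SetLike.mem_coe, mem_centralizer_iff]
      intro d hd
      obtain ⟨e, he, rfl⟩ := (Dφ d).1 hd
      rw [← map_mul, ← map_mul]
      exact congrArg φ (InC_comm x e hx he)
    · rw [card_filter_image φinj, card_InC, ← Nat.card_coe_set_eq]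
      exact le_of_eq hC
  -- the index two subgroup of the normaliser
  set ND := normalizer (D : Set G) with hND
  have hND144 : Nat.card ND = 144 := by
    rw [card_eq_card_quotient_mul_card_subgroup ((centralizer (D : Set G)).subgroupOf ND),
      Nat.card_congr eNC.toEquiv, Nat.card_congr (subgroupOfEquivOfLe
        (show centralizer (D : Set G) ≤ ND from centralizer_le_normalizer _)).toEquiv, hC,
      DihedralGroup.nat_card]
  have hNmem : ∀ x, InN x → φ x ∈ ND := by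
    intro x hx
    rw [hND, mem_normalizer_iff_map_conj_eq]
    refine eq_of_le_of_card_ge ?_ ?_
    · rintro _ ⟨g, hg, rfl⟩
      obtain ⟨d, hd, rfl⟩ := (Dφ g).1 hg
      show φ x * φ d * (φ x)⁻¹ ∈ D
      rw [← map_inv, ← map_mul, ← map_mul]
      exact φD _ (InN_conj x hx d hd)
    · rw [Nat.card_congr (D.equivMapOfInjective _ (MulAut.conj (φ x)).injective).toEquiv.symm]
  set R : Subgroup ND := φ.range.subgroupOf ND with hR
  have hmove : ∃ g : ND, g ∉ R := by
    by_contra h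
    push Not at h
    have hle : (ND : Set G) ⊆ φ '' {x | InN x} := by
      intro g hg
      obtain ⟨x, rfl⟩ := mem_subgroupOf.1 (h ⟨g, hg⟩)
      refine ⟨x, ?_, rfl⟩
      have key : ∀ d, InD d → InD (x * d * x⁻¹) := fun d hd => by
        obtain ⟨e, he, hee⟩ := (Dφ _).1 ((mem_normalizer_iff.1 hg (φ d)).1 (φD d hd))
        rw [← map_inv, ← map_mul, ← map_mul] at hee
        exact φinj hee ▸ he
      exact ⟨key _ (Or.inr (Or.inl rfl)), key _ (Or.inr (Or.inr (Or.inr (Or.inl rfl))))⟩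
    have h1 := Set.ncard_le_ncard hle (Set.toFinite _)
    rw [card_filter_image φinj, card_InN, ← Nat.card_coe_set_eq] at h1
    rw [show Nat.card (ND : Set G) = 144 from hND144] at h1
    omega
  have hR72 : 72 ≤ Nat.card R := by
    have hsub : φ '' {x | InN x} ⊆ ((R.map ND.subtype : Subgroup G) : Set G) := by
      rintro _ ⟨x, hx, rfl⟩
      exact ⟨⟨φ x, hNmem x hx⟩, mem_subgroupOf.2 ⟨x, rfl⟩, rfl⟩
    have h1 := Set.ncard_le_ncard hsub (Set.toFinite _)
    rw [card_filter_image φinj, card_InN, ← Nat.card_coe_set_eq] at h1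
    refine h1.trans (le_of_eq ?_)
    exact (Nat.card_congr (R.equivMapOfInjective _ (subtype_injective ND)).toEquiv).symm
  have hidx : R.index = 2 := by
    have h1 := R.card_mul_index
    rw [hND144] at h1
    have h2 : R.index ≠ 1 := fun e => by
      obtain ⟨g, hg⟩ := hmove
      exact hg ((index_eq_one.1 e) ▸ mem_top g)
    have h3 : R.index ≠ 0 := index_ne_zero_of_finite
    have h4 : 72 * R.index ≤ 144 := h1 ▸ Nat.mul_le_mul_right _ hR72
    omega
  obtain ⟨g, hg⟩ := hmove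
  have hgD : ∀ d, InD d → ∃ e, InD e ∧ (g : G) * φ d * (g : G)⁻¹ = φ e := fun d hd =>
    (Dφ _).1 ((mem_normalizer_iff.1 g.2 _).1 (φD d hd))
  have range_of : ∀ (h : G), (h * φ zP * h⁻¹ = φ zP ∨ h * φ zP * h⁻¹ = (φ zP)⁻¹) → h ∈ φ.range := by
    intro h hh
    rw [φnorm, mem_normalizer_iff_map_conj_eq, MonoidHom.map_zpowers]
    show zpowers (h * φ zP * h⁻¹) = zpowers (φ zP)
    rcases hh with e | e <;> rw [e]
    exact zpowers_inv
  have eIter : ∀ (a b c : G), a * b * c * (a * b)⁻¹ = a * (b * c * b⁻¹) * a⁻¹ := fun a b c => by group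
  obtain ⟨d, hd, hgz⟩ := hgD zP (Or.inr (Or.inl rfl))
  have hd1 : d ≠ 1 := by
    rintro rfl
    rw [map_one, mul_inv_eq_one, mul_eq_left] at hgz
    exact zne (φinj (hgz.trans (map_one φ).symm))
  have hR2 : ∀ a : ND, a ∈ R → g⁻¹ * a * g ∈ R := fun a ha => by
    haveI : R.Normal := normal_of_index_eq_two hidx
    simpa using ‹R.Normal›.conj_mem a ha g⁻¹
  have hline : ∀ h : G, h ∈ φ.range → h * φ zP * h⁻¹ = φ zP ∨ h * φ zP * h⁻¹ = (φ zP)⁻¹ := by
    rintro _ ⟨x, rfl⟩
    rcases conj_zP x with e | e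
    · exact Or.inl (by rw [← map_inv, ← map_mul, ← map_mul, e])
    · exact Or.inr (by rw [← map_inv, ← map_mul, ← map_mul, e, map_inv])
  have hdw : d = wP ∨ d = wP⁻¹ := by
    have h1 := hR2 ⟨φ a1P, hNmem _ a1N⟩ (mem_subgroupOf.2 ⟨a1P, rfl⟩)
    have h2 := hline _ (mem_subgroupOf.1 h1)
    simp only [Subgroup.coe_mul, InvMemClass.coe_inv] at h2
    have h3 : φ (a1P * d * a1P⁻¹) = φ d ∨ φ (a1P * d * a1P⁻¹) = φ d⁻¹ := by
      rw [map_mul, map_mul, map_inv, map_inv, ← hgz]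
      refine h2.imp (fun e => ?_) (fun e => ?_)
      · conv_rhs => rw [← e]
        group
      · rw [show ((g : G) * φ zP * (g : G)⁻¹)⁻¹ = (g : G) * (φ zP)⁻¹ * (g : G)⁻¹ by group, ← e]
        group
    rcases line_fixed d hd hd1 (h3.imp (fun e => φinj e) (fun e => φinj e)) with e | e | e | e
    · exact absurd (mem_subgroupOf.2 (range_of g (Or.inl (e ▸ hgz)))) hg
    · exact absurd (mem_subgroupOf.2 (range_of g (Or.inr (by rw [hgz, e, map_inv])))) hg
    · exact Or.inl e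
    · exact Or.inr e
  have hgg : ((g * g : ND) : G) ∈ φ.range := by
    refine mem_subgroupOf.1 ?_
    exact (R.mul_mem_iff_of_index_two hidx).2 (Iff.rfl)
  obtain ⟨e, he, hgw⟩ := hgD wP (Or.inr (Or.inr (Or.inr (Or.inl rfl))))
  have hew : e = zP ∨ e = zP⁻¹ := by
    have h2 := hline _ hgg
    rw [Subgroup.coe_mul, eIter, hgz] at h2
    rcases hdw with rfl | rfl
    · rw [hgw] at h2
      exact h2.imp (fun x => φinj x) (fun x => φinj (x.trans (map_inv φ zP).symm))
    · rw [map_inv, show (g : G) * (φ wP)⁻¹ * (g : G)⁻¹ = ((g : G) * φ wP * (g : G)⁻¹)⁻¹ by group, hgw] at h2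
      rcases h2 with x | x
      · exact Or.inr (φinj (by rw [map_inv, ← x, inv_inv]))
      · exact Or.inl (φinj (inv_injective x))
  -- make the swap exact
  obtain ⟨h, hh1, hh2, hhN⟩ : ∃ h : G, h * φ zP * h⁻¹ = φ wP ∧ h * φ wP * h⁻¹ = φ zP ∧ h ∈ ND := by
    obtain ⟨c, hc1, hc2, hcN⟩ : ∃ c : Pr, c * d * c⁻¹ = wP ∧ c * e * c⁻¹ = zP ∧ InN c := by
      obtain ⟨i1, -, i3, i4, i5, i6, i7, i8⟩ := mono_facts
      rcases hdw with rfl | rfl <;> rcases hew with rfl | rfl
      · exact ⟨1, by simp, by simp, i1⟩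
      · exact ⟨a1P, a1w, i4, a1N⟩
      · exact ⟨a2P, i5, a2z, a2N⟩
      · exact ⟨a1P * a2P, i7, i8, i3⟩
    refine ⟨φ c * g, ?_, ?_, mul_mem (hNmem c hcN) g.2⟩
    · rw [eIter, hgz, ← map_inv, ← map_mul, ← map_mul, hc1]
    · rw [eIter, hgw, ← map_inv, ← map_mul, ← map_mul, hc2]
  have hcz : Nat.card (centralizer ({φ zP} : Set G)) = 360 := by
    have hset : φ '' {x | x * zP = zP * x} = (centralizer ({φ zP} : Set G) : Set G) := by
      refine Set.Subset.antisymm ?_ fun g hg => ?_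
      · rintro _ ⟨x, hx, rfl⟩
        show φ x ∈ centralizer ({φ zP} : Set G)
        rw [mem_centralizer_singleton_iff, ← map_mul, ← map_mul, show x * zP = zP * x from hx]
      · have hc : g * φ zP = φ zP * g := mem_centralizer_singleton_iff.1 hg
        obtain ⟨x, rfl⟩ := range_of g (Or.inl (mul_inv_eq_iff_eq_mul.2 hc))
        exact ⟨x, φinj (by rw [map_mul, map_mul]; exact hc), rfl⟩
    rw [show Nat.card (centralizer ({φ zP} : Set G)) = (centralizer ({φ zP} : Set G) : Set G).ncard from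
      Nat.card_coe_set_eq _, ← hset, card_filter_image φinj (fun x => x * zP = zP * x), card_cent_zP]
  have hcw : Nat.card (centralizer ({φ wP} : Set G)) = 360 := by rw [← hh1, card_cent_conj, hcz]
  obtain ⟨c, hcN, hck⟩ : ∃ c : Pr, InN c ∧ (c * (zP * wP) * c⁻¹ = k ∨ c * (zP * wP) * c⁻¹ = k⁻¹) := by
    rcases lines k hg0 hkne.1 with (e | e) | (e | e) | e
    · exact absurd e hkne.2.1
    · exact absurd e hkne.2.2
    · rw [← φy, e, hcw] at hycard; omega
    · rw [← φy, e, map_inv, cent_inv, hcw] at hycard; omega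
    · rcases e with e | e | e | e
      · exact ⟨1, mono_facts.1, Or.inl (by rw [e]; group)⟩
      · exact ⟨1, mono_facts.1, Or.inr (by rw [e]; group)⟩
      · exact ⟨a2P, a2N, Or.inl e.symm⟩
      · exact ⟨a2P, a2N, Or.inr (by rw [e, inv_inv])⟩
  have hcy : φ c * φ (zP * wP) * (φ c)⁻¹ = y ∨ φ c * φ (zP * wP) * (φ c)⁻¹ = y⁻¹ := by
    rw [← map_inv φ c, ← map_mul, ← map_mul, ← φy, ← map_inv φ k]
    exact hck.imp (congrArg φ) (congrArg φ)
  have hcentY : centralizer ({φ c * φ (zP * wP) * (φ c)⁻¹} : Set G) = centralizer ({y} : Set G) := by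
    rcases hcy with e | e <;> rw [e]
    exact cent_inv y
  have hcard36 : Nat.card (centralizer ({φ (zP * wP)} : Set G)) = 36 := by
    rw [← card_cent_conj (φ c), hcentY, hycard]
  have hsq : ∀ g ∈ centralizer ({φ (zP * wP)} : Set G), g ^ 2 ∈ D := by
    intro x hx
    have hx' : φ c * x * (φ c)⁻¹ ∈ centralizer ({y} : Set G) := by
      rw [← hcentY, mem_centralizer_singleton_iff]
      have hx0 : x * φ (zP * wP) = φ (zP * wP) * x := mem_centralizer_singleton_iff.1 hx
      calc φ c * x * (φ c)⁻¹ * (φ c * φ (zP * wP) * (φ c)⁻¹) = φ c * (x * φ (zP * wP)) * (φ c)⁻¹ := by group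
        _ = _ := by rw [hx0]; group
    have h2 := hysq _ hx'
    rw [conj_pow] at h2
    exact (mem_normalizer_iff.1 (hNmem c hcN) (x ^ 2)).2 h2
  have hhy : h ∈ centralizer ({φ (zP * wP)} : Set G) := by
    rw [mem_centralizer_singleton_iff, ← mul_inv_eq_iff_eq_mul]
    calc h * φ (zP * wP) * h⁻¹ = (h * φ zP * h⁻¹) * (h * φ wP * h⁻¹) := by rw [map_mul]; group
      _ = _ := by rw [hh1, hh2, ← map_mul, ← hzw]
  -- an involution
  set m := h ^ 3 with hm
  have hh2D : h ^ 2 ∈ D := hsq h hhy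
  have hm2 : m * m = 1 := by
    rw [hm, ← pow_add, show 3 + 3 = 2 * 3 from rfl, pow_mul]
    exact hexp _ hh2D
  have hmc : ∀ d ∈ D, h ^ 2 * d * (h ^ 2)⁻¹ = d := fun d hd => by
    rw [hDc _ hh2D d hd, mul_inv_cancel_right]
  have hmconj : ∀ a : G, a ∈ D → m * a * m⁻¹ = h * a * h⁻¹ := fun a ha => by
    rw [hm, show h ^ 3 = h * h ^ 2 from pow_succ' h 2, eIter, hmc a ha]
  have hmz : m * φ zP * m⁻¹ = φ wP := by rw [hmconj _ φzD, hh1]
  have hmw : m * φ wP * m⁻¹ = φ zP := by rw [hmconj _ φwD, hh2]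
  have hmi : m⁻¹ = m := inv_eq_of_mul_eq_one_right hm2
  have hmz' : m * φ wP * m = φ zP := by
    have := hmw
    rwa [hmi] at this
  have hmw' : m * φ zP * m = φ wP := by
    have := hmz
    rwa [hmi] at this
  -- the image of `a1P`
  obtain ⟨x, hx⟩ : ∃ x, m * φ a1P * m⁻¹ = φ x := by
    have h1 : m * φ a1P * m⁻¹ * φ zP * (m * φ a1P * m⁻¹)⁻¹ = φ zP := by
      rw [hmi]
      calc m * φ a1P * m * φ zP * (m * φ a1P * m)⁻¹
          = m * (φ a1P * (m * φ zP * m⁻¹) * (φ a1P)⁻¹) * m⁻¹ := by group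
        _ = _ := by rw [hmz, ← map_inv, ← map_mul, ← map_mul, a1w, hmw]
    obtain ⟨x, hx⟩ := range_of _ (Or.inl h1)
    exact ⟨x, hx.symm⟩
  obtain ⟨i, hi⟩ := swap_a1 x (φinj (by
      rw [map_mul, ← hx, map_one]
      calc m * φ a1P * m⁻¹ * (m * φ a1P * m⁻¹) = m * φ (a1P * a1P) * m⁻¹ := by rw [map_mul]; group
        _ = 1 := by rw [a1sq, map_one]; group))
    (φinj (by
      rw [map_mul, map_mul, ← hx, ← hmw]
      calc m * φ a1P * m⁻¹ * (m * φ wP * m⁻¹) = m * φ (a1P * wP) * m⁻¹ := by rw [map_mul]; group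
        _ = m * φ (wP * a1P) * m⁻¹ := by rw [mul_inv_eq_iff_eq_mul.1 a1w]
        _ = _ := by rw [map_mul]; group))
    (φinj (by
      rw [map_mul, map_mul, map_inv, map_inv, ← hx, ← hmz]
      calc m * φ a1P * m⁻¹ * (m * φ zP * m⁻¹) * (m * φ a1P * m⁻¹)⁻¹
          = m * φ (a1P * zP * a1P⁻¹) * m⁻¹ := by rw [map_mul, map_mul, map_inv]; group
        _ = _ := by rw [a1z, map_inv]; group))
  obtain ⟨wa, wt, wz, ww, wiD⟩ := wP_pow i
  set W := φ (wP ^ i.val) with hW
  set n := W * m * W⁻¹ with hn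
  have nconj : ∀ a : Pr, wP ^ i.val * a = a * wP ^ i.val →
      n * φ a * n⁻¹ = W * (m * φ a * m⁻¹) * W⁻¹ := fun a ha => by
    have hc : Commute W (φ a) := by
      show φ _ * φ a = φ a * φ _
      rw [← map_mul, ← map_mul, ha]
    calc n * φ a * n⁻¹ = W * m * (W⁻¹ * (φ a * W)) * m⁻¹ * W⁻¹ := by rw [hn]; group
      _ = _ := by rw [← hc.eq]; group
  have hWconj : ∀ a : Pr, W * φ a * W⁻¹ = φ (wP ^ i.val * a * (wP ^ i.val)⁻¹) := fun a => by
    rw [hW, ← map_inv, ← map_mul, ← map_mul]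
  have hn2 : n * n = 1 := by
    calc n * n = W * (m * m) * W⁻¹ := by rw [hn]; group
      _ = 1 := by rw [hm2]; group
  have hnz : n * φ zP * n⁻¹ = φ wP := by
    rw [nconj _ wz, hmz, hWconj, ww, mul_inv_cancel_right]
  have hnw : n * φ wP * n⁻¹ = φ zP := by
    rw [nconj _ ww, hmw, hWconj, wz, mul_inv_cancel_right]
  have hnD : n ∈ ND := mul_mem (mul_mem (hNmem _ (InD_mul _ wiD).2.2.2) (by
    rw [hm]; exact pow_mem hhN 3)) (inv_mem (hNmem _ (InD_mul _ wiD).2.2.2))
  have hnt : n * φ tP * n⁻¹ = φ tP := by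
    have htC : φ tP ∈ centralizer (D : Set G) := by
      rw [← SetLike.mem_coe, ← Cset]; exact ⟨tP, mono_facts.2.1, rfl⟩
    have hm1 : n * φ tP * n⁻¹ ∈ centralizer (D : Set G) :=
      ((inferInstance : ((centralizer (D : Set G)).subgroupOf ND).Normal).conj_mem ⟨φ tP,
        centralizer_le_normalizer _ htC⟩ htC ⟨n, hnD⟩)
    rw [← SetLike.mem_coe, ← Cset] at hm1
    obtain ⟨x, hxC, hxe⟩ := hm1
    rcases invC x hxC (φinj (by
      rw [map_mul, hxe, map_one]
      calc n * φ tP * n⁻¹ * (n * φ tP * n⁻¹) = n * φ (tP * tP) * n⁻¹ := by rw [map_mul]; group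
        _ = 1 := by rw [tsq, map_one]; group)) with rfl | rfl
    · rw [map_one, eq_comm, mul_inv_eq_one, mul_eq_left] at hxe
      exact absurd (φinj (hxe.trans (map_one φ).symm)) tne
    · exact hxe.symm
  refine ⟨⟨φ, φinj, φnorm, n, hn2, hnz, hnw, hnt, ?_, hcard36, ?_, ?_⟩, Dφ⟩
  · rw [nconj _ wa, hx, hWconj]
    exact hi.imp (congrArg φ) (congrArg φ)
  · intro Q hQ
    obtain ⟨P', hP'⟩ := hQ.exists_le_sylow
    refine (card_le_of_le hP').trans (le_of_eq ?_)
    rw [Nat.card_congr (Sylow.equiv P' P).toEquiv, ← hDP]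
    exact hcard
  · intro Q hQ hc
    obtain ⟨P', hP'⟩ := hQ.exists_le_sylow
    obtain ⟨h, hh⟩ := MulAction.exists_smul_eq G P P'
    refine ⟨h, fun x hx => ?_⟩
    have hQP : Q = (P' : Subgroup G) := eq_of_le_of_card_ge hP' (by
      rw [Nat.card_congr (Sylow.equiv P' P).toEquiv, ← hDP, hcard, hc])
    rw [hQP, ← hh]
    exact ⟨φ x, hDP ▸ φD x hx, rfl⟩

end Cfsg.Agent.Lib.EightThree88.Sym
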