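import Cfsg.Agent.Lib.EightThree88.SymBase

/-!
# Centralisers in the symmetric case and the dichotomy for the centraliser of the central involution
-/

set_option autoImplicit false
set_option maxHeartbeats 800000
set_option maxRecDepth 100000
set_option synthInstance.maxSize 2000
set_option synthInstance.maxHeartbeats 400000

namespace Cfsg.Agent.Lib.EightThree88.Sym

open Subgroup Model

universe u

theorem InC_cases : ∀ x : Pr, InC x → x * tP = tP * x ∧ x * (zP * wP) = zP * wP * x ∧ InN x := by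
  decide +kernel

theorem diag_conj : ∀ d : Pr, InD d → d ≠ 1 →
    (d = zP ∨ d = zP⁻¹) ∨ (d = wP ∨ d = wP⁻¹) ∨
      ((d = 1 * (zP * wP) * 1 ∨ d = (a1P * a2P) * (zP * wP) * (a1P * a2P) ∨
        d = a2P * (zP * wP) * a2P ∨ d = a1P * (zP * wP) * a1P)) := by decide +kernel

theorem conj_elts : (1 : Pr) * 1 = 1 ∧ (a1P * a2P) * (a1P * a2P) = 1 ∧ tP * (a1P * a2P) = a1P * a2P * tP ∧
    InN (a1P * a2P) ∧ InN 1 := by decide +kernel

theorem no_conj_d : ∀ k : Pr, k * dP * k⁻¹ ≠ tP := by decide +kernel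

theorem dP_facts : dP * zP = zP * dP ∧ a1P * zP⁻¹ * a1P⁻¹ = zP := by decide +kernel

theorem InC_mul : ∀ a : Pr, InC a → ∀ b : Pr, InC b → InC (a * b⁻¹) := by decide +kernel

variable {G : Type u} [Group G] [Finite G] (S : Data8 G)

/-- `C(tau)` normalises `D`. -/
def Small : Prop := ∀ g : G, g * S.φ tP = S.φ tP * g → ∀ d : Pr, InD d →
  ∃ e, InD e ∧ g * S.φ d * g⁻¹ = S.φ e

/-- `C(tau)/<tau>` is the symmetric group of degree six. -/
def Big : Prop := ∃ π : centralizer ({S.φ tP} : Set G) →* Equiv.Perm (Fin 6),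
  Function.Surjective π ∧ ∀ c, π c = 1 ↔ (c : G) = 1 ∨ (c : G) = S.φ tP

namespace Data8

include S

theorem n_inv : S.n⁻¹ = S.n := inv_eq_of_mul_eq_one_right S.n_sq

theorem φ_conj (a b : Pr) : S.φ a * S.φ b * (S.φ a)⁻¹ = S.φ (a * b * a⁻¹) := by
  rw [map_mul, map_mul, map_inv]

theorem φ_comm {a b : Pr} (h : a * b = b * a) : S.φ a * S.φ b = S.φ b * S.φ a := by
  rw [← map_mul, ← map_mul, h]

theorem range_of_conj {g : G}
    (h : g * S.φ zP * g⁻¹ = S.φ zP ∨ g * S.φ zP * g⁻¹ = (S.φ zP)⁻¹) : g ∈ S.φ.range := by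
  rw [S.norm, mem_normalizer_iff_map_conj_eq, MonoidHom.map_zpowers]
  show zpowers (g * S.φ zP * g⁻¹) = zpowers (S.φ zP)
  rcases h with e | e <;> rw [e]
  exact zpowers_inv

theorem cent_z {g : G} (h : g * S.φ zP = S.φ zP * g) : g ∈ S.φ.range :=
  S.range_of_conj (Or.inl (mul_inv_eq_iff_eq_mul.2 h))

theorem cent_z' {g : G} (h : g * S.φ zP = S.φ zP * g) : ∃ k, k * zP = zP * k ∧ g = S.φ k := by
  obtain ⟨k, rfl⟩ := S.cent_z h
  exact ⟨k, S.inj (by rw [map_mul, map_mul]; exact h), rfl⟩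

theorem cent_w {g : G} (h : g * S.φ wP = S.φ wP * g) :
    ∃ k, k * zP = zP * k ∧ g = S.n * S.φ k * S.n⁻¹ := by
  obtain ⟨k, hk, he⟩ := S.cent_z' (g := S.n⁻¹ * g * S.n) (by
    rw [← S.n_z] at h
    calc S.n⁻¹ * g * S.n * S.φ zP = S.n⁻¹ * (g * (S.n * S.φ zP * S.n⁻¹)) * S.n := by group
      _ = _ := by rw [h]; group)
  exact ⟨k, hk, by rw [← he]; group⟩

theorem cent_zw {g : G} (h1 : g * S.φ zP = S.φ zP * g) (h2 : g * S.φ wP = S.φ wP * g) :
    ∃ x, InC x ∧ g = S.φ x := by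
  obtain ⟨k, hk, rfl⟩ := S.cent_z' h1
  exact ⟨k, Sym.cent_zw k hk (S.inj (by rw [map_mul, map_mul]; exact h2)), rfl⟩

theorem n_not_range : S.n ∉ S.φ.range := by
  rintro ⟨k, hk⟩
  have h := S.n_z
  rw [← hk, S.φ_conj] at h
  rcases conj_zP k with e | e <;> rw [e] at h
  · exact (by decide +kernel : zP ≠ wP) (S.inj h)
  · exact (by decide +kernel : zP⁻¹ ≠ wP) (S.inj h)

theorem n_ne_one : S.n ≠ 1 := fun h => S.n_not_range (h ▸ one_mem _)

theorem n_comm_t : S.n * S.φ tP = S.φ tP * S.n := mul_inv_eq_iff_eq_mul.1 S.n_t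

theorem n_zw : S.n * S.φ (zP * wP) = S.φ (zP * wP) * S.n := by
  rw [← mul_inv_eq_iff_eq_mul]
  calc S.n * S.φ (zP * wP) * S.n⁻¹ = (S.n * S.φ zP * S.n⁻¹) * (S.n * S.φ wP * S.n⁻¹) := by
        rw [map_mul]; group
    _ = _ := by rw [S.n_z, S.n_w, ← map_mul, ← a_facts.2.2.2.2.2.2.2.2.2.2.2.2.2.2.1]

theorem card_cz : Nat.card (centralizer ({S.φ zP} : Set G)) = 360 := by
  have hset : S.φ '' {x | x * zP = zP * x} = (centralizer ({S.φ zP} : Set G) : Set G) := by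
    refine Set.Subset.antisymm ?_ fun g hg => ?_
    · rintro _ ⟨x, hx, rfl⟩
      show S.φ x ∈ centralizer ({S.φ zP} : Set G)
      rw [mem_centralizer_singleton_iff]
      exact S.φ_comm hx
    · obtain ⟨x, hx, rfl⟩ := S.cent_z' (mem_centralizer_singleton_iff.1 hg)
      exact ⟨x, hx, rfl⟩
  rw [show Nat.card (centralizer ({S.φ zP} : Set G)) = (centralizer ({S.φ zP} : Set G) : Set G).ncard from
    Nat.card_coe_set_eq _, ← hset, card_filter_image S.inj (fun x => x * zP = zP * x), card_cent_zP]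

theorem card_cw : Nat.card (centralizer ({S.φ wP} : Set G)) = 360 := by
  rw [← S.n_z, card_cent_conj, S.card_cz]

theorem cent_diag {g : G} (h : g * S.φ (zP * wP) = S.φ (zP * wP) * g) :
    ∃ x, InC x ∧ (g = S.φ x ∨ g = S.n * S.φ x) := by
  classical
  set C := centralizer ({S.φ (zP * wP)} : Set G) with hC
  have hsub : (S.φ '' {x | InC x} ∪ (fun x => S.n * S.φ x) '' {x | InC x}) ⊆ (C : Set G) := by
    rintro _ (⟨x, hx, rfl⟩ | ⟨x, hx, rfl⟩) <;>
      show _ ∈ centralizer ({S.φ (zP * wP)} : Set G) <;> rw [mem_centralizer_singleton_iff]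
    · exact S.φ_comm (InC_cases x hx).2.1
    · exact ((show Commute S.n _ from S.n_zw).mul_left
        (show Commute (S.φ x) _ from S.φ_comm (InC_cases x hx).2.1)).eq
  have hdisj : Disjoint (S.φ '' {x | InC x}) ((fun x => S.n * S.φ x) '' {x | InC x}) := by
    rw [Set.disjoint_left]
    rintro _ ⟨x, -, rfl⟩ ⟨e, -, he⟩
    exact S.n_not_range ⟨x * e⁻¹, by rw [map_mul, map_inv]; exact mul_inv_eq_iff_eq_mul.2 he.symm⟩
  have heq := Set.eq_of_subset_of_ncard_le hsub (by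
    rw [Set.ncard_union_eq hdisj (Set.toFinite _) (Set.toFinite _),
      show (fun x => S.n * S.φ x) '' {x | InC x} = (fun y => S.n * y) '' (S.φ '' {x | InC x}) from
        (Set.image_image _ _ _).symm,
      Set.ncard_image_of_injective _ (mul_right_injective S.n), card_filter_image S.inj, card_InC,
      ← Nat.card_coe_set_eq]
    exact le_of_eq S.card_cy) (Set.toFinite _)
  have hm : g ∈ (C : Set G) := mem_centralizer_singleton_iff.2 h
  rw [← heq] at hm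
  rcases hm with ⟨x, hx, rfl⟩ | ⟨x, hx, rfl⟩
  · exact ⟨x, hx, Or.inl rfl⟩
  · exact ⟨x, hx, Or.inr rfl⟩

/-- The swap normalises `D`. -/
theorem n_norm (e : Pr) (he : InD e) : ∃ e', InD e' ∧ S.n * S.φ e * S.n⁻¹ = S.φ e' := by
  obtain ⟨-, -, -, -, -, -, -, -, -, -, -, -, -, -, hzw, -⟩ := a_facts
  have hz := S.n_z
  have hw := S.n_w
  have hD : InD zP⁻¹ ∧ InD wP⁻¹ ∧ InD (zP * wP) ∧ InD (wP * zP⁻¹) ∧ InD (wP⁻¹ * zP) ∧
      InD (wP⁻¹ * zP⁻¹) ∧ InD wP ∧ InD zP ∧ InD (1 : Pr) := by decide +kernel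
  obtain ⟨d1, d2, d3, d4, d5, d6, d7, d8, d9⟩ := hD
  set c : G →* G := (MulAut.conj S.n).toMonoidHom
  have hcz : c (S.φ zP) = S.φ wP := hz
  have hcw : c (S.φ wP) = S.φ zP := hw
  show ∃ e', InD e' ∧ c (S.φ e) = S.φ e'
  rcases he with rfl | rfl | rfl | rfl | rfl | rfl | rfl | rfl | rfl <;>
    simp only [map_mul, map_inv, map_one, hcz, hcw]
  · exact ⟨1, d9, (map_one _).symm⟩
  · exact ⟨_, d7, rfl⟩
  · exact ⟨_, d2, (map_inv _ _).symm⟩
  · exact ⟨_, d8, rfl⟩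
  · exact ⟨_, d1, (map_inv _ _).symm⟩
  · exact ⟨_, d3, by rw [← map_mul, hzw]⟩
  · exact ⟨_, d4, by rw [map_mul, map_inv]⟩
  · exact ⟨_, d5, by rw [map_mul, map_inv]⟩
  · exact ⟨_, d6, by rw [map_mul, map_inv, map_inv]⟩

/-- The lines of `D`: up to elements centralising `tau` there are three. -/
theorem std_line {d : Pr} (hd : InD d) (hd1 : d ≠ 1) : ∃ h : G, h * S.φ tP = S.φ tP * h ∧
    (∀ e, InD e → ∃ e', InD e' ∧ h * S.φ e * h⁻¹ = S.φ e') ∧
    (∀ e, InD e → ∃ e', InD e' ∧ h⁻¹ * S.φ e * h = S.φ e') ∧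
    (h * S.φ d * h⁻¹ = S.φ zP ∨ h * S.φ d * h⁻¹ = S.φ (zP * wP)) := by
  obtain ⟨a1sq, a2sq, -, a1z, a1w, a2z, a2w, a1N, a2N, -, -, -, -, -, hzw, -, a1t, a2t, -, -, -⟩ := a_facts
  obtain ⟨-, c2, c3, c4, c5⟩ := conj_elts
  have conjφ : ∀ k : Pr, InN k → k * k = 1 → ∀ e, InD e →
      (∃ e', InD e' ∧ S.φ k * S.φ e * (S.φ k)⁻¹ = S.φ e') ∧
      (∃ e', InD e' ∧ (S.φ k)⁻¹ * S.φ e * S.φ k = S.φ e') := by
    intro k hk hk2 e he
    have hi : (S.φ k)⁻¹ = S.φ k := by rw [← map_inv, inv_eq_of_mul_eq_one_right hk2]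
    refine ⟨⟨_, InN_conj k hk e he, S.φ_conj k e⟩, ⟨_, InN_conj k hk e he, ?_⟩⟩
    rw [← S.φ_conj k e, hi]
  have conjn := S.n_norm
  have fromφ : ∀ k : Pr, InN k → k * k = 1 → k * tP = tP * k →
      (k * d * k⁻¹ = zP ∨ k * d * k⁻¹ = zP * wP) → ∃ h : G, h * S.φ tP = S.φ tP * h ∧
        (∀ e, InD e → ∃ e', InD e' ∧ h * S.φ e * h⁻¹ = S.φ e') ∧
        (∀ e, InD e → ∃ e', InD e' ∧ h⁻¹ * S.φ e * h = S.φ e') ∧
        (h * S.φ d * h⁻¹ = S.φ zP ∨ h * S.φ d * h⁻¹ = S.φ (zP * wP)) := fun k hk hk2 hkt hc =>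
    ⟨S.φ k, S.φ_comm hkt, fun e he => (conjφ k hk hk2 e he).1, fun e he => (conjφ k hk hk2 e he).2,
      by rw [S.φ_conj]; exact hc.imp (congrArg S.φ) (congrArg S.φ)⟩
  have one_t : (1 : Pr) * tP = tP * 1 := by rw [one_mul, mul_one]
  rcases diag_conj d hd hd1 with (e | e) | (e | e) | e | e | e | e
  · exact fromφ 1 c5 (one_mul 1) one_t (Or.inl (by rw [e]; group))
  · exact fromφ a1P a1N a1sq a1t (Or.inl (by rw [e]; exact dP_facts.2))
  · refine ⟨S.n, S.n_comm_t, conjn, fun x hx => ?_, Or.inl (by rw [e, S.n_w])⟩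
    have := conjn x hx
    rw [S.n_inv] at this ⊢
    exact this
  · refine ⟨S.φ a1P * S.n, ((show Commute (S.φ a1P) _ from S.φ_comm a1t).mul_left
      (show Commute S.n _ from S.n_comm_t)).eq, fun x hx => ?_, fun x hx => ?_, Or.inl ?_⟩
    · obtain ⟨x', hx', he⟩ := conjn x hx
      obtain ⟨x'', hx'', he'⟩ := (conjφ a1P a1N a1sq x' hx').1
      exact ⟨x'', hx'', by rw [← he', ← he]; group⟩
    · obtain ⟨x', hx', he⟩ := (conjφ a1P a1N a1sq x hx).2
      obtain ⟨x'', hx'', he'⟩ := conjn x' hx'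
      exact ⟨x'', hx'', by rw [← he', ← he, mul_inv_rev, S.n_inv]; group⟩
    · calc S.φ a1P * S.n * S.φ d * (S.φ a1P * S.n)⁻¹
          = S.φ a1P * (S.n * S.φ wP * S.n⁻¹)⁻¹ * (S.φ a1P)⁻¹ := by rw [e, map_inv]; group
        _ = _ := by rw [S.n_w, ← map_inv S.φ zP, S.φ_conj, dP_facts.2]
  · exact fromφ 1 c5 (one_mul 1) one_t (Or.inr (by rw [e]; group))
  · refine fromφ (a1P * a2P) c4 c2 c3.symm (Or.inr ?_)
    rw [e, show (a1P * a2P) * ((a1P * a2P) * (zP * wP) * (a1P * a2P)) * ((a1P * a2P))⁻¹ = ((a1P * a2P) * (a1P * a2P)) * (zP * wP) by group, c2, one_mul]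
  · refine fromφ a2P a2N a2sq a2t (Or.inr ?_)
    rw [e, show a2P * (a2P * (zP * wP) * a2P) * (a2P)⁻¹ = (a2P * a2P) * (zP * wP) by group, a2sq, one_mul]
  · refine fromφ a1P a1N a1sq a1t (Or.inr ?_)
    rw [e, show a1P * (a1P * (zP * wP) * a1P) * (a1P)⁻¹ = (a1P * a1P) * (zP * wP) by group, a1sq, one_mul]

/-- Elements normalising `D`. -/
theorem norm_D {g : G} (hg : ∀ d, InD d → ∃ e, InD e ∧ g * S.φ d * g⁻¹ = S.φ e) :
    ∃ x, InN x ∧ (g = S.φ x ∨ g = S.n * S.φ x) := by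
  obtain ⟨d, hd, he⟩ := hg zP (Or.inr (Or.inl rfl))
  have hc : Nat.card (centralizer ({S.φ d} : Set G)) = 360 := by rw [← he, card_cent_conj, S.card_cz]
  have hd1 : d ≠ 1 := by
    rintro rfl
    rw [map_one, mul_inv_eq_one, mul_eq_left] at he
    exact a_facts.2.2.2.2.2.2.2.2.2.2.2.2.1 (S.inj (he.trans (map_one _).symm))
  have mem : ∀ x : Pr, (∀ d, InD d → ∃ e, InD e ∧ S.φ x * S.φ d * (S.φ x)⁻¹ = S.φ e) → InN x := by
    intro x hx
    have key : ∀ d, InD d → InD (x * d * x⁻¹) := fun d hd => by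
      obtain ⟨e, he, hee⟩ := hx d hd
      rw [S.φ_conj] at hee
      exact S.inj hee ▸ he
    exact ⟨key _ (Or.inr (Or.inl rfl)), key _ (Or.inr (Or.inr (Or.inr (Or.inl rfl))))⟩
  rcases lines d hd hd1 with (e | e) | (e | e) | e
  · obtain ⟨x, rfl⟩ := S.range_of_conj (g := g) (Or.inl (by rw [he, e]))
    exact ⟨x, mem x hg, Or.inl rfl⟩
  · obtain ⟨x, rfl⟩ := S.range_of_conj (g := g) (Or.inr (by rw [he, e, map_inv]))
    exact ⟨x, mem x hg, Or.inl rfl⟩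
  rotate_left 2
  · exfalso
    obtain ⟨h, -, -, -, hh | hh⟩ := S.std_line hd hd1
    · rcases e with e | e | e | e <;> subst e
      all_goals
        have h36 := S.card_cy
      · rw [h36] at hc; omega
      · rw [map_inv, cent_inv, h36] at hc; omega
      · rw [map_mul, map_mul, map_inv, card_cent_conj, h36] at hc; omega
      · rw [map_inv, cent_inv, map_mul, map_mul, map_inv, card_cent_conj, h36] at hc; omega
    · rw [← card_cent_conj h, hh, S.card_cy] at hc; omega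
  all_goals
    obtain ⟨x, hx⟩ := S.range_of_conj (g := S.n * g) (by
      rw [show S.n * g * S.φ zP * (S.n * g)⁻¹ = S.n * (g * S.φ zP * g⁻¹) * S.n⁻¹ by group, he, e]
      first
        | exact Or.inl S.n_w
        | exact Or.inr (by rw [map_inv, ← S.n_w]; group))
    have hgx : g = S.n * S.φ x := by rw [hx, ← mul_assoc, S.n_sq, one_mul]
    refine ⟨x, ?_, Or.inr hgx⟩
    refine mem x fun d hd => ?_
    obtain ⟨e', he', hee⟩ := hg d hd
    rw [hx]
    obtain ⟨e'', he'', hee'⟩ : ∃ e'', InD e'' ∧ S.n * S.φ e' * S.n⁻¹ = S.φ e'' := by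
      exact S.n_norm e' he'
    exact ⟨e'', he'', by rw [← hee', ← hee]; group⟩

end Data8

end Cfsg.Agent.Lib.EightThree88.Sym
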