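import Cfsg.Agent.Lib.EightThree88.SymCent
import Cfsg.Agent.Lib.TwoGroups.Recognition

/-!
# The dichotomy for the centraliser of the central involution, and non-fusion
-/

set_option autoImplicit false
set_option maxHeartbeats 800000
set_option maxRecDepth 100000
set_option synthInstance.maxSize 2000
set_option synthInstance.maxHeartbeats 400000

namespace Cfsg.Agent.Lib.EightThree88.Sym

open Subgroup Model

universe u

theorem d8_normal : ∀ x : DihedralGroup 4, x ≠ 1 →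
    x = DihedralGroup.r 2 ∨ x * x = DihedralGroup.r 2 ∨
      DihedralGroup.r 1 * x * (DihedralGroup.r 1)⁻¹ * x⁻¹ = DihedralGroup.r 2 := by decide +kernel

theorem InN_cases : ∀ x : Pr, InN x →
    InC x ∨ InC (x * a1P) ∨ InC (x * a2P) ∨ InC (x * (a1P * a2P)) := by decide +kernel

theorem InN_t : ∀ x : Pr, InN x → x * tP = tP * x := by decide +kernel

theorem a_not_C : ¬ InC (a2P * a1P) ∧ ¬ InC (a2P * tP * a1P) ∧ InC (1 : Pr) := by decide +kernel

theorem InN_mul_t : ∀ x : Pr, InN x → InN (x * tP) := by decide +kernel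

theorem InD_closed : InD 1 ∧ InC tP ∧ (∀ a, InD a → ∀ b, InD b → InD (a * b)) := by decide +kernel

variable {G : Type u} [Group G] [Finite G] (S : Data8 G)

namespace Data8

include S

/-- A 3-element of `C(tau)` is conjugate within `C(tau)` into `D`. -/
theorem exists_conj_D {x : G} (hx3 : x ^ 3 = 1) (hxt : x * S.φ tP = S.φ tP * x) :
    ∃ h, h * S.φ tP = S.φ tP * h ∧ ∃ d, InD d ∧ h * x * h⁻¹ = S.φ d := by
  classical
  haveI : Fact (Nat.Prime 3) := ⟨Nat.prime_three⟩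
  set C := centralizer ({S.φ tP} : Set G)
  let Dp : Subgroup Pr :=
    { carrier := {a | InD a}
      one_mem' := InD_closed.1
      mul_mem' := fun {a b} ha hb => InD_closed.2.2 a ha b hb
      inv_mem' := fun {a} ha => (InD_mul a ha).1 }
  have hDC : Dp.map S.φ ≤ C := by
    rintro _ ⟨a, ha, rfl⟩
    exact mem_centralizer_singleton_iff.2 (S.φ_comm (InD_three a ha).2.2.2)
  set Q : Subgroup C := (Dp.map S.φ).subgroupOf C
  have hQc : Nat.card Q = 3 ^ 2 := by
    rw [Nat.card_congr (subgroupOfEquivOfLe hDC).toEquiv,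
      Nat.card_congr (Dp.equivMapOfInjective S.φ S.inj).toEquiv.symm,
      show (3 : ℕ) ^ 2 = 9 by norm_num, ← card_InD, ← Fintype.card_subtype, ← Nat.card_eq_fintype_card]
    rfl
  obtain ⟨P, hP⟩ := (IsPGroup.of_card hQc).exists_le_sylow
  have hPQ : Q = (P : Subgroup C) := eq_of_le_of_card_ge hP (by
    rw [hQc, Nat.card_congr ((P : Subgroup C).equivMapOfInjective C.subtype (subtype_injective _)).toEquiv]
    exact S.sylow _ (P.2.map _))
  set x' : C := ⟨x, mem_centralizer_singleton_iff.2 hxt⟩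
  have hxp : IsPGroup 3 (zpowers x') := by
    obtain ⟨k, -, hk⟩ := (Nat.dvd_prime_pow Nat.prime_three).1
      (show orderOf x' ∣ 3 ^ 1 from orderOf_dvd_of_pow_eq_one (Subtype.ext (by rw [pow_one]; exact hx3)))
    exact IsPGroup.of_card (n := k) (by rw [Nat.card_zpowers, hk])
  obtain ⟨P', hP'⟩ := hxp.exists_le_sylow
  obtain ⟨h, hh⟩ := MulAction.exists_smul_eq C P' P
  have hm : h * x' * h⁻¹ ∈ (P : Subgroup C) := by
    rw [← hh]
    exact ⟨x', hP' (mem_zpowers _), rfl⟩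
  rw [← hPQ] at hm
  obtain ⟨d, hd, he⟩ := mem_subgroupOf.1 hm
  exact ⟨h, mem_centralizer_singleton_iff.1 h.2, d, hd, he.symm⟩

/-- The double transposition is not fused to `tau`. -/
theorem not_t_d (g : G) : g * S.φ dP * g⁻¹ ≠ S.φ tP := by
  intro hg
  obtain ⟨-, -, -, -, -, -, -, -, -, -, z3, -, zne, -⟩ := a_facts
  have hxt : g * S.φ zP * g⁻¹ * S.φ tP = S.φ tP * (g * S.φ zP * g⁻¹) := by
    rw [← hg]
    calc g * S.φ zP * g⁻¹ * (g * S.φ dP * g⁻¹) = g * (S.φ zP * S.φ dP) * g⁻¹ := by group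
      _ = g * (S.φ dP * S.φ zP) * g⁻¹ := by rw [S.φ_comm dP_facts.1]
      _ = _ := by group
  obtain ⟨h, hh, d, hd, hde⟩ := S.exists_conj_D (by rw [conj_pow, ← map_pow, z3, map_one]; group) hxt
  have hd1 : d ≠ 1 := by
    rintro rfl
    rw [map_one, mul_inv_eq_one, mul_eq_left, mul_inv_eq_one, mul_eq_left] at hde
    exact zne (S.inj (hde.trans (map_one _).symm))
  obtain ⟨k, hk, -, -, hkd⟩ := S.std_line hd hd1
  set m := k * h * g with hm
  have e1 : m * S.φ zP * m⁻¹ = k * S.φ d * k⁻¹ := by rw [← hde, hm]; group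
  rcases hkd with hkd | hkd <;> rw [hkd] at e1
  · obtain ⟨c, hc⟩ := S.cent_z (mul_inv_eq_iff_eq_mul.1 e1)
    refine no_conj_d c (S.inj ?_)
    rw [← S.φ_conj, hc, hm]
    calc k * h * g * S.φ dP * (k * h * g)⁻¹ = k * (h * (g * S.φ dP * g⁻¹) * h⁻¹) * k⁻¹ := by group
      _ = _ := by rw [hg, mul_inv_eq_iff_eq_mul.2 hh, mul_inv_eq_iff_eq_mul.2 hk]
  · have h1 := card_cent_conj m (S.φ zP)
    rw [e1, S.card_cy, S.card_cz] at h1
    omega

/-- An involution commuting with the diagonal element but not with `D` is not fused to `tau`. -/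
theorem not_t_diag {j : G} (hj : j * S.φ (zP * wP) = S.φ (zP * wP) * j) (hjt : j ≠ S.φ tP) (g : G) :
    g * j * g⁻¹ ≠ S.φ tP := by
  intro hg
  have hxt : g * S.φ (zP * wP) * g⁻¹ * S.φ tP = S.φ tP * (g * S.φ (zP * wP) * g⁻¹) := by
    rw [← hg]
    calc g * S.φ (zP * wP) * g⁻¹ * (g * j * g⁻¹) = g * (S.φ (zP * wP) * j) * g⁻¹ := by group
      _ = g * (j * S.φ (zP * wP)) * g⁻¹ := by rw [hj]
      _ = _ := by group
  have hy : (zP * wP) ^ 3 = 1 ∧ zP * wP ≠ 1 := by decide +kernel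
  obtain ⟨h, hh, d, hd, hde⟩ := S.exists_conj_D (by rw [conj_pow, ← map_pow, hy.1, map_one]; group) hxt
  have hd1 : d ≠ 1 := by
    rintro rfl
    rw [map_one, mul_inv_eq_one, mul_eq_left, mul_inv_eq_one, mul_eq_left] at hde
    exact hy.2 (S.inj (hde.trans (map_one _).symm))
  obtain ⟨k, hk, -, -, hkd⟩ := S.std_line hd hd1
  set m := k * h * g with hm
  have e1 : m * S.φ (zP * wP) * m⁻¹ = k * S.φ d * k⁻¹ := by rw [← hde, hm]; group
  rcases hkd with hkd | hkd <;> rw [hkd] at e1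
  · have h1 := card_cent_conj m (S.φ (zP * wP))
    rw [e1, S.card_cy, S.card_cz] at h1
    omega
  · obtain ⟨x, hx, hxe⟩ := S.cent_diag (mul_inv_eq_iff_eq_mul.1 e1)
    have hmt : m * S.φ tP = S.φ tP * m := by
      have hc : Commute (S.φ x) (S.φ tP) := S.φ_comm (InC_cases x hx).1
      rcases hxe with e | e <;> rw [e]
      · exact hc.eq
      · exact ((show Commute S.n _ from S.n_comm_t).mul_left hc).eq
    refine hjt ?_
    have e2 : m * j * m⁻¹ = S.φ tP := by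
      rw [hm]
      calc k * h * g * j * (k * h * g)⁻¹ = k * (h * (g * j * g⁻¹) * h⁻¹) * k⁻¹ := by group
        _ = _ := by rw [hg, mul_inv_eq_iff_eq_mul.2 hh, mul_inv_eq_iff_eq_mul.2 hk]
    rw [← mul_inv_eq_iff_eq_mul.2 hmt] at e2
    exact mul_left_cancel (mul_right_cancel e2)

theorem not_t_n (g : G) : g * S.n * g⁻¹ ≠ S.φ tP :=
  S.not_t_diag S.n_zw (fun e => S.n_not_range ⟨tP, e.symm⟩) g

theorem not_t_nt (g : G) : g * (S.n * S.φ tP) * g⁻¹ ≠ S.φ tP :=
  S.not_t_diag ((show Commute S.n _ from S.n_zw).mul_left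
    (show Commute (S.φ tP) _ from S.φ_comm (InC_cases tP InD_closed.2.1).2.1)).eq
    (fun e => S.n_ne_one (mul_eq_right.1 e)) g

/-- The dichotomy. -/
theorem dich : Small S ∨ Big S := by
  classical
  haveI : Fact (Nat.Prime 3) := ⟨Nat.prime_three⟩
  obtain ⟨a1sq, a2sq, tsq, a1z, a1w, a2z, a2w, a1N, a2N, tN, z3, w3, zne, wne, hzw, a12, a1t, a2t, tne, zN, wN⟩ :=
    a_facts
  set C := centralizer ({S.φ tP} : Set G)
  have memC : ∀ g, g ∈ C ↔ g * S.φ tP = S.φ tP * g := fun g => mem_centralizer_singleton_iff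
  let v : C := ⟨S.φ tP, (memC _).2 rfl⟩
  set Z : Subgroup C := zpowers v
  have hZc : Z ≤ center C := zpowers_le.2 (mem_center_iff.2 fun g => Subtype.ext ((memC _).1 g.2))
  haveI : Z.Normal := ⟨fun m hm g => by rw [mem_center_iff.1 (hZc hm) g, mul_inv_cancel_right]; exact hm⟩
  have hv2 : v * v = 1 := Subtype.ext (show S.φ tP * S.φ tP = 1 by rw [← map_mul, tsq, map_one])
  have hZmem : ∀ x ∈ Z, (x : G) = 1 ∨ (x : G) = S.φ tP := by
    intro x hx
    obtain ⟨i, rfl⟩ := mem_zpowers_iff.1 hx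
    rcases Int.emod_two_eq_zero_or_one i with e | e <;>
      rw [← Int.mul_ediv_add_emod i 2, zpow_add, zpow_mul, zpow_two, hv2, one_zpow, one_mul, e]
    · exact Or.inl (by rw [zpow_zero]; rfl)
    · exact Or.inr (by rw [zpow_one])
  let q : C →* C ⧸ Z := QuotientGroup.mk' Z
  have hqker : ∀ c : C, q c = 1 ↔ (c : G) = 1 ∨ (c : G) = S.φ tP := by
    intro c
    refine ⟨fun h => hZmem c ((QuotientGroup.eq_one_iff c).1 h), fun h => (QuotientGroup.eq_one_iff c).2 ?_⟩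
    rcases h with h | h
    · rw [show c = 1 from Subtype.ext h]; exact one_mem _
    · rw [show c = v from Subtype.ext h]; exact mem_zpowers v
  let Dp : Subgroup Pr :=
    { carrier := {a | InD a}
      one_mem' := InD_closed.1
      mul_mem' := fun {a b} ha hb => InD_closed.2.2 a ha b hb
      inv_mem' := fun {a} ha => (InD_mul a ha).1 }
  let φC : Dp →* C := (S.φ.comp Dp.subtype).codRestrict C fun a =>
    (memC _).2 (S.φ_comm (InD_three a.1 a.2).2.2.2)
  have hφCinj : Function.Injective φC := fun a b h => Subtype.ext (S.inj (congrArg Subtype.val h))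
  set D' : Subgroup (C ⧸ Z) := (q.comp φC).range with hD'
  have hqinj : Function.Injective (q.comp φC) := by
    rw [← MonoidHom.ker_eq_bot_iff, eq_bot_iff_forall]
    intro a ha
    rcases (hqker (φC a)).1 (MonoidHom.mem_ker.1 ha) with h | h
    · exact Subtype.ext (S.inj (h.trans (map_one _).symm))
    · exfalso
      have h3 := (InD_three a.1 a.2).1
      rw [show (a : Pr) = tP from S.inj h, pow_succ, pow_two, tsq, one_mul] at h3
      exact tne h3
  have hDp : Nat.card Dp = 9 := by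
    rw [← card_InD, ← Fintype.card_subtype, ← Nat.card_eq_fintype_card]
    rfl
  have hD9 : Nat.card D' = 9 := by
    rw [hD', ← Nat.card_congr (MonoidHom.ofInjective hqinj).toEquiv, hDp]
  -- the Sylow subgroup of the quotient
  obtain ⟨P0, hP0⟩ := (IsPGroup.of_card (p := 3) (n := 2) (show Nat.card φC.range = 3 ^ 2 by
    rw [← Nat.card_congr (MonoidHom.ofInjective hφCinj).toEquiv, hDp]; norm_num)).exists_le_sylow
  have hP0eq : φC.range = (P0 : Subgroup C) := eq_of_le_of_card_ge hP0 (by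
    rw [← Nat.card_congr (MonoidHom.ofInjective hφCinj).toEquiv, hDp,
      Nat.card_congr ((P0 : Subgroup C).equivMapOfInjective C.subtype (subtype_injective _)).toEquiv]
    exact S.sylow _ (P0.2.map _))
  let P : Sylow 3 (C ⧸ Z) := P0.mapSurjective (QuotientGroup.mk'_surjective Z)
  have hDP : D' = (P : Subgroup (C ⧸ Z)) := by
    rw [Sylow.coe_mapSurjective, ← hP0eq, hD', MonoidHom.range_comp]
  -- moving elements of order three
  have lift : ∀ (c : C) (d : Pr) (hd : InD d), q c * q (φC ⟨d, hd⟩) * (q c)⁻¹ ∈ D' →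
      ∃ e, InD e ∧ (c : G) * S.φ d * (c : G)⁻¹ = S.φ e := by
    intro c d hd hm
    obtain ⟨⟨e, he⟩, hee⟩ := hm
    refine ⟨e, he, ?_⟩
    have h1 : q (c * φC ⟨d, hd⟩ * c⁻¹ * (φC ⟨e, he⟩)⁻¹) = 1 := by
      rw [map_mul, map_mul, map_mul, map_inv, map_inv, ← hee]
      exact mul_inv_cancel _
    have hc3 : ((c : G) * S.φ d * (c : G)⁻¹) ^ 3 = 1 := by
      rw [conj_pow, ← map_pow, (InD_three d hd).1, map_one]; group
    rcases (hqker _).1 h1 with h | h
    · exact mul_inv_eq_one.1 h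
    · exfalso
      have h' : (c : G) * S.φ d * (c : G)⁻¹ = S.φ tP * S.φ e := mul_inv_eq_iff_eq_mul.1 h
      rw [h', ← map_mul, ← map_pow, (show Commute tP e from (InD_three e he).2.2.2.symm).mul_pow,
        (InD_three e he).1, mul_one, pow_succ, pow_two, tsq, one_mul] at hc3
      exact tne (S.inj (hc3.trans (map_one _).symm))
  have hN : ∀ c : C, (∀ d, InD d → ∃ e, InD e ∧ (c : G) * S.φ d * (c : G)⁻¹ = S.φ e) →
      q c ∈ normalizer (D' : Set (C ⧸ Z)) := by
    intro c hc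
    rw [mem_normalizer_iff_map_conj_eq]
    refine eq_of_le_of_card_ge ?_ (by
      rw [Nat.card_congr (D'.equivMapOfInjective _ (MulAut.conj (q c)).injective).toEquiv.symm])
    rintro _ ⟨_, ⟨⟨d, hd⟩, rfl⟩, rfl⟩
    obtain ⟨e, he, hee⟩ := hc d hd
    refine ⟨⟨e, he⟩, ?_⟩
    show q (φC ⟨e, he⟩) = q c * q (φC ⟨d, hd⟩) * (q c)⁻¹
    rw [← map_inv, ← map_mul, ← map_mul]
    exact congrArg q (Subtype.ext hee.symm)
  have hN' : ∀ c : C, q c ∈ normalizer (D' : Set (C ⧸ Z)) →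
      ∀ d, InD d → ∃ e, InD e ∧ (c : G) * S.φ d * (c : G)⁻¹ = S.φ e := fun c hc d hd =>
    lift c d hd ((mem_normalizer_iff.1 hc _).1 ⟨⟨d, hd⟩, rfl⟩)
  -- the centraliser
  have hCD : centralizer (D' : Set (C ⧸ Z)) = D' := by
    refine le_antisymm (fun w hw => ?_) ?_
    · obtain ⟨c, rfl⟩ := QuotientGroup.mk'_surjective Z w
      have hfix : ∀ d, InD d → (c : G) * S.φ d = S.φ d * c := by
        intro d hd
        have h := mem_centralizer_iff.1 hw _ ⟨⟨d, hd⟩, rfl⟩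
        have h1 : q (c * φC ⟨d, hd⟩ * c⁻¹ * (φC ⟨d, hd⟩)⁻¹) = 1 := by
          rw [map_mul, map_mul, map_mul, map_inv, map_inv, mul_inv_eq_one, mul_inv_eq_iff_eq_mul]
          exact h.symm
        rcases (hqker _).1 h1 with e | e
        · exact mul_inv_eq_iff_eq_mul.1 (mul_inv_eq_one.1 e)
        · exfalso
          have h' : (c : G) * S.φ d * (c : G)⁻¹ = S.φ tP * S.φ d := mul_inv_eq_iff_eq_mul.1 e
          have hc3 : ((c : G) * S.φ d * (c : G)⁻¹) ^ 3 = 1 := by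
            rw [conj_pow, ← map_pow, (InD_three d hd).1, map_one]; group
          rw [h', ← map_mul, ← map_pow, (show Commute tP d from (InD_three d hd).2.2.2.symm).mul_pow,
            (InD_three d hd).1, mul_one, pow_succ, pow_two, tsq, one_mul] at hc3
          exact tne (S.inj (hc3.trans (map_one _).symm))
      obtain ⟨x, hx, hce⟩ := S.cent_zw (hfix zP (Or.inr (Or.inl rfl)))
        (hfix wP (Or.inr (Or.inr (Or.inr (Or.inl rfl)))))
      rcases hx with hx | hx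
      · exact ⟨⟨x, hx⟩, congrArg q (Subtype.ext hce.symm)⟩
      · refine ⟨⟨x * tP, hx⟩, (inv_mul_eq_one.1 ?_).symm⟩
        show (q c)⁻¹ * q (φC ⟨x * tP, hx⟩) = 1
        rw [← map_inv, ← map_mul, hqker]
        refine Or.inr ?_
        show (c : G)⁻¹ * S.φ (x * tP) = S.φ tP
        rw [hce, map_mul, inv_mul_cancel_left]
    · rintro _ ⟨a, rfl⟩
      rw [mem_centralizer_iff]
      rintro _ ⟨b, rfl⟩
      rw [← map_mul, ← map_mul]
      exact congrArg (q.comp φC) (Subtype.ext ((InC_comm a.1 b.1 (Or.inl a.2) b.2)))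
  -- the automizer
  have hNt : ∀ g : G, (∀ d, InD d → ∃ e, InD e ∧ g * S.φ d * g⁻¹ = S.φ e) → g ∈ C := by
    intro g hg
    rw [memC]
    obtain ⟨x, hx, e | e⟩ := S.norm_D hg <;> rw [e]
    · exact S.φ_comm (InN_t x hx)
    · exact ((show Commute S.n _ from S.n_comm_t).mul_left
        (show Commute (S.φ x) _ from S.φ_comm (InN_t x hx))).eq
  set NM := normalizer (D' : Set (C ⧸ Z)) with hNM
  set DN := D'.subgroupOf NM with hDN
  haveI : DN.Normal := by rw [hDN, hNM]; infer_instance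
  have nN : ∀ d, InD d → ∃ e, InD e ∧ S.n * S.φ d * S.n⁻¹ = S.φ e := S.n_norm
  have φN : ∀ x, InN x → ∀ d, InD d → ∃ e, InD e ∧ S.φ x * S.φ d * (S.φ x)⁻¹ = S.φ e :=
    fun x hx d hd => ⟨_, InN_conj x hx d hd, S.φ_conj x d⟩
  have mulN : ∀ g g' : G, (∀ d, InD d → ∃ e, InD e ∧ g * S.φ d * g⁻¹ = S.φ e) →
      (∀ d, InD d → ∃ e, InD e ∧ g' * S.φ d * g'⁻¹ = S.φ e) →
      ∀ d, InD d → ∃ e, InD e ∧ g * g' * S.φ d * (g * g')⁻¹ = S.φ e := by
    intro g g' h h' d hd
    obtain ⟨e, he, hee⟩ := h' d hd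
    obtain ⟨e', he', hee'⟩ := h e he
    exact ⟨e', he', by rw [← hee', ← hee]; group⟩
  let cls : G → NM ⧸ DN := fun g =>
    if hg : ∀ d, InD d → ∃ e, InD e ∧ g * S.φ d * g⁻¹ = S.φ e then
      QuotientGroup.mk' DN ⟨q ⟨g, hNt g hg⟩, hN ⟨g, hNt g hg⟩ hg⟩ else 1
  have cls_def : ∀ g hg, cls g = QuotientGroup.mk' DN ⟨q ⟨g, hNt g hg⟩, hN ⟨g, hNt g hg⟩ hg⟩ :=
    fun g hg => dif_pos hg
  have cls_mul : ∀ g g', (∀ d, InD d → ∃ e, InD e ∧ g * S.φ d * g⁻¹ = S.φ e) →
      (∀ d, InD d → ∃ e, InD e ∧ g' * S.φ d * g'⁻¹ = S.φ e) → cls g * cls g' = cls (g * g') := by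
    intro g g' hg hg'
    rw [cls_def g hg, cls_def g' hg', cls_def _ (mulN g g' hg hg'), ← map_mul]
    exact congrArg (QuotientGroup.mk' DN) (Subtype.ext ((map_mul q _ _).symm.trans (congrArg q (Subtype.ext rfl))))
  have cls_C : ∀ g, (∃ x, InC x ∧ g = S.φ x) → cls g = 1 := by
    rintro g ⟨x, hx, rfl⟩
    have hg : ∀ d, InD d → ∃ e, InD e ∧ S.φ x * S.φ d * (S.φ x)⁻¹ = S.φ e := φN x (InC_cases x hx).2.2
    rw [cls_def _ hg]
    refine (QuotientGroup.eq_one_iff _).2 (mem_subgroupOf.2 ?_)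
    show q ⟨S.φ x, hNt _ hg⟩ ∈ D'
    rcases hx with hx | hx
    · exact ⟨⟨x, hx⟩, congrArg q (Subtype.ext rfl)⟩
    · refine ⟨⟨x * tP, hx⟩, (inv_mul_eq_one.1 ?_).symm⟩
      show (q ⟨S.φ x, hNt _ hg⟩)⁻¹ * q (φC ⟨x * tP, hx⟩) = 1
      rw [← map_inv, ← map_mul, hqker]
      refine Or.inr ?_
      show (S.φ x)⁻¹ * S.φ (x * tP) = S.φ tP
      rw [map_mul, inv_mul_cancel_left]
  have hoff : ∀ g, (∀ d, InD d → ∃ e, InD e ∧ g * S.φ d * g⁻¹ = S.φ e) → cls g = 1 →
      ∃ x, InC x ∧ g = S.φ x := by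
    intro g hg h
    rw [cls_def g hg] at h
    obtain ⟨⟨d, hd⟩, hde⟩ := mem_subgroupOf.1 ((QuotientGroup.eq_one_iff _).1 h)
    have h1 : q ((φC ⟨d, hd⟩)⁻¹ * ⟨g, hNt g hg⟩) = 1 := by
      rw [map_mul, map_inv]; exact inv_mul_eq_one.2 hde
    rcases (hqker _).1 h1 with e | e
    · exact ⟨d, Or.inl hd, (inv_mul_eq_one.1 e).symm⟩
    · refine ⟨d * tP, Or.inr ?_, ?_⟩
      · rw [mul_assoc, tsq, mul_one]; exact hd
      · rw [map_mul]; exact inv_mul_eq_iff_eq_mul.1 e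
  obtain ⟨x2, hx2, hx2N, hx2C, hx2c⟩ : ∃ x2, S.n * S.φ a1P * S.n⁻¹ = S.φ x2 ∧ InN x2 ∧
      ¬ InC (x2 * a1P) ∧ InC (x2 * a2P) := by
    rcases S.n_a with h | h
    · exact ⟨_, h, a2N, a_not_C.1, by rw [a2sq]; exact a_not_C.2.2⟩
    · refine ⟨_, h, InN_mul_t a2P a2N, a_not_C.2.1, ?_⟩
      rw [mul_assoc, ← a2t, ← mul_assoc, a2sq, one_mul]; exact InD_closed.2.1
  have hx2sq : x2 * x2 = 1 := S.inj (by
    rw [map_mul, ← hx2, map_one]
    calc S.n * S.φ a1P * S.n⁻¹ * (S.n * S.φ a1P * S.n⁻¹) = S.n * S.φ (a1P * a1P) * S.n⁻¹ := by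
          rw [map_mul]; group
      _ = 1 := by rw [a1sq, map_one]; group)
  have hx2a : a1P * x2 = x2 * a1P := by
    rcases S.n_a with h | h <;> rw [S.inj (hx2.symm.trans h)]
    · exact a12
    · rw [← mul_assoc, a12, mul_assoc, a1t, ← mul_assoc]
  set N1 := cls S.n with hN1
  set A1 := cls (S.φ a1P) with hA1
  set A2 := cls (S.φ x2) with hA2
  have ha1' := φN _ a1N
  have hx2' := φN _ hx2N
  have hNN : N1 * N1 = 1 := by
    rw [hN1, cls_mul _ _ nN nN]; exact cls_C _ ⟨1, a_not_C.2.2, by rw [S.n_sq, map_one]⟩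
  have hAA : A1 * A1 = 1 := by
    rw [hA1, cls_mul _ _ ha1' ha1']; exact cls_C _ ⟨1, a_not_C.2.2, by rw [← map_mul, a1sq]⟩
  have hBB : A2 * A2 = 1 := by
    rw [hA2, cls_mul _ _ hx2' hx2']; exact cls_C _ ⟨1, a_not_C.2.2, by rw [← map_mul, hx2sq]⟩
  have hNA : N1 * A1 * N1 = A2 := by
    rw [hN1, hA1, hA2, cls_mul _ _ nN ha1', cls_mul _ _ (mulN _ _ nN ha1') nN, ← hx2, S.n_inv]
  have hAB : A1 * A2 = A2 * A1 := by
    rw [hA1, hA2, cls_mul _ _ ha1' hx2', cls_mul _ _ hx2' ha1', ← map_mul, ← map_mul, hx2a]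
  set Rr := N1 * A1 with hRr
  have hR2 : Rr ^ 2 = A2 * A1 := by rw [pow_two, ← hNA, hRr]; group
  have hR4 : Rr ^ 4 = 1 := by
    rw [show (4 : ℕ) = 2 * 2 by norm_num, pow_mul, hR2, pow_two,
      show A2 * A1 * (A2 * A1) = A2 * (A1 * A2) * A1 by group, hAB,
      show A2 * (A2 * A1) * A1 = (A2 * A2) * (A1 * A1) by group, hBB, hAA, one_mul]
  have hinvR : N1 * Rr * N1⁻¹ = Rr⁻¹ := by
    rw [hRr, mul_inv_rev, inv_eq_of_mul_eq_one_right hAA, inv_eq_of_mul_eq_one_right hNN,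
      ← mul_assoc, hNN, one_mul]
  let F := TwoGroups.Recognition.dihedralHom hR4 hNN hinvR
  have hFr : F (DihedralGroup.r 1) = Rr := TwoGroups.Recognition.powZ_one hR4
  have hFs : F (DihedralGroup.sr 0) = N1 := by
    show N1 * TwoGroups.Recognition.powZ 4 Rr 0 = N1
    rw [TwoGroups.Recognition.powZ_zero, mul_one]
  have hFA1 : A1 = F (DihedralGroup.sr 0 * DihedralGroup.r 1) := by
    rw [map_mul, hFs, hFr, hRr, ← mul_assoc, hNN, one_mul]
  have hFA2 : A2 = F (DihedralGroup.r 1 * DihedralGroup.sr 0) := by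
    rw [map_mul, hFs, hFr, hRr, hNA]
  have hFsurj : Function.Surjective F := by
    intro w
    obtain ⟨⟨c', hc'⟩, rfl⟩ := QuotientGroup.mk'_surjective DN w
    obtain ⟨c, rfl⟩ := QuotientGroup.mk'_surjective Z c'
    have hc := hN' c hc'
    rw [show QuotientGroup.mk' DN ⟨q c, hc'⟩ = cls (c : G) from (cls_def _ hc).symm]
    suffices hh : cls (c : G) ∈ F.range from hh
    obtain ⟨x, hx, hcx⟩ := S.norm_D hc
    have base : ∀ x, InN x → cls (S.φ x) ∈ F.range := by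
      intro x hx
      have step : ∀ y, InN y → InC (x * y) → cls (S.φ y) ∈ F.range → cls (S.φ x) ∈ F.range := by
        intro y hy hxy hm
        have h1 : cls (S.φ x) * cls (S.φ y) = 1 := by
          rw [cls_mul _ _ (φN x hx) (φN y hy)]; exact cls_C _ ⟨_, hxy, (map_mul _ _ _).symm⟩
        rw [eq_inv_of_mul_eq_one_left h1]
        exact inv_mem hm
      have e : cls (S.φ x2) * cls (S.φ a2P) = 1 := by
        rw [cls_mul _ _ hx2' (φN _ a2N)]; exact cls_C _ ⟨_, hx2c, (map_mul _ _ _).symm⟩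
      have hm2 : cls (S.φ a2P) ∈ F.range := by
        rw [eq_inv_of_mul_eq_one_right e]
        exact inv_mem ⟨_, hFA2.symm⟩
      rcases InN_cases x hx with h | h | h | h
      · rw [cls_C _ ⟨x, h, rfl⟩]; exact one_mem _
      · exact step _ a1N h ⟨_, hFA1.symm⟩
      · exact step _ a2N h hm2
      · refine step _ conj_elts.2.2.2.1 h ?_
        rw [map_mul, ← cls_mul _ _ ha1' (φN _ a2N)]
        exact mul_mem ⟨_, hFA1.symm⟩ hm2
    rcases hcx with hcx | hcx
    · rw [hcx]; exact base x hx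
    · rw [hcx, ← cls_mul _ _ nN (φN x hx)]
      exact mul_mem ⟨_, hFs⟩ (base x hx)
  have hFinj : Function.Injective F := by
    rw [← MonoidHom.ker_eq_bot_iff, eq_bot_iff_forall]
    intro x hx
    by_contra hx1
    have h2 : DihedralGroup.r 2 ∈ F.ker := by
      rcases d8_normal x hx1 with e | e | e <;> rw [← e]
      · exact hx
      · exact mul_mem hx hx
      · exact mul_mem (F.normal_ker.conj_mem x hx _) (inv_mem hx)
    rw [MonoidHom.mem_ker, show (DihedralGroup.r 2 : DihedralGroup 4) = DihedralGroup.r 1 ^ 2 by decide,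
      map_pow, hFr, hR2, hA2, hA1, cls_mul _ _ hx2' ha1'] at h2
    obtain ⟨y, hy, hye⟩ := hoff _ (mulN _ _ hx2' ha1') h2
    rw [← map_mul] at hye
    exact hx2C (S.inj hye ▸ hy)
  let eN := (MulEquiv.ofBijective F ⟨hFinj, hFsurj⟩).symm
  have hcent : ∀ x ∈ D', x ≠ 1 → centralizer ({x} : Set (C ⧸ Z)) ≤ normalizer (D' : Set (C ⧸ Z)) := by
    rintro w ⟨⟨d, hd⟩, rfl⟩ hne c' hc'
    obtain ⟨c, rfl⟩ := QuotientGroup.mk'_surjective Z c'
    refine hN c ?_
    have hd1 : d ≠ 1 := fun e => hne (by rw [show (⟨d, hd⟩ : Dp) = 1 from Subtype.ext e, map_one])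
    have h1 : (c : G) * S.φ d = S.φ d * c := by
      have h := mem_centralizer_singleton_iff.1 hc'
      have h1 : q (c * φC ⟨d, hd⟩ * c⁻¹ * (φC ⟨d, hd⟩)⁻¹) = 1 := by
        rw [map_mul, map_mul, map_mul, map_inv, map_inv, mul_inv_eq_one, mul_inv_eq_iff_eq_mul]
        exact h
      rcases (hqker _).1 h1 with e | e
      · exact mul_inv_eq_iff_eq_mul.1 (mul_inv_eq_one.1 e)
      · exfalso
        have h' : (c : G) * S.φ d * (c : G)⁻¹ = S.φ tP * S.φ d := mul_inv_eq_iff_eq_mul.1 e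
        have hc3 : ((c : G) * S.φ d * (c : G)⁻¹) ^ 3 = 1 := by
          rw [conj_pow, ← map_pow, (InD_three d hd).1, map_one]; group
        rw [h', ← map_mul, ← map_pow, (show Commute tP d from (InD_three d hd).2.2.2.symm).mul_pow,
          (InD_three d hd).1, mul_one, pow_succ, pow_two, tsq, one_mul] at hc3
        exact tne (S.inj (hc3.trans (map_one _).symm))
    obtain ⟨k, hk, hkD, hkD', hkd⟩ := S.std_line hd hd1
    set g := k * (c : G) * k⁻¹ with hgdef
    have hgt : g * S.φ tP = S.φ tP * g := by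
      exact (((show Commute k _ from hk).mul_left (show Commute (c : G) _ from (memC _).1 c.2)).mul_left
        (show Commute k _ from hk).inv_left).eq
    have hgN : ∀ x, InD x → ∃ e, InD e ∧ g * S.φ x * g⁻¹ = S.φ e := by
      have hgc : g * (k * S.φ d * k⁻¹) = (k * S.φ d * k⁻¹) * g := by
        calc g * (k * S.φ d * k⁻¹) = k * ((c : G) * S.φ d) * k⁻¹ := by rw [hgdef]; group
          _ = k * (S.φ d * c) * k⁻¹ := by rw [h1]
          _ = _ := by rw [hgdef]; group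
      have toD : ∀ x : Pr, InN x → ∀ y, InD y → ∃ e, InD e ∧ S.φ x * S.φ y * (S.φ x)⁻¹ = S.φ e :=
        fun x hx y hy => ⟨_, InN_conj x hx y hy, S.φ_conj x y⟩
      rcases hkd with e | e <;> rw [e] at hgc
      · obtain ⟨x, hxz, hgx⟩ := S.cent_z' hgc
        rw [hgx] at hgt ⊢
        exact toD x (cent_zt x hxz (S.inj (by rw [map_mul, map_mul]; exact hgt)))
      · obtain ⟨x, hx, hgx⟩ := S.cent_diag hgc
        intro y hy
        obtain ⟨e', he', hee⟩ := toD x (InC_cases x hx).2.2 y hy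
        rcases hgx with hgx | hgx <;> rw [hgx]
        · exact ⟨e', he', hee⟩
        · obtain ⟨e'', he'', hee'⟩ := S.n_norm e' he'
          exact ⟨e'', he'', by rw [← hee', ← hee]; group⟩
    intro x hx
    obtain ⟨x1, hx1, hxe1⟩ := hkD x hx
    obtain ⟨x2, hx2, hxe2⟩ := hgN x1 hx1
    obtain ⟨x3, hx3, hxe3⟩ := hkD' x2 hx2
    refine ⟨x3, hx3, ?_⟩
    rw [← hxe3, ← hxe2, ← hxe1, hgdef]
    group
  rcases Cfsg.Agent.S3333.result P D' hDP hD9 hCD eN hcent with h | h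
  · left
    intro g hg d hd
    exact hN' ⟨g, (memC g).2 hg⟩ (by
      haveI := h
      show q _ ∈ normalizer (D' : Set (C ⧸ Z))
      rw [normalizer_eq_top]; exact mem_top _) d hd
  · right
    obtain ⟨e⟩ := h
    exact ⟨e.toMonoidHom.comp q, e.surjective.comp (QuotientGroup.mk'_surjective Z), fun c =>
      (map_eq_one_iff e e.injective).trans (hqker c)⟩

end Data8

end Cfsg.Agent.Lib.EightThree88.Sym
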