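import Cfsg.Agent.Lib.EightThree88.SymModel
import Cfsg.Agent.Lib.EightThree88.ModelLocal

/-!
# Facts in `S₈` for the symmetric case

helper1, for helper88's S3330.
-/

set_option autoImplicit false
set_option maxRecDepth 100000
set_option synthInstance.maxSize 2000
set_option synthInstance.maxHeartbeats 400000

namespace Cfsg.Agent.Lib.EightThree88.Sym

open Equiv Model

/-- The four transpositions spanning the base group. -/
def baseList : List P8 := [swap 0 1, swap 2 3, swap 4 5, swap 6 7]

/-- The elements of the base group. -/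
def baseAll : List P8 :=
  [1, swap 0 1, swap 2 3, swap 0 1 * swap 2 3, swap 4 5, swap 0 1 * swap 4 5, swap 2 3 * swap 4 5,
    swap 0 1 * swap 2 3 * swap 4 5].flatMap fun p => [p, p * swap 6 7]

theorem baseAll_chk : baseAll.length ≤ 16 ∧ (baseAll.all fun x => decide (x * x = 1)) = true ∧
    (baseList.all fun b => baseList.all fun c => decide (b * c = c * b)) = true ∧ iota a2P ∈ baseList ∧
    (baseList.all fun b => decide (Perm.sign b = -1)) = true := by decide +kernel

theorem baseAll_ok : baseAll.length ≤ 16 ∧ (∀ x ∈ baseAll, x * x = 1) ∧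
    (∀ b ∈ baseList, ∀ c ∈ baseList, b * c = c * b) ∧ iota a2P ∈ baseList := by
  obtain ⟨h1, h2, h3, h4, -⟩ := baseAll_chk
  exact ⟨h1, fun x hx => of_decide_eq_true (List.all_eq_true.1 h2 x hx),
    fun b hb c hc => of_decide_eq_true (List.all_eq_true.1 (List.all_eq_true.1 h3 b hb) c hc), h4⟩

theorem base_sign : ∀ b ∈ baseList, Perm.sign b = -1 := fun b hb =>
  of_decide_eq_true (List.all_eq_true.1 baseAll_chk.2.2.2.2 b hb)

theorem swap_in_two_group : ∀ a b : Fin 8, a ≠ b → swap a b ∈ baseList ∨
    ∃ β ∈ baseList, (β * swap a b) ^ 3 = 1 ∧ β * swap a b ≠ 1 := by decide +kernel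

theorem sigma_type : iota dP ^ 2 = 1 ∧ sigma ^ 2 = 1 ∧ (sigma * iota tP) ^ 2 = 1 ∧ iota tP ^ 2 = 1 ∧
    (iota dP).support.card = 4 ∧ sigma.support.card = 8 ∧ (sigma * iota tP).support.card = 6 ∧
    (iota tP).support.card = 2 := by decide +kernel

theorem sigma_even : Perm.sign sigma = 1 ∧ Perm.sign (iota tP) = -1 ∧ Perm.sign (iota dP) = 1 := by
  decide +kernel

theorem sign_iota : ∀ x : Pr, Perm.sign (iota x) = parity x := by decide +kernel

theorem parity_tP : parity tP = -1 := by decide +kernel

theorem InC_even : ∀ x : Pr, InC x → parity x = 1 →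
    InD x := by decide +kernel

theorem InD_parity : ∀ x : Pr, InD x → parity x = 1 := by decide +kernel

theorem InD_K : ∀ x : K, InD (x : Pr) → Model.InD x := by decide +kernel

theorem K_InD : ∀ x : K, Model.InD x → InD (x : Pr) := by decide +kernel

theorem zK_val : ((zK : K) : Pr) = zP ∧ ((wK : K) : Pr) = wP := by decide +kernel

theorem card_cent_zK : (Finset.univ.filter fun x : K => x * zK = zK * x).card = 180 := by decide +kernel

theorem swap_eq (x y a b : Fin 8) (_ : x ≠ y) (hab : a ≠ b) (e : swap x y = swap a b) :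
    (x = a ∧ y = b) ∨ (x = b ∧ y = a) := by
  have ha : swap x y a = b := by rw [e]; exact swap_apply_left a b
  rw [swap_apply_def] at ha
  split_ifs at ha with h1 h2
  · exact Or.inl ⟨h1.symm, ha⟩
  · exact Or.inr ⟨ha, h2.symm⟩
  · exact absurd ha hab

/-- Elements commuting with a transposition preserve or exchange its two points. -/
theorem fix_or_swap {p : P8} {a b : Fin 8} (h : p * swap a b = swap a b * p) (hab : a ≠ b) :
    (p a = a ∧ p b = b) ∨ (p a = b ∧ p b = a) := by
  have e : swap (p a) (p b) = swap a b := by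
    rw [swap_apply_apply, h, mul_inv_cancel_right]
  have hne : p a ≠ p b := fun h => hab (p.injective h)
  exact swap_eq _ _ _ _ hne hab e

theorem of_bits : ∀ c0 c1 c2 c3 : Bool, ∃ q ∈ baseAll,
    q 0 = (if c0 then 1 else 0) ∧ q 1 = (if c0 then 0 else 1) ∧
    q 2 = (if c1 then 3 else 2) ∧ q 3 = (if c1 then 2 else 3) ∧
    q 4 = (if c2 then 5 else 4) ∧ q 5 = (if c2 then 4 else 5) ∧
    q 6 = (if c3 then 7 else 6) ∧ q 7 = (if c3 then 6 else 7) := by decide +kernel

/-- The base group is self-centralising. -/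
theorem base_selfcent {p : P8} (h : ∀ b ∈ baseList, p * b = b * p) : p ∈ baseAll := by
  have key : ∀ a b : Fin 8, swap a b ∈ baseList → a ≠ b →
      ∃ c : Bool, p a = (if c then b else a) ∧ p b = (if c then a else b) := by
    intro a b hm hab
    rcases fix_or_swap (h _ hm) hab with e | e
    · exact ⟨false, by simpa using e⟩
    · exact ⟨true, by simpa using e⟩
  obtain ⟨c0, h0, h1⟩ := key 0 1 (by simp [baseList]) (by decide)
  obtain ⟨c1, h2, h3⟩ := key 2 3 (by simp [baseList]) (by decide)
  obtain ⟨c2, h4, h5⟩ := key 4 5 (by simp [baseList]) (by decide)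
  obtain ⟨c3, h6, h7⟩ := key 6 7 (by simp [baseList]) (by decide)
  obtain ⟨q, hq, q0, q1, q2, q3, q4, q5, q6, q7⟩ := of_bits c0 c1 c2 c3
  rw [show p = q from Equiv.ext fun i => by fin_cases i <;> simp_all]
  exact hq

/-- The classes of involutions. -/
theorem invol_class_eight {p : P8} (h2 : p * p = 1) (h1 : p ≠ 1) :
    IsConj (iota tP) p ∨ IsConj (iota dP) p ∨ IsConj (sigma * iota tP) p ∨ IsConj sigma p := by
  haveI : Fact (Nat.Prime 2) := ⟨Nat.prime_two⟩
  have key : ∀ q : P8, q ^ 2 = 1 → q.support.card = p.support.card → IsConj q p := by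
    intro q hq hc
    rw [Perm.isConj_iff_cycleType_eq, Perm.cycleType_of_pow_prime_eq_one hq,
      Perm.cycleType_of_pow_prime_eq_one (show p ^ 2 = 1 by rw [pow_two, h2])]
    have e1 := Perm.sum_cycleType q
    have e2 := Perm.sum_cycleType p
    rw [Perm.cycleType_of_pow_prime_eq_one hq, Multiset.sum_replicate, smul_eq_mul] at e1
    rw [Perm.cycleType_of_pow_prime_eq_one (show p ^ 2 = 1 by rw [pow_two, h2]), Multiset.sum_replicate,
      smul_eq_mul] at e2
    congr 1
    omega
  have e2 := Perm.sum_cycleType p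
  rw [Perm.cycleType_of_pow_prime_eq_one (show p ^ 2 = 1 by rw [pow_two, h2]), Multiset.sum_replicate,
    smul_eq_mul] at e2
  have h8 : p.support.card ≤ 8 := (Finset.card_le_univ _).trans (by simp)
  have h0 : p.support.card ≠ 0 := fun h => h1 (Perm.support_eq_empty_iff.1 (Finset.card_eq_zero.1 h))
  obtain ⟨d2, s2, st2, t2, dc, sc, stc, tc⟩ := sigma_type
  rcases (show p.support.card = 2 ∨ p.support.card = 4 ∨ p.support.card = 6 ∨ p.support.card = 8 by omega) with
    e | e | e | e
  · exact Or.inl (key _ t2 (tc.trans e.symm))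
  · exact Or.inr (Or.inl (key _ d2 (dc.trans e.symm)))
  · exact Or.inr (Or.inr (Or.inl (key _ st2 (stc.trans e.symm))))
  · exact Or.inr (Or.inr (Or.inr (key _ s2 (sc.trans e.symm))))

theorem card_cent_transposition : Nat.card (Subgroup.centralizer ({iota tP} : Set P8)) = 1440 := by
  classical
  haveI : Fact (Nat.Prime 2) := ⟨Nat.prime_two⟩
  obtain ⟨-, -, -, t2, -, -, -, tc⟩ := sigma_type
  have hct := Perm.cycleType_of_pow_prime_eq_one t2
  have hc := Perm.sum_cycleType (iota tP)
  rw [hct, Multiset.sum_replicate, smul_eq_mul, tc] at hc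
  have hc1 : (iota tP).cycleType.card = 1 := by omega
  rw [hc1] at hct
  rw [Equiv.Perm.nat_card_centralizer, hct]
  simp [Nat.factorial]

end Cfsg.Agent.Lib.EightThree88.Sym
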