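import Cfsg.Agent.Lib.EightThree88.SymBase
import Cfsg.Agent.Lib.EightThree88.SymEightModel
import Cfsg.Agent.Lib.EightThree88.Core
import Cfsg.Agent.Lib.Fusion.Thompson

/-!
# The symmetric group of degree eight from the embedded copy

helper1, for helper88's S3330.  The copy contains a Sylow 2-subgroup, the transfer of a transposition by
the sign gives a subgroup of index two, and that subgroup satisfies the data of the alternating group.
-/

set_option autoImplicit false
set_option maxHeartbeats 1600000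
set_option maxRecDepth 100000
set_option synthInstance.maxSize 2000
set_option synthInstance.maxHeartbeats 400000
set_option linter.style.haveILetI false

namespace Cfsg.Agent.Lib.EightThree88.Sym

open Subgroup Model

universe u

variable {G : Type u} [Group G] [Finite G]

theorem f_conj {f : P8 →* G} {p q : P8} (h : IsConj p q) : IsConj (f p) (f q) := f.map_isConj h

/-- The centraliser of the transposition lies in the copy. -/
theorem cent_t_le {f : P8 →* G} (hf : Function.Injective f) {t0 : G} (ht0 : f (iota tP) = t0)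
    (π : centralizer ({t0} : Set G) →* Equiv.Perm (Fin 6)) (hsurj : Function.Surjective π)
    (hker : ∀ c, π c = 1 ↔ (c : G) = 1 ∨ (c : G) = t0) {g : G}
    (hg : g * f (iota tP) = f (iota tP) * g) :
    ∃ p : P8, p * iota tP = iota tP * p ∧ f p = g := by
  subst ht0
  classical
  let C := centralizer ({iota tP} : Set P8)
  let r : C →* centralizer ({f (iota tP)} : Set G) := (f.comp C.subtype).codRestrict _ fun x => by
    rw [mem_centralizer_singleton_iff]
    show f x.1 * f (iota tP) = f (iota tP) * f x.1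
    rw [← map_mul, ← map_mul, mem_centralizer_singleton_iff.1 x.2]
  have hk : Nat.card (π.comp r).ker ≤ 2 := by
    let t : C := ⟨iota tP, mem_centralizer_singleton_iff.2 rfl⟩
    have hle : ((π.comp r).ker : Set C) ⊆ {1, t} := by
      intro x hx
      rcases (hker (r x)).1 hx with e | e
      · exact Or.inl (Subtype.ext (hf (e.trans (map_one f).symm)))
      · exact Or.inr (Subtype.ext (hf e))
    have := Set.ncard_le_ncard hle (Set.toFinite _)
    exact this.trans (Set.ncard_insert_le _ _ |>.trans (by simp))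
  have hr : Function.Surjective (π.comp r) := by
    rw [← MonoidHom.range_eq_top]
    refine eq_top_of_card_eq _ (le_antisymm (card_le_card_group _) ?_)
    have h1 := (π.comp r).ker.card_mul_index
    rw [index_ker, show Nat.card C = 1440 from card_cent_transposition] at h1
    rw [Nat.card_perm, Nat.card_fin, show Nat.factorial 6 = 720 from rfl]
    nlinarith [Nat.mul_le_mul_right (Nat.card (π.comp r).range) hk]
  have hgm : g ∈ centralizer ({f (iota tP)} : Set G) := mem_centralizer_singleton_iff.2 hg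
  obtain ⟨x, hx⟩ := hr (π ⟨g, hgm⟩)
  have hdiff : π ((r x)⁻¹ * ⟨g, hgm⟩) = 1 := by
    rw [map_mul, map_inv, ← hx]
    exact inv_mul_cancel _
  have hxc := mem_centralizer_singleton_iff.1 x.2
  rcases (hker _).1 hdiff with e | e
  · exact ⟨x.1, hxc, inv_mul_eq_one.1 e⟩
  · refine ⟨x.1 * iota tP, by rw [hxc, mul_assoc, hxc], ?_⟩
    rw [map_mul]
    exact (inv_mul_eq_iff_eq_mul.1 e).symm

/-- The centraliser of the base group is itself. -/
theorem cent_base {f : P8 →* G} (hf : Function.Injective f)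
    (hC : ∀ g, g * f (iota tP) = f (iota tP) * g → ∃ p : P8, p * iota tP = iota tP * p ∧ f p = g)
    {g : G} (hg : ∀ b ∈ baseList, g * f b = f b * g) : ∃ p ∈ baseAll, f p = g := by
  obtain ⟨-, -, -, hb⟩ := baseAll_ok
  obtain ⟨c, hc⟩ : IsConj (iota a2P) (iota tP) := by
    obtain ⟨k, hk, -, -⟩ := a2_conj_t
    exact (iota.map_isConj (isConj_iff.2 ⟨k, hk⟩)).symm
  have hcu : (c : P8) * iota a2P * (c : P8)⁻¹ = iota tP := mul_inv_eq_iff_eq_mul.2 hc
  set c0 := (c : P8)
  have h1 : f c0 * g * (f c0)⁻¹ * f (iota tP) = f (iota tP) * (f c0 * g * (f c0)⁻¹) := by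
    rw [← hcu, map_mul, map_mul, map_inv]
    calc f c0 * g * (f c0)⁻¹ * (f c0 * f (iota a2P) * (f c0)⁻¹) = f c0 * (g * f (iota a2P)) * (f c0)⁻¹ := by group
      _ = _ := by rw [hg _ hb]; group
  obtain ⟨p, -, hp⟩ := hC _ h1
  have hgp : f (c0⁻¹ * p * c0) = g := by rw [map_mul, map_mul, map_inv, hp]; group
  refine ⟨_, base_selfcent fun b hb' => hf ?_, hgp⟩
  rw [map_mul f _ b, map_mul f b _, hgp]
  exact hg b hb'

/-- The data for the subgroup of index two give the alternating group. -/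
theorem card_index_two (S : Data8 G) {f : P8 →* G}
    (hfi : ∀ x : Pr, f (iota x) = S.φ x) (hfn : f sigma = S.n)
    (hzw : ∀ g, g * S.φ zP = S.φ zP * g → g * S.φ wP = S.φ wP * g → ∃ x, InC x ∧ g = S.φ x)
    (χ : G →* ℤˣ) (hχ : ∀ p, χ (f p) = Equiv.Perm.sign p) : Nat.card G = 40320 := by
  classical
  set M := χ.ker with hM
  have hφχ : ∀ x : Pr, χ (S.φ x) = parity x := fun x => by rw [← hfi, hχ, sign_iota]
  have hmemK : ∀ x : Pr, S.φ x ∈ M ↔ x ∈ K := fun x => by
    rw [hM, MonoidHom.mem_ker, hφχ]; rfl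
  let ψ : K →* M := (S.φ.comp K.subtype).codRestrict M fun x => (hmemK x.1).2 x.2
  have ψv : ∀ x : K, ((ψ x : M) : G) = S.φ x.1 := fun x => rfl
  have hψinj : Function.Injective ψ := fun a b e => Subtype.ext (S.inj (congrArg Subtype.val e))
  obtain ⟨hzv, hwv⟩ := zK_val
  have ht : χ (S.φ tP) = -1 := by rw [hφχ, parity_tP]
  have htM : S.φ tP ∉ M := fun h => by
    rw [hM, MonoidHom.mem_ker, ht] at h
    exact absurd h (by decide)
  have hidx : M.index = 2 := by
    rw [hM, index_ker, MonoidHom.range_eq_top.2 fun z => ?_, card_top, Nat.card_eq_fintype_card, Fintype.card_units_int]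
    rcases Int.units_eq_one_or z with rfl | rfl
    · exact ⟨1, map_one χ⟩
    · exact ⟨_, ht⟩
  have hnorm : ψ.range = normalizer ((zpowers (ψ zK) : Subgroup M) : Set M) := by
    have hiff : ∀ g : M, g ∈ normalizer ((zpowers (ψ zK) : Subgroup M) : Set M) ↔
        (g : G) ∈ normalizer ((zpowers (S.φ zP) : Subgroup G) : Set G) := by
      intro g
      rw [mem_normalizer_iff_map_conj_eq, mem_normalizer_iff_map_conj_eq, MonoidHom.map_zpowers,
        MonoidHom.map_zpowers]
      rw [← Subgroup.map_injective M.subtype_injective |>.eq_iff, MonoidHom.map_zpowers, MonoidHom.map_zpowers]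
      show zpowers ((g : G) * S.φ ((zK : K) : Pr) * (g : G)⁻¹) = zpowers (S.φ ((zK : K) : Pr)) ↔ _
      rw [hzv]
      rfl
    ext g
    rw [hiff, ← S.norm]
    constructor
    · rintro ⟨x, rfl⟩; exact ⟨x.1, rfl⟩
    · rintro ⟨x, hx⟩
      exact ⟨⟨x, (hmemK x).1 (hx ▸ g.2)⟩, Subtype.ext hx⟩
  have hnM : S.n ∈ M := by rw [hM, MonoidHom.mem_ker, ← hfn, hχ, sigma_even.1]
  have hswap : ∀ x x' : K, Sw x x' → (⟨S.n, hnM⟩ : M) * ψ x * (⟨S.n, hnM⟩ : M)⁻¹ = ψ x' := by
    intro x x' h
    refine Subtype.ext ?_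
    show S.n * S.φ x.1 * S.n⁻¹ = S.φ x'.1
    rw [← hfi x.1, ← hfi x'.1, ← h, map_mul, map_mul, hfn, inv_eq_of_mul_eq_one_right S.n_sq]
  have hself : ∀ g : M, g * ψ zK = ψ zK * g → g * ψ wK = ψ wK * g → ∃ x, Model.InD x ∧ g = ψ x := by
    intro g h1 h2
    have e1 : (g : G) * S.φ zP = S.φ zP * g := hzv ▸ congrArg Subtype.val h1
    have e2 : (g : G) * S.φ wP = S.φ wP * g := hwv ▸ congrArg Subtype.val h2
    obtain ⟨x, hx, hgx⟩ := hzw _ e1 e2
    have hxK : x ∈ K := (hmemK x).1 (hgx ▸ g.2)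
    exact ⟨⟨x, hxK⟩, InD_K ⟨x, hxK⟩ (InC_even x hx hxK), Subtype.ext hgx⟩
  have hsyl : ∀ Q : Subgroup M, IsPGroup 3 Q → Nat.card Q ≤ 9 := fun Q hQ => by
    have := S.sylow (Q.map M.subtype) (hQ.map _)
    rwa [card_map_of_injective M.subtype_injective] at this
  have hsconj : ∀ Q : Subgroup M, IsPGroup 3 Q → Nat.card Q = 9 →
      ∃ h : M, ∀ x : K, Model.InD x → h * ψ x * h⁻¹ ∈ Q := by
    intro Q hQ hc
    obtain ⟨h, hh⟩ := S.sylow_conj (Q.map M.subtype) (hQ.map _)
      (by rw [card_map_of_injective M.subtype_injective, hc])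
    obtain ⟨h', hh'M, hh'⟩ : ∃ h' ∈ M, ∀ x : Pr, InD x → h' * S.φ x * h'⁻¹ = h * S.φ x * h⁻¹ := by
      by_cases hm : h ∈ M
      · exact ⟨h, hm, fun _ _ => rfl⟩
      · refine ⟨h * S.φ tP, (M.mul_mem_iff_of_index_two hidx).2 (iff_of_false hm htM), fun x hx => ?_⟩
        have e : S.φ tP * S.φ x * (S.φ tP)⁻¹ = S.φ x := by
          rw [← map_mul, ← (InD_three x hx).2.2.2, map_mul, mul_inv_cancel_right]
        calc h * S.φ tP * S.φ x * (h * S.φ tP)⁻¹ = h * (S.φ tP * S.φ x * (S.φ tP)⁻¹) * h⁻¹ := by group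
          _ = _ := by rw [e]
    refine ⟨⟨h', hh'M⟩, fun x hx => ?_⟩
    obtain ⟨q, hq, e⟩ := hh x.1 (K_InD x hx)
    rwa [show (⟨h', hh'M⟩ : M) * ψ x * (⟨h', hh'M⟩ : M)⁻¹ = q from
      Subtype.ext (((hh' x.1 (K_InD x hx))).trans e.symm)]
  have hcz : Nat.card (centralizer ({ψ zK} : Set M)) = 180 := by
    rw [← card_cent_zK, ← Nat.card_eq_finsetCard]
    symm
    refine Nat.card_eq_of_bijective (fun x : {x // x ∈ Finset.univ.filter fun x : K => x * zK = zK * x} =>
      (⟨ψ x.1, mem_centralizer_singleton_iff.2 (by rw [← map_mul, ← map_mul, (Finset.mem_filter.1 x.2).2])⟩ :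
        centralizer ({ψ zK} : Set M))) ⟨fun a b e => Subtype.ext (hψinj (congrArg Subtype.val e)), ?_⟩
    rintro ⟨g, hg⟩
    rw [mem_centralizer_singleton_iff] at hg
    have hgn : g ∈ ψ.range := by
      rw [hnorm, mem_normalizer_iff_map_conj_eq, MonoidHom.map_zpowers]
      show zpowers (g * ψ zK * g⁻¹) = zpowers (ψ zK)
      rw [hg, mul_inv_cancel_right]
    obtain ⟨x, rfl⟩ := hgn
    exact ⟨⟨x, Finset.mem_filter.2 ⟨Finset.mem_univ _, hψinj (by rw [map_mul, map_mul, hg])⟩⟩, rfl⟩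
  have hcw : Nat.card (centralizer ({ψ (zK * wK)} : Set M)) = 18 := by
    set C := centralizer ({S.φ (zP * wP)} : Set G)
    have hv : ((ψ (zK * wK) : M) : G) = S.φ (zP * wP) := by
      rw [ψv, Subgroup.coe_mul, hzv, hwv]
    have htC : S.φ tP ∈ C := mem_centralizer_singleton_iff.2 (by
      rw [← map_mul, ← map_mul, (InD_three (zP * wP) (by simp [InD])).2.2.2])
    have e : Nat.card (M.subgroupOf C) = Nat.card (centralizer ({ψ (zK * wK)} : Set M)) := by
      refine Nat.card_congr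
        { toFun := fun a => ⟨⟨a.1.1, a.2⟩, mem_centralizer_singleton_iff.2 (Subtype.ext (by
            show a.1.1 * _ = _ * a.1.1
            rw [hv]; exact mem_centralizer_singleton_iff.1 a.1.2))⟩
          invFun := fun b => ⟨⟨b.1.1, mem_centralizer_singleton_iff.2 (by
            rw [← hv]; exact congrArg Subtype.val (mem_centralizer_singleton_iff.1 b.2))⟩, b.1.2⟩
          left_inv := fun a => rfl
          right_inv := fun b => rfl }
    have hi : (M.subgroupOf C).index = 2 := by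
      rw [index_eq_two_iff]
      refine ⟨⟨S.φ tP, htC⟩, fun b => ?_⟩
      simp only [mem_subgroupOf, Subgroup.coe_mul]
      by_cases hb : (b : G) ∈ M
      · exact Or.inr ⟨hb, fun h => htM ((M.mul_mem_cancel_left hb).1 h)⟩
      · exact Or.inl ⟨(M.mul_mem_iff_of_index_two hidx).2 (iff_of_false hb htM), hb⟩
    have h36 := (M.subgroupOf C).card_mul_index
    rw [hi, show Nat.card C = 36 from S.card_cy] at h36
    omega
  let D : EightThree88.Data M := ⟨ψ, hψinj, hnorm, ⟨S.n, hnM⟩, Subtype.ext S.n_sq, hswap, hself, hsyl,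
    hsconj, hcz, hcw⟩
  obtain ⟨E⟩ := exists_emb D
  have hcard : Nat.card M = 20160 := by
    rw [← Nat.card_eq_of_bijective E.f ⟨E.inj, E.surjective⟩, nat_card_alternatingGroup, Nat.card_fin]
    rfl
  rw [← M.card_mul_index, hcard, hidx]

/-- The copy of `S₈` is the whole group. -/
theorem sym_core (S : Data8 G) (π : centralizer ({S.φ tP} : Set G) →* Equiv.Perm (Fin 6))
    (hsurj : Function.Surjective π) (hker : ∀ c, π c = 1 ↔ (c : G) = 1 ∨ (c : G) = S.φ tP)
    (f : P8 →* G) (hf : Function.Injective f) (hfi : ∀ x : Pr, f (iota x) = S.φ x) (hfn : f sigma = S.n)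
    (hzw : ∀ g, g * S.φ zP = S.φ zP * g → g * S.φ wP = S.φ wP * g → ∃ x, InC x ∧ g = S.φ x)
    (hnd : ∀ g, g * S.φ dP * g⁻¹ ≠ S.φ tP) (hnn : ∀ g, g * S.n * g⁻¹ ≠ S.φ tP)
    (hnnt : ∀ g, g * (S.n * S.φ tP) * g⁻¹ ≠ S.φ tP) : Nonempty (G ≃* Equiv.Perm (Fin 8)) := by
  classical
  haveI : Fact (Nat.Prime 2) := ⟨Nat.prime_two⟩
  have hC : ∀ g, g * f (iota tP) = f (iota tP) * g → ∃ p : P8, p * iota tP = iota tP * p ∧ f p = g :=
    fun g hg => cent_t_le hf (hfi tP) π hsurj hker hg
  -- fusion of the transposition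
  have hconjt : ∀ p : P8, p * p = 1 → IsConj (f (iota tP)) (f p) → IsConj (iota tP) p := by
    intro p h2 hc
    have h1 : p ≠ 1 := by
      rintro rfl
      rw [map_one] at hc
      obtain ⟨c, hc⟩ := isConj_iff.1 hc
      rw [conj_eq_one_iff] at hc
      exact a_facts.2.2.2.2.2.2.2.2.2.2.2.2.2.2.2.2.2.2.1 (iota_injective (hf (hc.trans (by simp))))
    have bad : ∀ q : P8, (∀ g, g * f q * g⁻¹ ≠ S.φ tP) → ¬ IsConj q p := by
      intro q hq hqp
      obtain ⟨g, hg⟩ := isConj_iff.1 ((f_conj (f := f) hqp).trans hc.symm)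
      exact hq g (hfi tP ▸ hg)
    rcases invol_class_eight h2 h1 with h | h | h | h
    · exact h
    · exact absurd h (bad _ (by rw [hfi]; exact hnd))
    · exact absurd h (bad _ (by rw [map_mul, hfi, hfn]; exact hnnt))
    · exact absurd h (bad _ (by rw [hfn]; exact hnn))
  -- a Sylow subgroup of the copy containing the base group
  obtain ⟨hlen, hsq, hcomm, hb2⟩ := baseAll_ok
  let B : Subgroup P8 := centralizer {b | b ∈ baseList}
  have hBmem : ∀ p ∈ B, p ∈ baseAll := fun p hp => base_selfcent fun b hb => (mem_centralizer_iff.1 hp b hb).symm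
  have hsub : ∀ b ∈ baseList, b ∈ B := fun b hb => mem_centralizer_iff.2 fun c hc => hcomm c hc b hb
  have hBp : IsPGroup 2 B := fun p => ⟨1, Subtype.ext (by
    show (p.1 : P8) ^ (2 ^ 1) = 1
    rw [pow_one, pow_two]; exact hsq _ (hBmem p.1 p.2))⟩
  obtain ⟨T, hT⟩ := hBp.exists_le_sylow
  have hT128 : Nat.card (T : Subgroup P8) = 128 := by
    rw [T.card_eq_multiplicity, Nat.card_perm, Nat.card_fin, show Nat.factorial 8 = 2 ^ 7 * 315 from rfl,
      Nat.factorization_mul (by norm_num) (by norm_num), Nat.factorization_pow]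
    simp [Nat.prime_two.factorization_self, Nat.factorization_eq_zero_of_not_dvd (show ¬ 2 ∣ 315 by norm_num)]
  set T' := (T : Subgroup P8).map f with hT'
  have hT'p : IsPGroup 2 T' := T.isPGroup'.map f
  have hT'card : Nat.card T' = 128 := by rw [hT', card_map_of_injective hf, hT128]
  have hmemT : ∀ g ∈ T', IsConj (f (iota tP)) g → ∃ b ∈ baseList, f b = g := by
    rintro _ ⟨p, hp, rfl⟩ hc
    have h2 : p * p = 1 := hf (by
      obtain ⟨c, hc'⟩ := isConj_iff.1 hc
      rw [map_mul, map_one, ← hc']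
      calc c * f (iota tP) * c⁻¹ * (c * f (iota tP) * c⁻¹) = c * (f (iota tP) * f (iota tP)) * c⁻¹ := by group
        _ = 1 := by rw [← map_mul, ← map_mul, a_facts.2.2.1, map_one, map_one]; group)
    obtain ⟨c, hc'⟩ := isConj_iff.1 (hconjt p h2 hc)
    rw [show iota tP = Equiv.swap 3 4 by decide +kernel, ← Equiv.swap_apply_apply] at hc'
    rcases swap_in_two_group _ _ (fun e => absurd (c.injective e) (by decide) : c 3 ≠ c 4) with h | ⟨β, hβ, h3, h1⟩
    · exact ⟨_, h, by rw [hc']⟩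
    · exfalso
      rw [hc'] at h3 h1
      have hm : β * p ∈ (T : Subgroup P8) := mul_mem (hT (hsub β hβ)) hp
      obtain ⟨k, hk⟩ := T.isPGroup' ⟨_, hm⟩
      have hk' : (β * p) ^ (2 ^ k) = 1 := congrArg Subtype.val hk
      have h3' := orderOf_dvd_of_pow_eq_one h3
      have hd := Nat.Coprime.eq_one_of_dvd (Nat.Coprime.coprime_dvd_left h3'
        ((Nat.coprime_primes Nat.prime_three Nat.prime_two).2 (by norm_num) |>.pow_right k))
        (orderOf_dvd_of_pow_eq_one hk')
      exact h1 (orderOf_eq_one_iff.1 hd)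
  have hconjbase : ∀ b ∈ baseList, IsConj (f (iota tP)) (f b) := fun b hb => f_conj (by
    simp only [baseList, List.mem_cons, List.not_mem_nil, or_false] at hb
    rw [show iota tP = Equiv.swap 3 4 by decide +kernel]
    rcases hb with rfl | rfl | rfl | rfl <;> exact Equiv.Perm.isConj_swap (by decide) (by decide))
  -- it is a Sylow subgroup
  obtain ⟨P, hP⟩ := hT'p.exists_le_sylow
  have hPeq : (P : Subgroup G) = T' := by
    by_contra hne
    have hdvd : 2 ^ (7 + 1) ∣ Nat.card (P : Subgroup G) := by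
      obtain ⟨k, hk⟩ := IsPGroup.iff_card.1 P.isPGroup'
      rw [hk]
      refine pow_dvd_pow 2 ?_
      have hlt : 2 ^ 7 < 2 ^ k := by
        rw [← hk, show (2 : ℕ) ^ 7 = 128 from rfl, ← hT'card]
        exact lt_of_le_of_ne (card_le_of_le hP) fun e => hne (eq_of_le_of_card_ge hP e.ge).symm
      exact (Nat.pow_lt_pow_iff_right (by norm_num)).1 hlt
    obtain ⟨Q, hQ, hle⟩ := Sylow.exists_subgroup_card_pow_succ (H := T'.subgroupOf (P : Subgroup G)) hdvd
      ((Nat.card_congr (subgroupOfEquivOfLe hP).toEquiv).trans hT'card)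
    set Q' := Q.map (P : Subgroup G).subtype with hQ'
    have hTQ : T' ≤ Q' := fun x hx => ⟨⟨x, hP hx⟩, hle hx, rfl⟩
    have hQ'card : Nat.card Q' = 256 := by rw [hQ', card_map_of_injective (P : Subgroup G).subtype_injective, hQ]; norm_num
    haveI hn : (T'.subgroupOf Q').Normal := by
      refine normal_of_index_eq_two ?_
      have h1 := (T'.subgroupOf Q').card_mul_index
      rw [Nat.card_congr (subgroupOfEquivOfLe hTQ).toEquiv, hT'card, hQ'card] at h1
      omega
    let X : Finset G := baseList.toFinset.image f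
    have hXmem : ∀ g, g ∈ X ↔ ∃ b ∈ baseList, f b = g := fun g => by simp [X]
    have hperm : ∀ q : Q', ∀ x : X, (q : G) * x.1 * (q : G)⁻¹ ∈ X := by
      intro q x
      obtain ⟨b, hb, hbe⟩ := (hXmem _).1 x.2
      have hxT : x.1 ∈ T' := hbe ▸ ⟨b, hT (hsub b hb), rfl⟩
      have hin : (q : G) * x.1 * (q : G)⁻¹ ∈ T' := hn.conj_mem ⟨x.1, hTQ hxT⟩ hxT q
      exact (hXmem _).2 (hmemT _ hin ((hconjbase b hb).trans (hbe ▸ isConj_iff.2 ⟨q, rfl⟩)))
    let pf : Q' → Equiv.Perm X := fun q => Equiv.ofBijective (fun x => ⟨_, hperm q x⟩)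
      (Finite.injective_iff_bijective.1 fun x y e =>
        Subtype.ext (mul_left_cancel (mul_right_cancel (congrArg Subtype.val e))))
    let ρ : Q' →* Equiv.Perm X := MonoidHom.mk' pf fun a b => Equiv.ext fun x => Subtype.ext (by
      show (a : G) * b * x.1 * ((a : G) * b)⁻¹ = (a : G) * ((b : G) * x.1 * (b : G)⁻¹) * (a : G)⁻¹
      group)
    have hker16 : Nat.card ρ.ker ≤ 16 := by
      refine le_trans ?_ ((List.toFinset_card_le baseAll).trans hlen)
      rw [← Nat.card_eq_finsetCard]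
      have hex : ∀ q : ρ.ker, ∃ p ∈ baseAll, f p = q.1.1 := fun q => cent_base hf hC fun b hb => by
        have e := congrArg (fun σ : Equiv.Perm X => (σ ⟨f b, (hXmem _).2 ⟨b, hb, rfl⟩⟩).1) q.2
        exact mul_inv_eq_iff_eq_mul.1 e
      choose p hp hpe using hex
      refine Nat.card_le_card_of_injective
        (fun q => (⟨p q, List.mem_toFinset.2 (hp q)⟩ : {x // x ∈ baseAll.toFinset})) fun q q' e => ?_
      have e' : p q = p q' := congrArg Subtype.val e
      exact Subtype.ext (Subtype.ext (by rw [← hpe q, ← hpe q', e']))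
    have hrange : Nat.card ρ.range ≤ 8 := by
      have h4 : X.card ≤ 4 := Finset.card_image_le.trans (List.toFinset_card_le _)
      obtain ⟨k, hk⟩ := IsPGroup.iff_card.1 ((P.isPGroup'.to_subgroup Q).map (P : Subgroup G).subtype |>.of_surjective
        ρ.rangeRestrict ρ.rangeRestrict_surjective)
      have hd : 2 ^ k ∣ 24 := by
        rw [← hk]
        refine (card_subgroup_dvd_card _).trans ?_
        rw [Nat.card_perm, Nat.card_eq_finsetCard]
        exact Nat.factorial_dvd_factorial h4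
      rw [hk]
      have hd' : 2 ^ k ∣ 2 ^ 3 := (Nat.Coprime.pow_left k (by norm_num : Nat.Coprime 2 3)).dvd_of_dvd_mul_right
        (by rw [show (2 : ℕ) ^ 3 * 3 = 24 from rfl]; exact hd)
      exact Nat.le_of_dvd (by norm_num) hd'
    have h1 := ρ.ker.card_mul_index
    rw [index_ker, hQ'card] at h1
    nlinarith [Nat.mul_le_mul hker16 hrange]
  -- the transfer
  have hTf : ∀ g ∈ T', ∃ p ∈ (T : Subgroup P8), f p = g := fun g hg => hg
  let eT : (T : Subgroup P8) ≃* T' := (T : Subgroup P8).equivMapOfInjective f hf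
  let sg : T' →* ℤˣ := (Equiv.Perm.sign.comp (T : Subgroup P8).subtype).comp eT.symm.toMonoidHom
  have hsg : ∀ (p : P8) (hp : p ∈ (T : Subgroup P8)) (h : f p ∈ T'), sg ⟨f p, h⟩ = Equiv.Perm.sign p := by
    intro p hp h
    show Equiv.Perm.sign ((eT.symm ⟨f p, h⟩ : (T : Subgroup P8)) : P8) = _
    rw [show eT.symm ⟨f p, h⟩ = ⟨p, hp⟩ from eT.injective (by rw [eT.apply_symm_apply]; rfl)]
  let χ : G →* ℤˣ := MonoidHom.transfer sg
  have hodd : Odd T'.index := Nat.odd_iff.2 (Nat.two_dvd_ne_zero.1 (hPeq ▸ P.not_dvd_index))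
  have hβT : iota a2P ∈ (T : Subgroup P8) := hT (hsub _ hb2)
  have hβ' : f (iota a2P) ∈ T' := ⟨_, hβT, rfl⟩
  have hβsq : f (iota a2P) ^ 2 = 1 := by rw [← map_pow, pow_two, hsq _ (hBmem _ (hsub _ hb2)), map_one]
  have hsignβ : ∀ b ∈ baseList, Equiv.Perm.sign b = -1 := base_sign
  have hχβ : χ (f (iota a2P)) = -1 := by
    have ht := Cfsg.Agent.Lib.Fusion.Thompson.transfer_controlled sg (f (iota a2P)) hβ' fun m c hc => ?_
    · rw [show χ (f (iota a2P)) = _ from ht, hsg _ hβT, hsignβ _ hb2]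
      exact hodd.neg_one_pow
    · rcases Nat.even_or_odd m with ⟨k, rfl⟩ | ⟨k, rfl⟩
      · refine Eq.trans ?_ (show (1 : ℤˣ) = _ by rw [← two_mul, pow_mul, Int.units_sq, one_pow])
        rw [← map_one sg]
        exact congrArg sg (Subtype.ext (by
          show c * f (iota a2P) ^ (k + k) * c⁻¹ = 1
          rw [← two_mul, pow_mul, hβsq, one_pow, mul_one, mul_inv_cancel]))
      · have e : f (iota a2P) ^ (2 * k + 1) = f (iota a2P) := by rw [pow_succ, pow_mul, hβsq, one_pow, one_mul]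
        have hc' : c * f (iota a2P) * c⁻¹ ∈ T' := by rw [← e]; exact hc
        obtain ⟨b, hb, hbe⟩ := hmemT _ hc' ((hconjbase _ hb2).trans (isConj_iff.2 ⟨c, rfl⟩))
        refine Eq.trans ?_ (show (-1 : ℤˣ) = _ by
          rw [hsg _ hβT, hsignβ _ hb2, pow_succ, pow_mul, Int.units_sq, one_pow, one_mul])
        rw [show (⟨c * f (iota a2P) ^ (2 * k + 1) * c⁻¹, hc⟩ : T') = ⟨f b, hbe ▸ hc'⟩ from Subtype.ext (by
          show c * f (iota a2P) ^ (2 * k + 1) * c⁻¹ = f b
          rw [e, hbe]), hsg b (hT (hsub b hb)), hsignβ b hb]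
  have hχf : χ.comp f = Equiv.Perm.sign := Equiv.Perm.eq_sign_of_surjective_hom fun z => by
    rcases Int.units_eq_one_or z with rfl | rfl
    · exact ⟨1, map_one _⟩
    · exact ⟨iota a2P, hχβ⟩
  have hcard := card_index_two S hfi hfn hzw χ fun p => DFunLike.congr_fun hχf p
  exact ⟨(MulEquiv.ofBijective f ((Nat.bijective_iff_injective_and_card f).2
    ⟨hf, by rw [hcard, Nat.card_perm, Nat.card_fin]; rfl⟩)).symm⟩

end Cfsg.Agent.Lib.EightThree88.Sym
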