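import Cfsg.Agent.Lib.EightThree88.SymDich
import Cfsg.Agent.Lib.EightThree88.SymEightCore

/-!
# The symmetric case: the copy of `S₈` is everything

helper1, for helper88's S3330.
-/

set_option autoImplicit false
set_option synthInstance.maxSize 2000
set_option synthInstance.maxHeartbeats 400000

namespace Cfsg.Agent.Lib.EightThree88.Sym

open Subgroup Model

universe u

/-- The symmetric case. -/
theorem sym_case {G : Type u} [Group G] [Finite G] (S : Data8 G) (hbig : Big S)
    (f : P8 →* G) (hf : Function.Injective f) (hfi : ∀ x : Pr, f (iota x) = S.φ x) (hfn : f sigma = S.n) :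
    Nonempty (G ≃* Equiv.Perm (Fin 8)) := by
  obtain ⟨π, hsurj, hker⟩ := hbig
  exact sym_core S π hsurj hker f hf hfi hfn (fun _ h1 h2 => S.cent_zw h1 h2) S.not_t_d S.not_t_n S.not_t_nt

end Cfsg.Agent.Lib.EightThree88.Sym
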