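import Cfsg.Agent.Lib.EightThree88.SymDich

/-!
# The two alternating groups of degree five commute when `C(tau)` is small
-/

set_option autoImplicit false
set_option maxHeartbeats 800000
set_option maxRecDepth 100000
set_option synthInstance.maxSize 2000
set_option synthInstance.maxHeartbeats 400000

namespace Cfsg.Agent.Lib.EightThree88.Sym

open Subgroup Model Equiv

universe u

theorem halves_facts :
    dP = a2P * tP ∧ hP * hP = 1 ∧ hP * a1P = a1P * hP ∧ hP * tP * hP = a2P ∧ hP * a2P * hP = tP ∧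
    hP * dP = dP * hP ∧ hP * zP = zP * hP ∧ a1P * wP = wP * a1P ∧ a1P * dP = dP * a1P ∧
    (hP * wP) ^ 5 = 1 ∧ (hP * (a1P * dP) * wP) ^ 5 ≠ 1 ∧ a1P * zP * a1P⁻¹ = zP⁻¹ := by decide +kernel

/-- The elementary abelian group `⟨a1, a2, tau⟩`. -/
def InU (x : Pr) : Prop :=
  x = 1 ∨ x = a1P ∨ x = a2P ∨ x = tP ∨ x = a1P * a2P ∨ x = a1P * tP ∨ x = a2P * tP ∨ x = a1P * (a2P * tP)

instance : DecidablePred InU := fun x => by unfold InU; infer_instance

theorem cent_U : ∀ x : Pr, InN x → x * a1P = a1P * x → x * a2P = a2P * x → InU x := by decide +kernel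

theorem U_sq : ∀ x : Pr, InU x → x * x = 1 ∧ (hP * x * hP = x →
    x = 1 ∨ x = a1P ∨ x = dP ∨ x = a1P * dP) := by decide +kernel

theorem conj_a1 : ∀ x : Pr, InN x → x * a1P * x⁻¹ = a1P ∨ x * a1P * x⁻¹ = zP * a1P ∨
    x * a1P * x⁻¹ = zP⁻¹ * a1P := by decide +kernel

theorem halves_ne : dP ≠ a1P ∧ wP * dP ≠ a1P ∧ wP⁻¹ * dP ≠ a1P := by decide +kernel

/-- `(03)(14)`, `(01)(34)` and `(012)` in the alternating group of degree five. -/
def h5A : alternatingGroup (Fin 5) := ⟨swap 0 3 * swap 1 4, Perm.mem_alternatingGroup.2 (by decide +kernel)⟩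
def d5A : alternatingGroup (Fin 5) := ⟨swap 0 1 * swap 3 4, Perm.mem_alternatingGroup.2 (by decide +kernel)⟩
def w5A : alternatingGroup (Fin 5) := ⟨swap 0 1 * swap 1 2, Perm.mem_alternatingGroup.2 (by decide +kernel)⟩

theorem five_gens_facts : (h5A * w5A) ^ 5 = 1 ∧ h5A * w5A ≠ 1 ∧ w5A ^ 3 = 1 ∧ w5A ≠ 1 ∧
    h5A * h5A = 1 ∧ d5A * d5A = 1 ∧ h5A * d5A = d5A * h5A ∧ h5A ≠ 1 ∧ d5A ≠ 1 ∧ h5A ≠ d5A ∧
    h5A * d5A ≠ 1 := by decide +kernel

theorem four_card : (Finset.univ.filter fun x : alternatingGroup (Fin 5) =>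
    x = 1 ∨ x = h5A ∨ x = d5A ∨ x = h5A * d5A).card = 4 := by decide +kernel

theorem five_top (H : Subgroup (alternatingGroup (Fin 5))) (hh : h5A ∈ H) (hd : d5A ∈ H) (hw : w5A ∈ H) :
    H = ⊤ := by
  classical
  obtain ⟨g5, g51, g3, g31, gh, gd, ghd, gh1, gd1, ghne, ghd1⟩ := five_gens_facts
  have : Fact (Nat.Prime 5) := ⟨by norm_num⟩
  have : Fact (Nat.Prime 3) := ⟨Nat.prime_three⟩
  have h5 := H.orderOf_dvd_natCard (mul_mem hh hw)
  have h3 := H.orderOf_dvd_natCard hw
  rw [orderOf_eq_prime g5 g51] at h5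
  rw [orderOf_eq_prime g3 g31] at h3
  let V : Subgroup (alternatingGroup (Fin 5)) :=
    { carrier := {x | x = 1 ∨ x = h5A ∨ x = d5A ∨ x = h5A * d5A}
      one_mem' := Or.inl rfl
      mul_mem' := fun {a b} ha hb => (by decide +kernel :
        ∀ a b : alternatingGroup (Fin 5), (a = 1 ∨ a = h5A ∨ a = d5A ∨ a = h5A * d5A) →
          (b = 1 ∨ b = h5A ∨ b = d5A ∨ b = h5A * d5A) →
            (a * b = 1 ∨ a * b = h5A ∨ a * b = d5A ∨ a * b = h5A * d5A)) a b ha hb
      inv_mem' := fun {a} ha => by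
        rcases ha with rfl | rfl | rfl | rfl
        · exact Or.inl inv_one
        · exact Or.inr (Or.inl (inv_eq_of_mul_eq_one_right gh))
        · exact Or.inr (Or.inr (Or.inl (inv_eq_of_mul_eq_one_right gd)))
        · refine Or.inr (Or.inr (Or.inr ?_))
          rw [mul_inv_rev, inv_eq_of_mul_eq_one_right gh, inv_eq_of_mul_eq_one_right gd, ghd] }
  have hV : V ≤ H := by
    intro x hx
    rcases hx with rfl | rfl | rfl | rfl
    exacts [one_mem _, hh, hd, mul_mem hh hd]
  have h4 : 4 ∣ Nat.card H := by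
    have hc : Nat.card V = 4 := by
      show Nat.card {x : alternatingGroup (Fin 5) // x = 1 ∨ x = h5A ∨ x = d5A ∨ x = h5A * d5A} = 4
      rw [Nat.card_eq_fintype_card, Fintype.card_subtype]
      convert four_card
    exact hc ▸ card_dvd_of_le hV
  have h60 : 60 ∣ Nat.card H :=
    Nat.Coprime.mul_dvd_of_dvd_of_dvd (by norm_num : Nat.Coprime 12 5)
      (Nat.Coprime.mul_dvd_of_dvd_of_dvd (by norm_num : Nat.Coprime 4 3) h4 h3) h5
  refine eq_top_of_card_eq H (Nat.dvd_antisymm (card_subgroup_dvd_card H) ?_)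
  rw [nat_card_alternatingGroup, Nat.card_fin]
  exact h60

variable {G : Type u} [Group G] [Finite G]

namespace Data8

theorem commute_halves (S : Data8 G) (hX : S.n * S.φ a1P * S.n⁻¹ = S.φ (a2P * tP)) (hsmall : Small S) :
    ∀ u v : alternatingGroup (Fin 5),
      Commute (S.φ (1, (u : Perm (Fin 5)))) (S.n * S.φ (1, (v : Perm (Fin 5))) * S.n⁻¹) := by
  classical
  obtain ⟨hd, hh2, hha, hht, hha2, hhd, hhz, haw, had, h5, h5n, haz⟩ := halves_facts
  obtain ⟨a1sq, a2sq, tsq, -, -, -, -, -, -, -, -, -, -, -, -, a12, a1t, a2t, -, -, -⟩ := a_facts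
  have ni := S.n_inv
  set n := S.n
  set φ := S.φ
  have n2 : n * n = 1 := S.n_sq
  rw [ni] at hX
  rw [← hd] at hX
  have nd : n * φ dP * n = φ a1P := by
    rw [← hX, show n * (n * φ a1P * n) * n = (n * n) * φ a1P * (n * n) by group, n2, one_mul, mul_one]
  have nt : n * φ tP * n = φ tP := by have := S.n_t; rwa [ni] at this
  have nz : n * φ zP * n = φ wP := by have := S.n_z; rwa [ni] at this
  have nw : n * φ wP * n = φ zP := by have := S.n_w; rwa [ni] at this
  have conj_mul : ∀ a b : G, n * (a * b) * n = (n * a * n) * (n * b * n) := fun a b => by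
    calc n * (a * b) * n = n * a * 1 * b * n := by group
      _ = _ := by rw [← n2]; group
  have na2 : n * φ a2P * n = φ (a1P * tP) := by
    have : a2P = dP * tP := by rw [hd, mul_assoc, tsq, mul_one]
    rw [this, map_mul, conj_mul, nd, nt, map_mul]
  set h := φ hP with hh
  obtain ⟨e, he⟩ : ∃ e, e = n * h * n := ⟨_, rfl⟩
  have hh2' : h * h = 1 := by rw [hh, ← map_mul, hh2, map_one]
  have he2 : e * e = 1 := by
    rw [he, show n * h * n * (n * h * n) = n * h * (n * n) * h * n by group, n2, mul_one, mul_assoc n h h,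
      hh2', mul_one, n2]
  have ch : ∀ a b : Pr, hP * a * hP = b → h * φ a * h = φ b := fun a b hab => by
    rw [hh, ← map_mul, ← map_mul, hab]
  have fixh : ∀ a : Pr, hP * a = a * hP → hP * a * hP = a := fun a ha => by
    rw [ha, mul_assoc, hh2, mul_one]
  have cd : hP * dP * hP = dP := fixh _ hhd
  have ca : hP * a1P * hP = a1P := fixh _ hha
  have conje : ∀ a b : Pr, ∀ g g' : G, n * g * n = φ a → hP * a * hP = b → n * φ b * n = g' →
      e * g * e = g' := fun a b g g' h1 h2 h3 => by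
    rw [← h3, ← ch a b h2, ← h1, he]; group
  have ea1 : e * φ a1P * e = φ a1P := conje dP dP _ _ hX cd nd
  have et : e * φ tP * e = φ (a1P * tP) := conje tP a2P _ _ nt hht na2
  have ea2 : e * φ a2P * e = φ (a1P * a2P) := by
    refine conje (a1P * tP) (a1P * a2P) _ _ na2 ?_ ?_
    · calc hP * (a1P * tP) * hP = (hP * a1P * hP) * (hP * tP * hP) := by
            rw [show (hP * a1P * hP) * (hP * tP * hP) = hP * a1P * (hP * hP) * tP * hP by group, hh2]; group
        _ = _ := by rw [ca, hht]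
    · rw [map_mul, conj_mul, hX, na2, ← map_mul, ← map_mul]
      refine congrArg φ ?_
      rw [hd]
      calc a2P * tP * (a1P * tP) = a2P * (tP * a1P) * tP := by group
        _ = a2P * a1P * (tP * tP) := by rw [← a1t]; group
        _ = _ := by rw [tsq, mul_one, a12]
  obtain ⟨c, hc⟩ : ∃ c, c = h * e * h * e := ⟨_, rfl⟩
  have hinv : h⁻¹ = h := inv_eq_of_mul_eq_one_right hh2'
  have einv : e⁻¹ = e := inv_eq_of_mul_eq_one_right he2
  have conjc : ∀ g, c * g * c⁻¹ = h * (e * (h * (e * g * e) * h) * e) * h := fun g => by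
    rw [hc, mul_inv_rev, mul_inv_rev, mul_inv_rev, hinv, einv]; group
  have c_t : c * φ tP * c⁻¹ = φ tP := by
    rw [conjc, et, map_mul,
      show h * (φ a1P * φ tP) * h = (h * φ a1P * h) * (h * φ tP * h) by
        rw [show (h * φ a1P * h) * (h * φ tP * h) = h * φ a1P * (h * h) * φ tP * h by group, hh2']; group,
      ch _ _ ca, ch _ _ hht,
      show e * (φ a1P * φ a2P) * e = (e * φ a1P * e) * (e * φ a2P * e) by
        rw [show (e * φ a1P * e) * (e * φ a2P * e) = e * φ a1P * (e * e) * φ a2P * e by group, he2]; group,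
      ea1, ea2, ← map_mul, ← mul_assoc, a1sq, one_mul]
    exact ch _ _ hha2
  have c_a2 : c * φ a2P * c⁻¹ = φ a2P := by
    rw [conjc, ea2, map_mul,
      show h * (φ a1P * φ a2P) * h = (h * φ a1P * h) * (h * φ a2P * h) by
        rw [show (h * φ a1P * h) * (h * φ a2P * h) = h * φ a1P * (h * h) * φ a2P * h by group, hh2']; group,
      ch _ _ ca, ch _ _ hha2,
      show e * (φ a1P * φ tP) * e = (e * φ a1P * e) * (e * φ tP * e) by
        rw [show (e * φ a1P * e) * (e * φ tP * e) = e * φ a1P * (e * e) * φ tP * e by group, he2]; group,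
      ea1, et, ← map_mul, ← mul_assoc, a1sq, one_mul]
    exact ch _ _ hht
  have c_a1 : c * φ a1P * c⁻¹ = φ a1P := by rw [conjc, ea1, ch _ _ ca, ea1]; exact ch _ _ ca
  obtain ⟨x, hxN, hxc⟩ := S.norm_D (hsmall c (mul_inv_eq_iff_eq_mul.1 c_t))
  have hcx : c = φ x := by
    rcases hxc with h1 | h1
    · exact h1
    exfalso
    replace h1 : c = n * φ x := h1
    have e1 : n * φ (x * a1P * x⁻¹) * n = φ a1P := by
      rw [← c_a1, h1, map_mul, map_mul, map_inv, mul_inv_rev, ni]; group
    have hz' : ∀ s, n * φ (s * a1P) * n = (n * φ s * n) * φ dP := fun s => by rw [map_mul, conj_mul, hX]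
    rcases conj_a1 x hxN with h2 | h2 | h2 <;> rw [h2] at e1
    · rw [hX] at e1; exact halves_ne.1 (S.inj e1)
    · rw [hz', nz, ← map_mul] at e1; exact halves_ne.2.1 (S.inj e1)
    · rw [hz', map_inv, show n * (φ zP)⁻¹ * n = (n * φ zP * n)⁻¹ by
        rw [mul_inv_rev, mul_inv_rev, ni]; group, nz, ← map_inv, ← map_mul] at e1
      exact halves_ne.2.2 (S.inj e1)
  have hU : InU x := cent_U x hxN (S.inj (by rw [map_mul, map_mul, ← hcx]; exact mul_inv_eq_iff_eq_mul.1 c_a1))
    (S.inj (by rw [map_mul, map_mul, ← hcx]; exact mul_inv_eq_iff_eq_mul.1 c_a2))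
  obtain ⟨hx2, hxfix⟩ := U_sq x hU
  have hc2 : c * c = 1 := by rw [hcx, ← map_mul, hx2, map_one]
  have cinv : c⁻¹ = e * h * e * h := by
    rw [hc, mul_inv_rev, mul_inv_rev, mul_inv_rev, hinv, einv]; group
  have cfixh : h * c * h = c := by
    calc h * c * h = (h * h) * (e * h * e * h) := by rw [hc]; group
      _ = c⁻¹ := by rw [hh2', one_mul, cinv]
      _ = c := inv_eq_of_mul_eq_one_right hc2
  have ncn : n * c * n = c := by
    have e1 : n * h * n = e := he.symm
    have e2 : n * e * n = h := by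
      rw [he, show n * (n * h * n) * n = (n * n) * h * (n * n) by group, n2, one_mul, mul_one]
    rw [hc, conj_mul, conj_mul, conj_mul, e2, e1, ← cinv, inv_eq_of_mul_eq_one_right hc2]
    exact hc
  have hx4 := hxfix (S.inj (by rw [map_mul, map_mul, ← hcx]; exact cfixh))
  have ew : e * φ wP * e = φ wP := conje zP zP _ _ nw (fixh _ hhz) nz
  have ed : e * φ dP * e = φ dP := conje a1P a1P _ _ nd ca hX
  have hc1 : c = 1 := by
    rcases hx4 with h1 | h1 | h1 | h1
    · rw [hcx, h1, map_one]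
    · exfalso
      rw [hcx, h1, hX] at ncn
      exact halves_ne.1 (S.inj ncn)
    · exfalso
      rw [hcx, h1, nd] at ncn
      exact halves_ne.1 (S.inj ncn).symm
    · exfalso
      have heh : e * h * e = h * φ (a1P * dP) := by
        rw [← h1, ← hcx, hc, ← mul_assoc, ← mul_assoc, ← mul_assoc, hh2', one_mul]
      refine h5n (S.inj ?_)
      have e5 : (φ (hP * (a1P * dP) * wP)) = e * (h * φ wP) * e⁻¹ := by
        rw [einv, map_mul, map_mul, ← hh, ← heh]
        calc e * h * e * φ wP = e * h * e * (e * φ wP * e) := by rw [ew]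
          _ = e * h * (e * e) * φ wP * e := by group
          _ = _ := by rw [he2]; group
      rw [map_pow, e5, conj_pow, hh, ← map_mul, ← map_pow, h5, map_one]; group
  have heh : e * h = h * e := by
    have : h * e * h * e = 1 := hc ▸ hc1
    calc e * h = (h * h) * e * h * (e * e) := by rw [hh2', he2]; group
      _ = h * (h * e * h * e) * e := by group
      _ = _ := by rw [this, mul_one]
  have emov : ∀ g : G, e * g * e = g → g * e = e * g := fun g hg => by
    conv_lhs => rw [← hg]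
    rw [mul_assoc, he2, mul_one]
  let B : alternatingGroup (Fin 5) →* G :=
    φ.comp ((MonoidHom.inr (Perm (Fin 3)) (Perm (Fin 5))).comp (alternatingGroup (Fin 5)).subtype)
  have key : ∀ g, g * h = h * g → g * φ dP = φ dP * g → g * φ wP = φ wP * g → ∀ u, g * B u = B u * g := by
    intro g k1 k2 k3 u
    have : (centralizer ({g} : Set G)).comap B = ⊤ := five_top _
      (mem_centralizer_singleton_iff.2 k1.symm) (mem_centralizer_singleton_iff.2 k2.symm)
      (mem_centralizer_singleton_iff.2 k3.symm)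
    exact (mem_centralizer_singleton_iff.1 (mem_comap.1 (this ▸ mem_top u : u ∈ (centralizer ({g} : Set G)).comap B))).symm
  intro u v
  show φ (1, _) * (n * φ (1, _) * n⁻¹) = n * φ (1, _) * n⁻¹ * φ (1, _)
  rw [ni]
  let B' : alternatingGroup (Fin 5) →* G := (MulAut.conj n).toMonoidHom.comp B
  have hB' : ∀ v, B' v = n * B v * n := fun v => by
    show n * B v * n⁻¹ = _; rw [ni]
  have : (centralizer ({B u} : Set G)).comap B' = ⊤ := by
    refine five_top _ ?_ ?_ ?_ <;> refine mem_centralizer_singleton_iff.2 ?_ <;> rw [hB']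
    · rw [show n * B h5A * n = e from he.symm]
      exact key e heh (emov _ ed).symm (emov _ ew).symm u
    · rw [show n * B d5A * n = φ a1P from nd]
      exact key (φ a1P) (S.φ_comm hha.symm) (S.φ_comm had) (S.φ_comm haw) u
    · rw [show n * B w5A * n = φ zP from nw]
      exact key (φ zP) (S.φ_comm hhz.symm) (S.φ_comm (by decide +kernel : zP * dP = dP * zP))
        (S.φ_comm (by decide +kernel : zP * wP = wP * zP)) u
  have hv := mem_centralizer_singleton_iff.1 (mem_comap.1 (this ▸ mem_top v : v ∈ (centralizer ({B u} : Set G)).comap B'))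
  rw [hB'] at hv
  exact hv.symm

end Data8

end Cfsg.Agent.Lib.EightThree88.Sym
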