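import Cfsg.Agent.Lib.EightThree88.SymFour
import Cfsg.Agent.Lib.EightThree88.SymHalves

/-!
# A large subgroup centralising two commuting involutions, when `C(tau)` is large
-/

set_option autoImplicit false
set_option maxHeartbeats 800000
set_option maxRecDepth 100000
set_option synthInstance.maxSize 2000
set_option synthInstance.maxHeartbeats 400000

namespace Cfsg.Agent.Lib.EightThree88.Sym

open Subgroup Model Equiv

universe u

theorem large_facts :
    a2P * tP = dP ∧ tP * a2P = dP ∧ hP * hP = 1 ∧ hP * tP * hP = a2P ∧ hP * a2P * hP = tP ∧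
    hP * a1P = a1P * hP ∧ hP * zP = zP * hP ∧ a2P ≠ 1 ∧ a2P ≠ tP ∧ zP ≠ tP ∧ zP * tP = tP * zP ∧
    zP * a2P = a2P * zP ∧ a1P * zP = zP⁻¹ * a1P ∧ dP * dP = 1 ∧ dP ≠ tP ∧ dP ≠ a2P := by decide +kernel

variable {G : Type u} [Group G] [Finite G]

namespace Data8

/-- Half of the centraliser of `tau` and `a2` centralises `h`. -/
theorem exists_large (S : Data8 G) (hbig : Big S) :
    ∃ L : Subgroup G, (Nat.card L = 48 ∨ Nat.card L = 96) ∧
      ∀ g ∈ L, g * S.φ dP = S.φ dP * g ∧ g * S.φ hP = S.φ hP * g ∧ g * S.φ tP = S.φ tP * g := by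
  classical
  obtain ⟨had, htd, hh2, hht, hha, hha1, hhz, a2ne, a2t', znt, zt, za2, aza, dd, dnt, dna⟩ := large_facts
  obtain ⟨a1sq, a2sq, tsq, -, -, -, -, -, -, -, z3, -, zne, -, -, a12, a1t, a2t, tne, -, -⟩ := a_facts
  obtain ⟨π₀, hπs₀, hπ₀⟩ := hbig
  let K : Subgroup G := centralizer ({S.φ tP} : Set G) ⊓ centralizer ({S.φ a2P} : Set G)
  have memK : ∀ g, g ∈ K ↔ g * S.φ tP = S.φ tP * g ∧ g * S.φ a2P = S.φ a2P * g := fun g => by
    show g ∈ centralizer ({S.φ tP} : Set G) ∧ g ∈ centralizer ({S.φ a2P} : Set G) ↔ _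
    rw [mem_centralizer_singleton_iff, mem_centralizer_singleton_iff]
  have mK : ∀ x : Pr, x * tP = tP * x → x * a2P = a2P * x → S.φ x ∈ K := fun x h1 h2 =>
    (memK _).2 ⟨S.φ_comm h1, S.φ_comm h2⟩
  let tK : K := ⟨S.φ tP, mK _ rfl a2t.symm⟩
  let aK : K := ⟨S.φ a2P, mK _ a2t rfl⟩
  let zK : K := ⟨S.φ zP, mK _ zt za2⟩
  let AK : K := ⟨S.φ a1P, mK _ a1t a12⟩
  let ρ₀ : K →* P6 := π₀.comp (Subgroup.inclusion inf_le_left)
  have hker₀ : ∀ k : K, ρ₀ k = 1 ↔ k = 1 ∨ k = tK := by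
    intro k
    refine (hπ₀ _).trans (or_congr ⟨fun h => Subtype.ext h, fun h => ?_⟩ ⟨fun h => Subtype.ext h, fun h => ?_⟩)
    · rw [h]; rfl
    · rw [h]; rfl
  have sqK : aK * aK = 1 := Subtype.ext (show S.φ a2P * S.φ a2P = 1 by rw [← map_mul, a2sq, map_one])
  have zK3 : zK * zK * zK = 1 := Subtype.ext (show S.φ zP * S.φ zP * S.φ zP = 1 by
    rw [← map_mul, ← map_mul, ← pow_two, ← pow_succ, z3, map_one])
  have comma : ∀ k : K, k * aK = aK * k := fun k => Subtype.ext ((memK _).1 k.2).2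
  have gne : ρ₀ aK ≠ 1 := fun h => by
    rcases (hker₀ _).1 h with e | e
    · exact a2ne (S.inj ((congrArg Subtype.val e).trans (map_one _).symm))
    · exact a2t' (S.inj (congrArg Subtype.val e))
  have zne' : ρ₀ zK ≠ 1 := fun h => by
    rcases (hker₀ _).1 h with e | e
    · exact zne (S.inj ((congrArg Subtype.val e).trans (map_one _).symm))
    · exact znt (S.inj (congrArg Subtype.val e))
  obtain ⟨hc, hhc⟩ := invol_class (ρ₀ aK) (by rw [← map_mul, sqK, map_one]) gne
    ⟨ρ₀ zK, by rw [← map_mul, ← map_mul, zK3, map_one], zne', by rw [← map_mul, ← map_mul, comma zK]⟩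
  let π : centralizer ({S.φ tP} : Set G) →* P6 := (MulAut.conj hc).toMonoidHom.comp π₀
  have hπs : Function.Surjective π := (MulAut.conj hc).surjective.comp hπs₀
  have hπ : ∀ c, π c = 1 ↔ (c : G) = 1 ∨ (c : G) = S.φ tP := fun c =>
    (map_eq_one_iff (MulAut.conj hc) (MulAut.conj hc).injective).trans (hπ₀ c)
  let ρ : K →* P6 := π.comp (Subgroup.inclusion inf_le_left)
  have hker : ∀ k : K, ρ k = 1 ↔ k = 1 ∨ k = tK := fun k =>
    (map_eq_one_iff (MulAut.conj hc) (MulAut.conj hc).injective).trans (hker₀ k)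
  set g := ρ aK with hg
  have hgstd : g = g2 ∨ g = g222 := hhc
  have hcg : ∀ k : K, ρ k * g = g * ρ k := fun k => by rw [hg, ← map_mul, ← map_mul, comma]
  have gg : g * g = 1 := by rw [hg, ← map_mul, sqK, map_one]
  have hrange : ∀ x : P6, x * g = g * x → ∃ k : K, ρ k = x := by
    intro x hx
    obtain ⟨c, rfl⟩ := hπs x
    set a' : centralizer ({S.φ tP} : Set G) := Subgroup.inclusion inf_le_left aK
    have h1 : π (c * a' * c⁻¹ * a'⁻¹) = 1 := by
      rw [map_mul, map_mul, map_mul, map_inv, map_inv, show π a' = g from rfl, hx]; group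
    rcases (hπ _).1 h1 with e | e
    · exact ⟨⟨c, (memK _).2 ⟨mem_centralizer_singleton_iff.1 c.2, mul_inv_eq_iff_eq_mul.1 (mul_inv_eq_one.1 e)⟩⟩, rfl⟩
    · exfalso
      obtain ⟨k, hk, -, -⟩ := a2_conj_t
      have e1 : (c : G) * S.φ a2P * (c : G)⁻¹ = S.φ dP := by
        rw [← htd, map_mul]
        exact mul_inv_eq_iff_eq_mul.1 e
      refine S.not_t_d ((c : G) * S.φ k)⁻¹ ?_
      rw [← e1, ← hk, map_mul, map_mul, map_inv]
      group
  have hhinv : (S.φ hP)⁻¹ = S.φ hP := inv_eq_of_mul_eq_one_right (by rw [← map_mul, hh2, map_one])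
  have hconj : ∀ a b : Pr, hP * a * hP = b → S.φ hP * S.φ a * S.φ hP = S.φ b := fun a b e => by
    rw [← map_mul, ← map_mul, e]
  let θ : K →* K := ((MulAut.conj (S.φ hP)).toMonoidHom.comp K.subtype).codRestrict K fun k => by
    obtain ⟨k1, k2⟩ := (memK _).1 k.2
    rw [memK]
    show S.φ hP * (k : G) * (S.φ hP)⁻¹ * S.φ tP = S.φ tP * (S.φ hP * (k : G) * (S.φ hP)⁻¹) ∧
      S.φ hP * (k : G) * (S.φ hP)⁻¹ * S.φ a2P = S.φ a2P * (S.φ hP * (k : G) * (S.φ hP)⁻¹)
    constructor
    · rw [← hconj _ _ hha, hhinv]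
      calc S.φ hP * (k : G) * S.φ hP * (S.φ hP * S.φ a2P * S.φ hP)
          = S.φ hP * (k : G) * (S.φ hP * S.φ hP) * S.φ a2P * S.φ hP := by group
        _ = S.φ hP * ((k : G) * S.φ a2P) * S.φ hP := by rw [← map_mul, hh2, map_one, mul_one]; group
        _ = S.φ hP * S.φ a2P * (S.φ hP * S.φ hP) * (k : G) * S.φ hP := by
          rw [k2, ← map_mul S.φ hP hP, hh2, map_one, mul_one]; group
        _ = _ := by group
    · rw [← hconj _ _ hht, hhinv]
      calc S.φ hP * (k : G) * S.φ hP * (S.φ hP * S.φ tP * S.φ hP)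
          = S.φ hP * (k : G) * (S.φ hP * S.φ hP) * S.φ tP * S.φ hP := by group
        _ = S.φ hP * ((k : G) * S.φ tP) * S.φ hP := by rw [← map_mul, hh2, map_one, mul_one]; group
        _ = S.φ hP * S.φ tP * (S.φ hP * S.φ hP) * (k : G) * S.φ hP := by
          rw [k1, ← map_mul S.φ hP hP, hh2, map_one, mul_one]; group
        _ = _ := by group
  have θval : ∀ k : K, ((θ k : K) : G) = S.φ hP * (k : G) * S.φ hP := fun k => by
    show S.φ hP * (k : G) * (S.φ hP)⁻¹ = _
    rw [hhinv]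
  have θfix : ∀ (x : Pr) (hx : S.φ x ∈ K), hP * x = x * hP → θ ⟨S.φ x, hx⟩ = ⟨S.φ x, hx⟩ := fun x hx e =>
    Subtype.ext (by rw [θval]; exact hconj _ _ (by rw [e, mul_assoc, hh2, mul_one]))
  have θt : θ tK = aK := Subtype.ext (by rw [θval]; exact hconj _ _ hht)
  have θa : θ aK = tK := Subtype.ext (by rw [θval]; exact hconj _ _ hha)
  have hU : ∀ k : K, InU2 g (ρ k) → InU2 g (ρ (θ k)) := by
    have h0 : ∀ k : K, ρ k = 1 → InU2 g (ρ (θ k)) := by
      intro k hk
      rcases (hker k).1 hk with rfl | rfl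
      · exact Or.inl (by rw [map_one, map_one])
      · exact Or.inr (by rw [θt])
    intro k hk
    rcases hk with hk | hk
    · exact h0 k hk
    · have h1 := h0 (k * aK) (by rw [map_mul, hk, ← hg, gg])
      rw [map_mul, map_mul, θa, (hker tK).2 (Or.inr rfl), mul_one] at h1
      exact h1
  let Q : Subgroup K :=
    { carrier := {k | InU2 g (ρ (θ k) * (ρ k)⁻¹)}
      one_mem' := Or.inl (by simp)
      mul_mem' := fun {a b} ha hb => by
        show InU2 g (ρ (θ (a * b)) * (ρ (a * b))⁻¹)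
        have e : ρ (θ (a * b)) * (ρ (a * b))⁻¹ = ρ (θ a) * (ρ (θ b) * (ρ b)⁻¹) * (ρ a)⁻¹ := by
          rw [map_mul, map_mul, map_mul]; group
        rw [e]
        rcases hb with hb | hb <;> rw [hb]
        · rw [mul_one]; exact ha
        · rw [hcg, mul_assoc]
          rcases ha with ha | ha <;> rw [ha]
          · exact Or.inr (mul_one g)
          · exact Or.inl gg
      inv_mem' := fun {a} ha => by
        show InU2 g (ρ (θ a⁻¹) * (ρ a⁻¹)⁻¹)
        have e : ρ (θ a⁻¹) * (ρ a⁻¹)⁻¹ = (ρ a)⁻¹ * (ρ (θ a) * (ρ a)⁻¹)⁻¹ * ρ a := by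
          rw [map_inv, map_inv, map_inv]; group
        rw [e]
        rcases ha with ha | ha <;> rw [ha]
        · exact Or.inl (by group)
        · refine Or.inr ?_
          rw [inv_eq_of_mul_eq_one_right gg, mul_assoc, ← hcg, inv_mul_cancel_left] }
  have memQ : ∀ k : K, InU2 g (ρ (θ k) * (ρ k)⁻¹) → k ∈ Q := fun k h => h
  have Qker : ∀ k : K, ρ k = 1 → k ∈ Q := fun k hk => memQ k (by
    rw [hk, inv_one, mul_one]
    exact hU k (Or.inl hk))
  have hZ : zK ∈ Q := memQ _ (Or.inl (by rw [θfix _ _ hhz, mul_inv_cancel]))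
  have hA : AK ∈ Q := memQ _ (Or.inl (by rw [θfix _ _ hha1, mul_inv_cancel]))
  have haQ : aK ∈ Q := memQ _ (Or.inr (by
    rw [θa, (hker tK).2 (Or.inr rfl), one_mul, ← hg, inv_eq_of_mul_eq_one_right gg]))
  have hfour : ∃ v : P6, Fixed4 g (ρ zK) (ρ AK) v ∧
      (∀ v', v' * g = g * v' → Fixed4 g (ρ zK) (ρ AK) v' → v' = v ∨ v' = v * g) ∧
      ∀ x, x * g = g * x → x ∈ words g (ρ zK) (ρ AK) v := by
    have c1 := hcg zK
    have c2 := hcg AK
    have c3 : ρ zK * ρ zK * ρ zK = 1 := by rw [← map_mul, ← map_mul, zK3, map_one]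
    have c4 : ρ zK ≠ 1 := fun e => zne' ((hker₀ _).2 ((hker _).1 e))
    have c5 : ρ AK * ρ AK = 1 := by
      rw [← map_mul, show AK * AK = 1 from Subtype.ext (show S.φ a1P * S.φ a1P = 1 by
        rw [← map_mul, a1sq, map_one]), map_one]
    have c6 : ρ AK * ρ zK = (ρ zK)⁻¹ * ρ AK := by
      rw [← map_inv, ← map_mul, ← map_mul]
      exact congrArg ρ (Subtype.ext (show S.φ a1P * S.φ zP = (S.φ zP)⁻¹ * S.φ a1P by
        rw [← map_inv, ← map_mul, ← map_mul, aza]))
    rcases hgstd with e | e <;> rw [e] at c1 c2 ⊢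
    · exact four_g2 _ c1 c3 c4 _ c2 c5 c6
    · exact four_g222 _ c1 c3 c4 _ c2 c5 c6
  obtain ⟨v, ⟨hv, hvn, hv2, hvA, hvZ⟩, huniq, hgen⟩ := hfour
  obtain ⟨vK, rfl⟩ := hrange v hv
  have hθU : ∀ k : K, InU2 g (ρ (θ k)) → InU2 g (ρ k) := by
    intro k hk
    have h1 := hU (θ k) hk
    have e : θ (θ k) = k := Subtype.ext (by
      rw [θval, θval]
      calc S.φ hP * (S.φ hP * (k : G) * S.φ hP) * S.φ hP
          = (S.φ hP * S.φ hP) * (k : G) * (S.φ hP * S.φ hP) := by group
        _ = (k : G) := by rw [← map_mul, hh2, map_one, one_mul, mul_one])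
    rwa [e] at h1
  have θz : θ zK = zK := θfix _ _ hhz
  have θA : θ AK = AK := θfix _ _ hha1
  have hvQ : vK ∈ Q := memQ _ (by
    have h : Fixed4 g (ρ zK) (ρ AK) (ρ (θ vK)) := by
      refine ⟨hcg _, fun h => hvn (hθU _ h), ?_, ?_, ?_⟩
      · have h := hU (vK * vK) (by rw [map_mul]; exact hv2)
        simp only [map_mul] at h
        exact h
      · have h := hU (vK * AK * vK⁻¹ * AK⁻¹) (by simp only [map_mul, map_inv]; exact hvA)
        simp only [map_mul, map_inv, θA] at h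
        exact h
      · have h := hU (vK * (zK * vK * zK⁻¹) * (vK * (zK * vK * zK⁻¹))) (by
          simp only [map_mul, map_inv]; exact hvZ)
        simp only [map_mul, map_inv, θz] at h
        exact h
    rcases huniq _ (hcg _) h with e | e <;> rw [e]
    · exact Or.inl (mul_inv_cancel _)
    · exact Or.inr (by rw [hcg, mul_inv_cancel_right]))
  have hQtop : ∀ k : K, k ∈ Q := by
    intro k
    have hm : ρ k ∈ Q.map ρ := by
      have m1 : (1 : P6) ∈ Q.map ρ := one_mem _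
      have mZ := mem_map_of_mem ρ hZ
      have mA := mem_map_of_mem ρ hA
      have mV := mem_map_of_mem ρ hvQ
      have mg : g ∈ Q.map ρ := mem_map_of_mem ρ haQ
      have mW := mul_mem (mul_mem mZ mV) (inv_mem mZ)
      have h := hgen _ (hcg k)
      simp only [words, List.mem_flatMap, List.mem_cons, List.not_mem_nil, or_false] at h
      obtain ⟨a3, ⟨a2, ⟨a1, ⟨a0, h0, h1⟩, h2⟩, h3⟩, h4⟩ := h
      have n0 : a0 ∈ Q.map ρ := by
        rcases h0 with e | e | e <;> rw [e]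
        exacts [m1, mZ, mul_mem mZ mZ]
      have n1 : a1 ∈ Q.map ρ := by
        rcases h1 with e | e <;> rw [e]
        exacts [n0, mul_mem n0 mA]
      have n2 : a2 ∈ Q.map ρ := by
        rcases h2 with e | e <;> rw [e]
        exacts [n1, mul_mem n1 mV]
      have n3 : a3 ∈ Q.map ρ := by
        rcases h3 with e | e <;> rw [e]
        exacts [n2, mul_mem n2 mW]
      rcases h4 with e | e <;> rw [e]
      exacts [n3, mul_mem n3 mg]
    obtain ⟨q, hq, hqk⟩ := hm
    have h1 : q⁻¹ * k ∈ Q := Qker _ (by rw [map_mul, map_inv, hqk, inv_mul_cancel])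
    simpa using mul_mem hq h1
  have key : ∀ k : K, (k : G)⁻¹ * (S.φ hP * (k : G) * S.φ hP) = 1 ∨
      (k : G)⁻¹ * (S.φ hP * (k : G) * S.φ hP) = S.φ dP := by
    intro k
    set c : K := k⁻¹ * θ k with hcdef
    have hcval : ((c : K) : G) = (k : G)⁻¹ * (S.φ hP * (k : G) * S.φ hP) := by rw [hcdef, ← θval]; rfl
    have hcu : InU2 g (ρ c) := by
      rcases hQtop k with e | e
      · exact Or.inl (by rw [hcdef, map_mul, map_inv, mul_inv_eq_one.1 e, inv_mul_cancel])
      · refine Or.inr ?_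
        rw [hcdef, map_mul, map_inv, mul_inv_eq_iff_eq_mul.1 e, ← hcg, inv_mul_cancel_left]
    have hfix : θ c = c⁻¹ := Subtype.ext (by
      rw [θval, Subgroup.coe_inv, hcval, mul_inv_rev, mul_inv_rev, mul_inv_rev, inv_inv, hhinv]
      calc S.φ hP * ((k : G)⁻¹ * (S.φ hP * (k : G) * S.φ hP)) * S.φ hP
          = S.φ hP * (k : G)⁻¹ * S.φ hP * (k : G) * (S.φ hP * S.φ hP) := by group
        _ = _ := by rw [← map_mul, hh2, map_one, mul_one]; group)
    have hsq : aK⁻¹ = aK ∧ tK⁻¹ = tK := ⟨inv_eq_of_mul_eq_one_right sqK, inv_eq_of_mul_eq_one_right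
      (Subtype.ext (show S.φ tP * S.φ tP = 1 by rw [← map_mul, tsq, map_one]))⟩
    have hcc : c = 1 ∨ c = tK ∨ c = aK ∨ c = tK * aK := by
      rcases hcu with e | e
      · rcases (hker c).1 e with h | h
        · exact Or.inl h
        · exact Or.inr (Or.inl h)
      · rcases (hker (c * aK)).1 (by rw [map_mul, e, ← hg, gg]) with h | h
        · exact Or.inr (Or.inr (Or.inl (by rw [← hsq.1]; exact eq_inv_of_mul_eq_one_left h)))
        · exact Or.inr (Or.inr (Or.inr (by rw [← h, mul_assoc, sqK, mul_one])))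
    rw [← hcval]
    rcases hcc with h | h | h | h
    · exact Or.inl (by rw [h]; rfl)
    · exfalso
      rw [h, θt, hsq.2] at hfix
      exact a2t' (S.inj (congrArg Subtype.val hfix))
    · exfalso
      rw [h, θa, hsq.1] at hfix
      exact a2t' (S.inj (congrArg Subtype.val hfix)).symm
    · exact Or.inr (by rw [h, ← htd, map_mul]; rfl)
  have dcomm : ∀ k : K, (k : G) * S.φ dP = S.φ dP * (k : G) := fun k => by
    rw [← htd, map_mul]
    exact ((show Commute (k : G) _ from ((memK _).1 k.2).1).mul_right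
      (show Commute (k : G) _ from ((memK _).1 k.2).2)).eq
  let δ : K →* G := MonoidHom.mk' (fun k => (k : G)⁻¹ * (S.φ hP * (k : G) * S.φ hP)) fun a b => by
    show ((a * b : K) : G)⁻¹ * (S.φ hP * ((a * b : K) : G) * S.φ hP) = _
    have hc : (b : G)⁻¹ * ((a : G)⁻¹ * (S.φ hP * (a : G) * S.φ hP)) =
        ((a : G)⁻¹ * (S.φ hP * (a : G) * S.φ hP)) * (b : G)⁻¹ := by
      rcases key a with e | e <;> rw [e]
      · rw [one_mul, mul_one]
      · exact ((show Commute (b : G) _ from dcomm b).inv_left).eq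
    rw [Subgroup.coe_mul, mul_inv_rev]
    calc (b : G)⁻¹ * (a : G)⁻¹ * (S.φ hP * ((a : G) * (b : G)) * S.φ hP)
        = (b : G)⁻¹ * (a : G)⁻¹ * (S.φ hP * (a : G) * (S.φ hP * S.φ hP) * (b : G) * S.φ hP) := by
          rw [← map_mul S.φ hP hP, hh2, map_one, mul_one]; group
      _ = ((b : G)⁻¹ * ((a : G)⁻¹ * (S.φ hP * (a : G) * S.φ hP))) * (S.φ hP * (b : G) * S.φ hP) := by group
      _ = _ := by rw [hc]; group
  have hK96 : Nat.card K = 96 := by
    have hk2 : Nat.card ρ.ker = 2 := by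
      rw [show Nat.card ρ.ker = ((ρ.ker : Subgroup K) : Set K).ncard from Nat.card_coe_set_eq _,
        show ((ρ.ker : Subgroup K) : Set K) = {1, tK} from Set.ext fun k => hker k]
      exact Set.ncard_pair fun e => tne (S.inj ((congrArg Subtype.val e.symm).trans (map_one _).symm))
    have hr : Nat.card ρ.range = 48 := by
      rw [show Nat.card ρ.range = ((ρ.range : Subgroup P6) : Set P6).ncard from Nat.card_coe_set_eq _,
        show ((ρ.range : Subgroup P6) : Set P6) = ↑(Finset.univ.filter fun x : P6 => x * g = g * x) from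
          Set.ext fun x => ⟨fun ⟨k, hk⟩ => by simpa [← hk] using hcg k, fun hx => hrange x (by simpa using hx)⟩,
        Set.ncard_coe_finset]
      rcases hgstd with e | e <;> rw [e]
      exacts [cent_card.1, cent_card.2]
    rw [← ρ.ker.card_mul_index, hk2, index_ker, hr]
  have hδ : Nat.card δ.range ≤ 2 := by
    have hsub : ((δ.range : Subgroup G) : Set G) ⊆ {1, S.φ dP} := by
      rintro _ ⟨k, rfl⟩; exact key k
    have h1 := Set.ncard_le_ncard hsub (Set.toFinite _)
    rw [← Nat.card_coe_set_eq] at h1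
    exact h1.trans ((Set.ncard_insert_le _ _).trans (by rw [Set.ncard_singleton]))
  refine ⟨δ.ker.map K.subtype, ?_, ?_⟩
  · have h1 := δ.ker.card_mul_index
    rw [index_ker, hK96] at h1
    rw [← Nat.card_congr (δ.ker.equivMapOfInjective _ (subtype_injective K)).toEquiv]
    have h0 : Nat.card δ.range ≠ 0 := Nat.card_pos.ne'
    rcases (show Nat.card δ.range = 1 ∨ Nat.card δ.range = 2 by omega) with e | e <;> rw [e] at h1 <;> omega
  · rintro _ ⟨k, hk, rfl⟩
    refine ⟨dcomm k, ?_, ((memK _).1 k.2).1⟩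
    have e : (k : G)⁻¹ * (S.φ hP * (k : G) * S.φ hP) = 1 := hk
    show (k : G) * S.φ hP = S.φ hP * (k : G)
    conv_lhs => rw [inv_mul_eq_one.1 e]
    rw [mul_assoc, ← map_mul, hh2, map_one, mul_one]

end Data8

end Cfsg.Agent.Lib.EightThree88.Sym
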