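import Cfsg.Agent.Lib.EightThree88.SymExclOdd
import Cfsg.Agent.Lib.EightThree88.SymExclLocal
import Cfsg.Agent.Lib.Spectrum.SelfThree.Main

/-!
# The crossed swap is incompatible with a large centraliser of `tau`
-/

set_option autoImplicit false
set_option maxHeartbeats 800000
set_option maxRecDepth 100000
set_option synthInstance.maxSize 2000
set_option synthInstance.maxHeartbeats 400000

namespace Cfsg.Agent.Lib.EightThree88.Sym

open Subgroup Model Equiv

universe u

/-- `(23)` -/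
def uQ : Pr := (1, swap 2 3)

theorem excl_facts :
    uQ * uQ = 1 ∧ uQ * dP * uQ = dQ ∧ uQ * hP * uQ = hQ ∧ zP * dQ = dQ * zP ∧ zP * hQ = hQ * zP ∧
    a1P * dQ = dQ * a1P ∧ a1P * hQ = hQ * a1P ∧ dQ * hQ = hQ * dQ ∧ ¬ InE zP ∧
    a1P * (zP * wP ^ 2) * a1P⁻¹ = (zP * wP)⁻¹ := by decide +kernel

theorem E_comm : ∀ k : Pr, InE k → k * dQ = dQ * k ∧ k * hQ = hQ * k ∧ k * (uQ * tP * uQ) = uQ * tP * uQ * k →
    k = 1 ∨ k = dQ := by decide +kernel

theorem E_cent : ∀ k : Pr, InE k → k * dQ = dQ * k ∧ k * hQ = hQ * k ∧ k * zP = zP * k := by decide +kernel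

theorem E_D : ∀ a : Pr, InD a → ∀ k : Pr, InE k → InE (a⁻¹ * k * a) := by decide +kernel

theorem z_line : ∀ k : Pr, k * zP = zP * k → k * dQ = dQ * k → k * hQ = hQ * k →
    ∃ i : Fin 3, InE (k * zP ^ i.val) := by decide +kernel

theorem card_InE : (Finset.univ.filter InE).card = 4 := by decide +kernel

theorem sylow_seven : ∀ n : Fin 97, n.val ∣ 96 → n.val % 7 = 1 → ¬ 3 ∣ n.val := by decide +kernel

theorem units_seven : ∀ i : Fin 7, i.val ^ 3 % 7 = 1 → i.val = 1 ∨ i.val = 2 ∨ i.val = 4 := by decide +kernel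

variable {G : Type u} [Group G] [Finite G]

namespace Data8

/-- The case of a crossed swap with `C(tau)/<tau>` symmetric of degree six does not occur. -/
theorem sym_excl (S : Data8 G) (hX : S.n * S.φ a1P * S.n⁻¹ = S.φ (a2P * tP)) (hbig : Big S) : False := by
  classical
  obtain ⟨uu, hud, huh, zd, zh, ad, ah, edh, zE, hzw2⟩ := excl_facts
  obtain ⟨-, -, -, -, -, -, -, -, -, -, z3, w3, zne, -, hzw, -⟩ := a_facts
  have : Fact (Nat.Prime 3) := ⟨Nat.prime_three⟩
  have : Fact (Nat.Prime 7) := ⟨by norm_num⟩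
  let X : Subgroup G := centralizer ({S.φ dQ} : Set G) ⊓ centralizer ({S.φ hQ} : Set G)
  have memX : ∀ g, g ∈ X ↔ g * S.φ dQ = S.φ dQ * g ∧ g * S.φ hQ = S.φ hQ * g := fun g => by
    show g ∈ centralizer ({S.φ dQ} : Set G) ∧ g ∈ centralizer ({S.φ hQ} : Set G) ↔ _
    rw [mem_centralizer_singleton_iff, mem_centralizer_singleton_iff]
  have memX' : ∀ g, g ∈ X → ∀ k, InE k → g * S.φ k = S.φ k * g := by
    intro g hg k hk
    obtain ⟨h1, h2⟩ := (memX g).1 hg
    rcases hk with e | e | e | e <;> rw [e]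
    · rw [map_one, mul_one, one_mul]
    · exact h1
    · exact h2
    · rw [map_mul]; exact ((show Commute g _ from h1).mul_right (show Commute g _ from h2)).eq
  have mX : ∀ k : Pr, k * dQ = dQ * k → k * hQ = hQ * k → S.φ k ∈ X := fun k h1 h2 =>
    (memX _).2 ⟨S.φ_comm h1, S.φ_comm h2⟩
  have hzX : S.φ zP ∈ X := mX _ zd zh
  have haX : S.φ a1P ∈ X := mX _ ad ah
  -- `D` normalises `X`
  have hDX : ∀ a : Pr, InD a → ∀ g ∈ X, S.φ a * g * (S.φ a)⁻¹ ∈ X := by
    intro a ha g hg
    have h : ∀ k, InE k → Commute (S.φ a * g * (S.φ a)⁻¹) (S.φ k) := by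
      intro k hk
      have e : S.φ k = S.φ a * S.φ (a⁻¹ * k * a) * (S.φ a)⁻¹ := by
        rw [map_mul, map_mul, map_inv]; group
      rw [e]
      exact (Commute.conj_iff _).2 (show Commute g _ from memX' g hg _ (E_D a ha k hk))
    exact (memX _).2 ⟨(h _ (Or.inr (Or.inl rfl))).eq, (h _ (Or.inr (Or.inr (Or.inl rfl)))).eq⟩
  -- the four group
  let Ep : Subgroup Pr :=
    { carrier := {a | InE a}
      one_mem' := Or.inl rfl
      mul_mem' := fun {a b} ha hb => E_mul a ha b hb
      inv_mem' := fun {a} ha => (E_norm a ha).2.2.2 }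
  let E' : Subgroup G := Ep.map S.φ
  have hEX : E' ≤ X := by
    rintro _ ⟨k, hk, rfl⟩
    exact mX _ (E_cent k hk).1 (E_cent k hk).2.1
  have memE' : ∀ g, g ∈ E' ↔ ∃ k, InE k ∧ g = S.φ k := fun g =>
    ⟨fun ⟨k, hk, e⟩ => ⟨k, hk, e.symm⟩, fun ⟨k, hk, e⟩ => ⟨k, hk, e.symm⟩⟩
  let EX : Subgroup X := E'.subgroupOf X
  have hEXn : EX.Normal := ⟨fun m hm g => by
    obtain ⟨k, hk, hmk⟩ := (memE' _).1 (mem_subgroupOf.1 hm)
    refine mem_subgroupOf.2 ((memE' _).2 ⟨k, hk, ?_⟩)
    show (g : G) * (m : G) * (g : G)⁻¹ = S.φ k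
    rw [hmk, memX' _ g.2 k hk, mul_inv_cancel_right]⟩
  have hE4 : Nat.card EX = 4 := by
    rw [Nat.card_congr (subgroupOfEquivOfLe hEX).toEquiv,
      Nat.card_congr (Ep.equivMapOfInjective S.φ S.inj).toEquiv.symm, ← card_InE, ← Fintype.card_subtype,
      ← Nat.card_eq_fintype_card]
    rfl
  let q : X →* X ⧸ EX := QuotientGroup.mk' EX
  have hq : ∀ x : X, q x = 1 ↔ ∃ k, InE k ∧ (x : G) = S.φ k := fun x =>
    (QuotientGroup.eq_one_iff x).trans (mem_subgroupOf.trans (memE' _))
  let zX : X := ⟨S.φ zP, hzX⟩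
  have hsc : Cfsg.Agent.Lib.Spectrum.SelfThree.SC (q zX) := by
    refine ⟨orderOf_eq_prime ?_ ?_, ?_⟩
    · rw [← map_pow, show zX ^ 3 = 1 from Subtype.ext (show S.φ zP ^ 3 = 1 by rw [← map_pow, z3, map_one]),
        map_one]
    · intro h
      obtain ⟨k, hk, hke⟩ := (hq _).1 h
      exact zE (S.inj hke ▸ hk)
    · intro y hy
      obtain ⟨x, rfl⟩ := QuotientGroup.mk'_surjective EX y
      have h1 : q (x * zX * x⁻¹ * zX⁻¹) = 1 := by
        rw [map_mul, map_mul, map_mul, map_inv, map_inv, mul_inv_eq_one, mul_inv_eq_iff_eq_mul]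
        exact hy
      obtain ⟨k, hk, hke⟩ := (hq _).1 h1
      have h2 : (x : G) * S.φ zP * (x : G)⁻¹ = S.φ (k * zP) := by
        rw [map_mul]; exact mul_inv_eq_iff_eq_mul.1 hke
      have h3 : (k * zP) ^ 3 = 1 := S.inj (by
        rw [map_one, map_pow, ← h2, conj_pow, ← map_pow, z3, map_one]; group)
      have hk1 : k = 1 := by
        rw [(show Commute k zP from (E_cent k hk).2.2).mul_pow, z3, mul_one] at h3
        exact (by decide +kernel : ∀ k : Pr, InE k → k ^ 3 = 1 → k = 1) k hk h3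
      rw [hk1, one_mul, mul_inv_eq_iff_eq_mul] at h2
      obtain ⟨m, hm, hxm⟩ := S.cent_z' h2
      obtain ⟨hx1, hx2⟩ := (memX _).1 x.2
      rw [hxm, ← map_mul, ← map_mul] at hx1 hx2
      obtain ⟨i, hi⟩ := z_line m hm (S.inj hx1) (S.inj hx2)
      have h4 : q (x * zX ^ i.val) = 1 := (hq _).2 ⟨_, hi, by
        show (x : G) * (S.φ zP) ^ i.val = _
        rw [hxm, map_mul, map_pow]⟩
      rw [map_mul, map_pow] at h4
      rw [eq_inv_of_mul_eq_one_left h4]
      exact inv_mem (pow_mem (mem_zpowers _) _)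
  -- a large subgroup
  obtain ⟨L, hL, hLc⟩ := S.exists_large hbig
  have hU : S.φ uQ * S.φ uQ = 1 := by rw [← map_mul, uu, map_one]
  have hui : (S.φ uQ)⁻¹ = S.φ uQ := inv_eq_of_mul_eq_one_right hU
  let L' : Subgroup G := L.map (MulAut.conj (S.φ uQ)).toMonoidHom
  have hL' : ∀ g ∈ L', g ∈ X ∧ g * S.φ (uQ * tP * uQ) = S.φ (uQ * tP * uQ) * g := by
    rintro _ ⟨l, hl, rfl⟩
    obtain ⟨l1, l2, l3⟩ := hLc l hl
    have tr : ∀ a b : Pr, uQ * a * uQ = b → l * S.φ a = S.φ a * l →
        Commute (S.φ uQ * l * (S.φ uQ)⁻¹) (S.φ b) := by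
      intro a b e hla
      have e' : S.φ b = S.φ uQ * S.φ a * (S.φ uQ)⁻¹ := by rw [hui, ← e, map_mul, map_mul]
      rw [e']
      exact (Commute.conj_iff _).2 hla
    exact ⟨(memX _).2 ⟨(tr _ _ hud l1).eq, (tr _ _ huh l2).eq⟩, (tr _ _ rfl l3).eq⟩
  let LX : Subgroup X := L'.subgroupOf X
  let qL : LX →* X ⧸ EX := q.comp LX.subtype
  have hLcard : Nat.card LX = 48 ∨ Nat.card LX = 96 := by
    rw [Nat.card_congr (subgroupOfEquivOfLe fun g hg => (hL' g hg).1).toEquiv,
      ← Nat.card_congr (L.equivMapOfInjective _ (MulAut.conj (S.φ uQ)).injective).toEquiv]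
    exact hL
  have hkerL : Nat.card qL.ker ≤ 2 := by
    have hsub : ∀ x : qL.ker, ((x.1.1 : X) : G) = 1 ∨ ((x.1.1 : X) : G) = S.φ dQ := by
      intro x
      obtain ⟨k, hk, hke⟩ := (hq x.1.1).1 x.2
      have h := (hL' _ (mem_subgroupOf.1 x.1.2)).2
      rw [hke, ← map_mul, ← map_mul] at h
      rcases E_comm k hk ⟨(E_cent k hk).1, (E_cent k hk).2.1, S.inj h⟩ with e | e <;> rw [hke, e]
      · exact Or.inl (map_one _)
      · exact Or.inr rfl
    let f : qL.ker → Bool := fun x => decide (((x.1.1 : X) : G) = 1)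
    have hf : Function.Injective f := by
      intro x y hxy
      simp only [f, decide_eq_decide] at hxy
      refine Subtype.ext (Subtype.ext (Subtype.ext ?_))
      by_cases h : ((x.1.1 : X) : G) = 1
      · rw [h, hxy.1 h]
      · rw [(hsub x).resolve_left h, (hsub y).resolve_left (fun e => h (hxy.2 e))]
    have h1 := Nat.card_le_card_of_injective f hf
    rwa [Nat.card_eq_fintype_card (α := Bool), Fintype.card_bool] at h1
  have him : ∃ m, (m = 24 ∨ m = 48 ∨ m = 96) ∧ m ∣ Nat.card (X ⧸ EX) := by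
    refine ⟨Nat.card qL.range, ?_, card_subgroup_dvd_card _⟩
    have h1 := qL.ker.card_mul_index
    rw [index_ker] at h1
    have h2 : Nat.card qL.ker ≠ 0 := Nat.card_pos.ne'
    rcases (show Nat.card qL.ker = 1 ∨ Nat.card qL.ker = 2 by omega) with e | e <;> rw [e] at h1 <;>
      rcases hLcard with e' | e' <;> rw [e'] at h1 <;> omega
  -- the normal subgroups of order prime to three
  obtain ⟨M, hM, hMmax⟩ := ({N : Subgroup X | N.Normal ∧ ¬ 3 ∣ Nat.card N} : Set (Subgroup X)).exists_max_image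
    (fun N => Nat.card N) (Set.toFinite _) ⟨EX, hEXn, by rw [hE4]; norm_num⟩
  obtain ⟨hMn, hM3⟩ := hM
  have hle : ∀ N : Subgroup X, N.Normal → ¬ 3 ∣ Nat.card N → N ≤ M := by
    intro N hN hN3
    have hn : (N ⊔ M).Normal := sup_normal N M
    have hcard : Nat.card (N ⊔ M : Subgroup X) = M.relIndex N * Nat.card M := by
      rw [← relIndex_sup_right (H := N) (K := M), mul_comm]
      rw [← relIndex_bot_left (N ⊔ M), ← relIndex_bot_left M]
      exact (relIndex_mul_relIndex ⊥ M (N ⊔ M) bot_le le_sup_right).symm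
    have h3 : ¬ 3 ∣ Nat.card (N ⊔ M : Subgroup X) := by
      rw [hcard, Nat.prime_three.dvd_mul]
      exact not_or.2 ⟨fun h => hN3 (h.trans (relIndex_dvd_card M N)), hM3⟩
    have h1 := eq_of_le_of_card_ge (le_sup_right : M ≤ N ⊔ M) (hMmax _ ⟨hn, h3⟩)
    exact h1 ▸ le_sup_left
  let O : Subgroup G := M.map X.subtype
  have hOX : O ≤ X := map_subtype_le M
  have hO3 : ¬ 3 ∣ Nat.card O := by
    rw [← Nat.card_congr (M.equivMapOfInjective _ (subtype_injective X)).toEquiv]; exact hM3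
  have hnormX : ∀ g ∈ X, g ∈ normalizer (O : Set G) := by
    intro g hg
    rw [mem_normalizer_iff_map_conj_eq]
    refine eq_of_le_of_card_ge ?_ (le_of_eq (Nat.card_congr (O.equivMapOfInjective _ (MulAut.conj g).injective).toEquiv))
    rintro _ ⟨_, ⟨x, hx, rfl⟩, rfl⟩
    exact ⟨⟨g, hg⟩ * x * ⟨g, hg⟩⁻¹, hMn.conj_mem x hx _, rfl⟩
  have hnormw : S.φ wP ∈ normalizer (O : Set G) := by
    have hwD : InD wP := Or.inr (Or.inr (Or.inr (Or.inl rfl)))
    let σ : X →* X := ((MulAut.conj (S.φ wP)).toMonoidHom.comp X.subtype).codRestrict X fun x =>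
      hDX wP hwD _ x.2
    have σinj : Function.Injective σ := fun a b h =>
      Subtype.ext ((MulAut.conj (S.φ wP)).injective (congrArg Subtype.val h))
    have σsurj : Function.Surjective σ := Finite.surjective_of_injective σinj
    have h1 : M.map σ ≤ M := hle _ (hMn.map σ σsurj) (by
      rw [← Nat.card_congr (M.equivMapOfInjective σ σinj).toEquiv]; exact hM3)
    rw [mem_normalizer_iff_map_conj_eq]
    refine eq_of_le_of_card_ge ?_
      (le_of_eq (Nat.card_congr (O.equivMapOfInjective _ (MulAut.conj (S.φ wP)).injective).toEquiv))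
    rintro _ ⟨_, ⟨x, hx, rfl⟩, rfl⟩
    exact ⟨σ x, h1 (mem_map_of_mem σ hx), rfl⟩
  have hOE := S.three_prime_le hX O (fun g hg => (memX g).1 (hOX hg)) hO3 (hnormX _ hzX) hnormw (hnormX _ haX)
  have hnobot : ∀ N : Subgroup (X ⧸ EX), N.Normal → ¬ 3 ∣ Nat.card N → N = ⊥ := by
    intro N hN hN3
    have h1 : N.comap q ≤ M := by
      refine hle _ (hN.comap q) ?_
      have hc : Nat.card (N.comap q) = Nat.card EX * Nat.card N := by
        let r : N.comap q →* N := (q.comp (N.comap q).subtype).codRestrict N fun x => x.2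
        have hr : Function.Surjective r := fun y => by
          obtain ⟨x, hx⟩ := QuotientGroup.mk'_surjective EX y.1
          exact ⟨⟨x, by show q x ∈ N; rw [hx]; exact y.2⟩, Subtype.ext hx⟩
        rw [← r.ker.card_mul_index, index_ker, MonoidHom.range_eq_top.2 hr, card_top]
        congr 1
        refine Nat.card_congr ⟨fun x => ⟨x.1.1, (QuotientGroup.eq_one_iff _).1 (congrArg Subtype.val x.2)⟩,
          fun x => ⟨⟨x.1, by show q x.1 ∈ N; rw [show q x.1 = 1 from (QuotientGroup.eq_one_iff _).2 x.2]; exact one_mem _⟩,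
            Subtype.ext ((QuotientGroup.eq_one_iff _).2 x.2)⟩, fun x => rfl, fun x => rfl⟩
      rw [hc, hE4, Nat.prime_three.dvd_mul]
      exact not_or.2 ⟨by norm_num, hN3⟩
    rw [eq_bot_iff]
    intro y hy
    obtain ⟨x, rfl⟩ := QuotientGroup.mk'_surjective EX y
    exact mem_bot.2 ((hq x).2 (hOE _ ⟨x, h1 hy, rfl⟩))
  obtain ⟨m, hm, hmd⟩ := him
  rcases Cfsg.Agent.Lib.Spectrum.SelfThree.shape hsc with ⟨N, hN, hN3, hidx⟩ | ⟨N, hN, hN2, h60, -⟩ | ⟨h168, -⟩
  · rw [hnobot N hN hN3, index_bot] at hidx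
    rcases hm with rfl | rfl | rfl <;> rcases hidx with e | e <;> rw [e] at hmd <;> norm_num at hmd
  · have h3 : ¬ 3 ∣ Nat.card N := by
      intro h
      obtain ⟨⟨y, hyN⟩, hy⟩ := exists_prime_orderOf_dvd_card' (G := N) 3 h
      rw [← Subgroup.orderOf_coe] at hy
      have h2 := orderOf_dvd_of_pow_eq_one (hN2 y hyN)
      rw [hy] at h2
      norm_num at h2
    have hb := hnobot N hN h3
    subst hb
    rw [Nat.card_congr QuotientGroup.quotientBot.toEquiv] at h60
    rw [h60] at hmd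
    rcases hm with rfl | rfl | rfl <;> norm_num at hmd
  · -- `D` fixes a subgroup of order seven
    have hX672 : Nat.card X = 672 := by
      rw [← EX.card_mul_index, hE4, index_eq_card, h168]
    let A := {P : Subgroup G // P ≤ X ∧ Nat.card P = 7}
    let Dp : Subgroup Pr :=
      { carrier := {a | InD a}
        one_mem' := InD_closed.1
        mul_mem' := fun {a b} ha hb => InD_closed.2.2 a ha b hb
        inv_mem' := fun {a} ha => (InD_mul a ha).1 }
    letI : MulAction Dp A :=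
      { smul := fun a P => ⟨P.1.map (MulAut.conj (S.φ a)).toMonoidHom, by
          rintro _ ⟨g, hg, rfl⟩
          exact hDX a a.2 g (P.2.1 hg), by
          rw [← Nat.card_congr (P.1.equivMapOfInjective _ (MulAut.conj (S.φ a)).injective).toEquiv]
          exact P.2.2⟩
        one_smul := fun P => Subtype.ext (by
          show P.1.map (MulAut.conj (S.φ ((1 : Dp) : Pr))).toMonoidHom = P.1
          ext g; simp)
        mul_smul := fun a b P => Subtype.ext (by
          show P.1.map (MulAut.conj (S.φ ((a * b : Dp) : Pr))).toMonoidHom =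
            (P.1.map (MulAut.conj (S.φ b)).toMonoidHom).map (MulAut.conj (S.φ a)).toMonoidHom
          rw [map_map]
          congr 1
          ext g; simp [mul_assoc]) }
    have hDp : IsPGroup 3 Dp := IsPGroup.of_card (n := 2) (by
      rw [show (3 : ℕ) ^ 2 = 9 by norm_num, ← card_InD, ← Fintype.card_subtype, ← Nat.card_eq_fintype_card]
      rfl)
    have hfac : (Nat.card X).factorization 7 = 1 := by
      rw [hX672, show (672 : ℕ) = 7 ^ 1 * 96 by norm_num, Nat.factorization_mul (by norm_num) (by norm_num)]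
      simp [Nat.Prime.factorization_self (show Nat.Prime 7 by norm_num),
        Nat.factorization_eq_zero_of_not_dvd (show ¬ 7 ∣ 96 by norm_num)]
    have hsy : ∀ P : Sylow 7 X, Nat.card (P : Subgroup X) = 7 := fun P => by
      rw [P.card_eq_multiplicity, hfac, pow_one]
    let e : Sylow 7 X → A := fun P => ⟨(P : Subgroup X).map X.subtype, map_subtype_le _, by
      rw [← Nat.card_congr ((P : Subgroup X).equivMapOfInjective _ (subtype_injective X)).toEquiv]; exact hsy P⟩
    have ebij : Function.Bijective e := by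
      constructor
      · intro P Q h
        exact Sylow.ext (map_injective (subtype_injective X) (congrArg Subtype.val h))
      · rintro ⟨P, hPX, hP⟩
        refine ⟨Sylow.ofCard (P.subgroupOf X) (by
          rw [hfac, pow_one, Nat.card_congr (subgroupOfEquivOfLe hPX).toEquiv, hP]), Subtype.ext ?_⟩
        show (P.subgroupOf X).map X.subtype = P
        rw [subgroupOf_map_subtype, inf_eq_left.2 hPX]
    have hA : ¬ 3 ∣ Nat.card A := by
      rw [← Nat.card_congr (Equiv.ofBijective e ebij)]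
      obtain ⟨P⟩ := (inferInstance : Nonempty (Sylow 7 X))
      have h1 := card_sylow_modEq_one 7 X
      have h2 := P.card_dvd_index
      have h3 : (P : Subgroup X).index = 96 := by
        have := (P : Subgroup X).card_mul_index
        rw [hsy P, hX672] at this
        omega
      rw [h3] at h2
      exact sylow_seven ⟨_, Nat.lt_succ_of_le (Nat.le_of_dvd (by norm_num) h2)⟩ h2 h1
    obtain ⟨⟨P, hPX, hP⟩, hfix⟩ := hDp.nonempty_fixed_point_of_prime_not_dvd_card A hA
    have hconjP : ∀ a : Pr, InD a → ∀ g ∈ P, S.φ a * g * (S.φ a)⁻¹ ∈ P := by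
      intro a ha g hg
      have h := congrArg Subtype.val (hfix ⟨a, ha⟩)
      change P.map (MulAut.conj (S.φ a)).toMonoidHom = P at h
      rw [← h]
      exact mem_map_of_mem _ hg
    obtain ⟨⟨r, hrP⟩, hr⟩ := exists_prime_orderOf_dvd_card' (G := P) 7 (by rw [hP])
    rw [← Subgroup.orderOf_coe] at hr
    change orderOf r = 7 at hr
    have hgen : zpowers r = P := eq_of_le_of_card_ge (zpowers_le.2 hrP) (by rw [hP, Nat.card_zpowers, hr])
    have pow_mod : ∀ i, r ^ i = r ^ (i % 7) := fun i => by rw [← hr, pow_mod_orderOf]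
    have hpw : ∀ a : Pr, InD a → ∃ i : Fin 7, S.φ a * r * (S.φ a)⁻¹ = r ^ i.val ∧
        (i.val = 1 ∨ i.val = 2 ∨ i.val = 4) := by
      intro a ha
      have h := hconjP a ha r hrP
      rw [← hgen, mem_zpowers_iff_mem_range_orderOf, hr, Finset.mem_image] at h
      obtain ⟨i, hi, hie⟩ := h
      refine ⟨⟨i, Finset.mem_range.1 hi⟩, hie.symm, units_seven _ ?_⟩
      show i ^ 3 % 7 = 1
      have step : ∀ j, S.φ a * r ^ j * (S.φ a)⁻¹ = r ^ (i * j) := fun j => by rw [← conj_pow, ← hie, ← pow_mul]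
      have e3 : r ^ (i ^ 3) = r ^ 1 := by
        rw [pow_succ', pow_two, ← step, ← step, hie, pow_one]
        have ha3 : S.φ a * (S.φ a * S.φ a) = 1 := by
          rw [← map_mul, ← map_mul, ← pow_two, ← pow_succ', (InD_three a ha).1, map_one]
        calc S.φ a * (S.φ a * (S.φ a * r * (S.φ a)⁻¹) * (S.φ a)⁻¹) * (S.φ a)⁻¹
            = (S.φ a * (S.φ a * S.φ a)) * r * (S.φ a * (S.φ a * S.φ a))⁻¹ := by group
          _ = r := by rw [ha3]; group
      have h7 := pow_eq_pow_iff_modEq.1 e3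
      rw [hr] at h7
      exact h7
    have no7 : ∀ a : Pr, Nat.card (centralizer ({S.φ a} : Set G)) = 360 ∨
        Nat.card (centralizer ({S.φ a} : Set G)) = 36 → S.φ a * r * (S.φ a)⁻¹ ≠ r := by
      intro a hc h
      have hm : r ∈ centralizer ({S.φ a} : Set G) :=
        mem_centralizer_singleton_iff.2 (mul_inv_eq_iff_eq_mul.1 h).symm
      have := hr ▸ (centralizer ({S.φ a} : Set G)).orderOf_dvd_natCard hm
      rcases hc with e | e <;> rw [e] at this <;> norm_num at this
    obtain ⟨i, hi, hi'⟩ := hpw zP (Or.inr (Or.inl rfl))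
    obtain ⟨j, hj, hj'⟩ := hpw wP (Or.inr (Or.inr (Or.inr (Or.inl rfl))))
    have ezw : S.φ (zP * wP) * r * (S.φ (zP * wP))⁻¹ = r ^ (i.val * j.val) := by
      rw [pow_mul, ← hi, conj_pow, ← hj, map_mul]; group
    have ezw2 : S.φ (zP * wP ^ 2) * r * (S.φ (zP * wP ^ 2))⁻¹ = r ^ (i.val * (j.val * j.val)) := by
      rw [pow_mul, ← hi, conj_pow, pow_mul, ← hj, conj_pow, ← hj, map_mul, map_pow, pow_two]; group
    have c2 : Nat.card (centralizer ({S.φ (zP * wP ^ 2)} : Set G)) = 36 := by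
      rw [← card_cent_conj (S.φ a1P), S.φ_conj, hzw2, map_inv, cent_inv]
      exact S.card_cy
    have to1 : ∀ n, n % 7 = 1 → r ^ n = r := fun n h => by rw [pow_mod, h, pow_one]
    rcases hi' with hi' | hi'
    · exact no7 _ (Or.inl S.card_cz) (by rw [hi, hi', pow_one])
    rcases hj' with hj' | hj'
    · exact no7 _ (Or.inl S.card_cw) (by rw [hj, hj', pow_one])
    rcases hi' with hi' | hi' <;> rcases hj' with hj' | hj'
    · exact no7 _ (Or.inr c2) (by rw [ezw2, hi', hj']; exact to1 _ rfl)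
    · exact no7 _ (Or.inr S.card_cy) (by rw [ezw, hi', hj']; exact to1 _ rfl)
    · exact no7 _ (Or.inr S.card_cy) (by rw [ezw, hi', hj']; exact to1 _ rfl)
    · exact no7 _ (Or.inr c2) (by rw [ezw2, hi', hj']; exact to1 _ rfl)

end Data8

end Cfsg.Agent.Lib.EightThree88.Sym
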