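import Cfsg.Agent.Lib.EightThree88.SymHalves
import Cfsg.Agent.Lib.Coprime.Generation

/-!
# Subgroups of order prime to three in the centraliser of a four group
-/

set_option autoImplicit false
set_option maxHeartbeats 800000
set_option maxRecDepth 100000
set_option synthInstance.maxSize 2000
set_option synthInstance.maxHeartbeats 400000

namespace Cfsg.Agent.Lib.EightThree88.Sym

open Subgroup Model Equiv

universe u

/-- `(01)(24)` -/
def dQ : Pr := ((1, swap 2 3) : Pr) * dP * (1, swap 2 3)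

/-- `(02)(14)` -/
def hQ : Pr := ((1, swap 2 3) : Pr) * hP * (1, swap 2 3)

/-- The four group `<(01)(24), (02)(14)>`. -/
def InE (k : Pr) : Prop := k = 1 ∨ k = dQ ∨ k = hQ ∨ k = dQ * hQ

instance : DecidablePred InE := fun k => by unfold InE; infer_instance

def kw (k : Pr) : Pr := wP * k * wP⁻¹
def kv (k : Pr) : Pr := wP⁻¹ * k * wP⁻¹⁻¹
def kd (k : Pr) : Pr := dP * k * dP⁻¹

/-- Products of conjugates, one of which has order divisible by three. -/
def badList (k : Pr) : List Pr :=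
  [k * kw k, k, k * kd k, k * kw (kd k), k * kv (kd k), k * kw k * kd k, k * kv k * kd k,
    k * kw k * kv (kd k), k * kw k * k * kv k]

/-- A test for order divisible by three. -/
def P20 (y : Pr) : Prop := y.2 ^ 4 ≠ 1 ∧ y.2 ^ 5 ≠ 1 ∨ y.1 * y.1 ≠ 1

instance : DecidablePred P20 := fun y => by unfold P20; infer_instance

theorem exp_six : (∀ a : Perm (Fin 3), a ^ 6 = 1) ∧
    ∀ b : Perm (Fin 5), b ^ 4 ≠ 1 → b ^ 5 ≠ 1 → b ^ 6 = 1 ∧ b ^ 2 ≠ 1 := by decide +kernel

theorem line_w : ∀ k : Pr, k * zP = zP * k → k * wP = wP * k ∨ ∃ y ∈ badList k, P20 y := by decide +kernel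

theorem line_z : ∀ k : Pr, k * zP = zP * k → k * dQ = dQ * k → k * hQ = hQ * k →
    InE k ∨ (k * zP) * (k * zP) = 1 ∨ (k * zP⁻¹) * (k * zP⁻¹) = 1 := by decide +kernel

theorem line_y : ∀ k : Pr, InC k → k * hQ = hQ * k → k ^ 3 = 1 := by decide +kernel

theorem E_w : ∀ k : Pr, InE k → k * wP = wP * k → k = 1 := by decide +kernel

theorem E_norm : ∀ k : Pr, InE k →
    InE (zP * k * zP⁻¹) ∧ InE (wP * k * wP⁻¹) ∧ InE (a1P * k * a1P⁻¹) ∧ InE k⁻¹ := by decide +kernel

theorem E_mul : ∀ a : Pr, InE a → ∀ b : Pr, InE b → InE (a * b) := by decide +kernel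

theorem sq_of_pow {M : Type} [Monoid M] {N : ℕ} (h3 : ¬ 3 ∣ N) (a : M) (h1 : a ^ N = 1)
    (h6 : a ^ 6 = 1) : a ^ 2 = 1 := by
  refine orderOf_dvd_iff_pow_eq_one.1 ?_
  refine Nat.Coprime.dvd_of_dvd_mul_left (m := 3) ?_ (show orderOf a ∣ 3 * 2 from orderOf_dvd_of_pow_eq_one h6)
  exact ((Nat.prime_three.coprime_iff_not_dvd.2 h3).symm.coprime_dvd_left (orderOf_dvd_of_pow_eq_one h1))

variable {G : Type u} [Group G] [Finite G]

/-- An element of a subgroup of order prime to three fails the test. -/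
theorem not_P20 {O : Subgroup G} (h3 : ¬ 3 ∣ Nat.card O) {ψ : Pr →* G} (hψ : Function.Injective ψ)
    {y : Pr} (hy : ψ y ∈ O) : ¬ P20 y := by
  have hN : y ^ Nat.card O = 1 := hψ (by
    rw [map_pow, map_one]
    exact orderOf_dvd_iff_pow_eq_one.1 (O.orderOf_dvd_natCard hy))
  rintro (⟨h4, h5⟩ | h)
  · obtain ⟨h6, h2⟩ := exp_six.2 y.2 h4 h5
    exact h2 (sq_of_pow h3 _ (by rw [← Prod.pow_snd, hN]; rfl) h6)
  · exact h (by rw [← pow_two]; exact sq_of_pow h3 _ (by rw [← Prod.pow_fst, hN]; rfl) (exp_six.1 _))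

namespace Data8

/-- A subgroup of order prime to three centralising the four group and normalised by `z`, `w`, `a1`
lies in the four group. -/
theorem three_prime_le (S : Data8 G) (hX : S.n * S.φ a1P * S.n⁻¹ = S.φ (a2P * tP)) (O : Subgroup G)
    (hO : ∀ g ∈ O, g * S.φ dQ = S.φ dQ * g ∧ g * S.φ hQ = S.φ hQ * g) (h3 : ¬ 3 ∣ Nat.card O)
    (oz : S.φ zP ∈ normalizer (O : Set G)) (ow : S.φ wP ∈ normalizer (O : Set G))
    (oa : S.φ a1P ∈ normalizer (O : Set G)) : ∀ g ∈ O, ∃ e, InE e ∧ g = S.φ e := by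
  classical
  have : Fact (Nat.Prime 3) := ⟨Nat.prime_three⟩
  obtain ⟨a1sq, -, -, a1z, a1w, -, -, -, -, -, z3, w3, zne, wne, hzw, -⟩ := a_facts
  have conjO : ∀ {x : G}, x ∈ normalizer (O : Set G) → ∀ g ∈ O, x * g * x⁻¹ ∈ O := fun hx g hg =>
    (mem_normalizer_iff.1 hx g).1 hg
  have no3 : ∀ g ∈ O, g ^ 3 = 1 → g = 1 := by
    intro g hg hg3
    rcases (Nat.dvd_prime Nat.prime_three).1 (orderOf_dvd_of_pow_eq_one hg3) with e | e
    · exact orderOf_eq_one_iff.1 e
    · exact absurd (e ▸ O.orderOf_dvd_natCard hg) h3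
  have nz : ∀ g ∈ O, g * S.φ zP = S.φ zP * g → ∃ e, InE e ∧ g = S.φ e := by
    intro g hg hc
    obtain ⟨k, hk, rfl⟩ := S.cent_z' hc
    obtain ⟨hd, hh⟩ := hO _ hg
    have three : ∀ s : Pr, s ^ 3 = 1 → s ≠ 1 → s * k = k * s → (k * s) * (k * s) = 1 → False := by
      intro s s3 s1 hsk h
      refine s1 (S.inj ((no3 _ ?_ (by rw [← map_pow, s3, map_one])).trans (map_one _).symm))
      have hs : s = k * k := by
        have e1 : k * k = (k * s * (k * s)) * (s * s)⁻¹ := by
          rw [show k * s * (k * s) = k * (s * k) * s by group, hsk]; group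
        have e2 : s * (s * s) = 1 := by rw [← pow_two, ← pow_succ']; exact s3
        rw [e1, h, one_mul, ← eq_inv_of_mul_eq_one_left e2]
      rw [hs, map_mul]
      exact mul_mem hg hg
    rcases line_z k hk (S.inj (by rw [map_mul, map_mul]; exact hd)) (S.inj (by rw [map_mul, map_mul]; exact hh))
      with h | h | h
    · exact ⟨k, h, rfl⟩
    · exact (three _ z3 zne hk.symm h).elim
    · exact (three _ (by rw [inv_pow, z3, inv_one]) (inv_ne_one.2 zne)
        (show Commute zP⁻¹ k from (show Commute zP k from hk.symm).inv_left).eq h).elim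
  have ny : ∀ g ∈ O, g * S.φ (zP * wP) = S.φ (zP * wP) * g → g = 1 := by
    intro g hg hc
    obtain ⟨x, hx, e | e⟩ := S.cent_diag hc
    · refine no3 g hg ?_
      rw [e, ← map_pow, line_y x hx (S.inj (by rw [map_mul, map_mul, ← e]; exact (hO g hg).2)), map_one]
    · exfalso
      have hxz : x * zP * x⁻¹ = zP := mul_inv_eq_iff_eq_mul.2
        ((by decide +kernel : ∀ x : Pr, InC x → x * zP = zP * x) x hx)
      have h1 : g * (S.φ zP * g⁻¹ * (S.φ zP)⁻¹) ∈ O := mul_mem hg (conjO oz _ (inv_mem hg))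
      have h2 : g * (S.φ zP * g⁻¹ * (S.φ zP)⁻¹) = S.φ (wP * zP⁻¹) := by
        rw [e, map_mul, map_inv, ← S.n_z,
          show S.n * S.φ zP * S.n⁻¹ = S.n * S.φ (x * zP * x⁻¹) * S.n⁻¹ by rw [hxz], map_mul, map_mul, map_inv]
        group
      have hwz : (wP * zP⁻¹) ^ 3 = 1 ∧ wP * zP⁻¹ ≠ 1 := by decide +kernel
      rw [h2] at h1
      exact hwz.2 (S.inj ((no3 _ h1 (by rw [← map_pow, hwz.1, map_one])).trans (map_one _).symm))
  have ny' : ∀ g ∈ O, g * S.φ (zP * wP ^ 2) = S.φ (zP * wP ^ 2) * g → g = 1 := by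
    intro g hg hc
    have e : a1P * (zP * wP ^ 2) * a1P⁻¹ = (zP * wP)⁻¹ := by decide +kernel
    have h1 := ny _ (conjO oa g hg) (by
      have h2 : Commute (S.φ a1P * g * (S.φ a1P)⁻¹) (S.φ (zP * wP)⁻¹) := by
        rw [← e, map_mul, map_mul, map_inv]
        exact (Commute.conj_iff (S.φ a1P)).2 (show Commute g (S.φ (zP * wP ^ 2)) from hc)
      rw [map_inv] at h2
      exact ((Commute.inv_right_iff).1 h2).eq)
    exact conj_eq_one_iff.1 h1
  have nw : ∀ g ∈ O, g * S.φ wP = S.φ wP * g → g = 1 := by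
    intro g hg hc
    obtain ⟨k, hk, rfl⟩ := S.cent_w hc
    let ψ : Pr →* G := (MulAut.conj S.n).toMonoidHom.comp S.φ
    have ψinj : Function.Injective ψ := fun a b h => S.inj (mul_left_cancel (mul_right_cancel h))
    have ψw : ψ wP = S.φ zP := S.n_w
    have ψd : ψ dP = S.φ a1P := by
      show S.n * S.φ dP * S.n⁻¹ = _
      rw [halves_facts.1, ← hX, S.n_inv]
      calc S.n * (S.n * S.φ a1P * S.n) * S.n = (S.n * S.n) * S.φ a1P * (S.n * S.n) := by group
        _ = _ := by rw [S.n_sq, one_mul, mul_one]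
    have hψk : ψ k ∈ O := hg
    have step : ∀ c : Pr, ψ c ∈ normalizer (O : Set G) → ∀ y, ψ y ∈ O → ψ (c * y * c⁻¹) ∈ O := by
      intro c hc y hy
      rw [map_mul, map_mul, map_inv]
      exact conjO hc _ hy
    have sw : ψ wP ∈ normalizer (O : Set G) := ψw ▸ oz
    have sd : ψ dP ∈ normalizer (O : Set G) := ψd ▸ oa
    have sv : ψ wP⁻¹ ∈ normalizer (O : Set G) := by rw [map_inv]; exact inv_mem sw
    rcases line_w k hk with h | ⟨y, hy, hyP⟩
    · obtain ⟨e, he, hge⟩ := nz _ hg (show ψ k * S.φ zP = S.φ zP * ψ k by rw [← ψw, ← map_mul, ← map_mul, h])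
      rw [hge] at hc
      rw [hge, E_w e he (S.inj (by rw [map_mul, map_mul]; exact hc)), map_one]
    · refine absurd hyP (not_P20 h3 ψinj (y := y) ?_)
      have k1 := step _ sw _ hψk
      have k2 := step _ sv _ hψk
      have k3 := step _ sd _ hψk
      have k4 := step _ sw _ k3
      have k5 := step _ sv _ k3
      simp only [badList, List.mem_cons, List.not_mem_nil, or_false] at hy
      rcases hy with rfl | rfl | rfl | rfl | rfl | rfl | rfl | rfl | rfl <;>
        (try simp only [map_mul])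
      exacts [mul_mem hψk k1, hψk, mul_mem hψk k3, mul_mem hψk k4, mul_mem hψk k5,
        mul_mem (mul_mem hψk k1) k3, mul_mem (mul_mem hψk k2) k3, mul_mem (mul_mem hψk k1) k5,
        mul_mem (mul_mem (mul_mem hψk k1) hψk) k2]
  -- generation by the centralisers of the lines
  let Dp : Subgroup Pr :=
    { carrier := {a | InD a}
      one_mem' := InD_closed.1
      mul_mem' := fun {a b} ha hb => InD_closed.2.2 a ha b hb
      inv_mem' := fun {a} ha => (InD_mul a ha).1 }
  have hDp : Nat.card Dp = 3 ^ 2 := by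
    rw [show (3 : ℕ) ^ 2 = 9 by norm_num, ← card_InD, ← Fintype.card_subtype, ← Nat.card_eq_fintype_card]
    rfl
  have hcl : closure ({S.φ zP, S.φ wP} : Set G) ≤ Dp.map S.φ := by
    rw [closure_le]
    rintro _ (rfl | rfl)
    · exact ⟨zP, Or.inr (Or.inl rfl), rfl⟩
    · exact ⟨wP, Or.inr (Or.inr (Or.inr (Or.inl rfl))), rfl⟩
  have hcop : (Nat.card (closure ({S.φ zP, S.φ wP} : Set G))).Coprime (Nat.card O) := by
    refine Nat.Coprime.coprime_dvd_left (card_dvd_of_le hcl) ?_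
    rw [Nat.card_congr (Dp.equivMapOfInjective S.φ S.inj).toEquiv.symm, hDp]
    exact (Nat.prime_three.coprime_iff_not_dvd.2 h3).pow_left 2
  have h := Coprime.le_lineCentralizers (q := 3) (show Commute (S.φ zP) (S.φ wP) from S.φ_comm hzw) oz ow
    (by rw [← map_pow, z3, map_one]; exact one_mem _) (by rw [← map_pow, w3, map_one]; exact one_mem _) hcop
    (Nat.prime_three.coprime_iff_not_dvd.2 h3)
  let Ep : Subgroup Pr :=
    { carrier := {a | InE a}
      one_mem' := Or.inl rfl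
      mul_mem' := fun {a b} ha hb => E_mul a ha b hb
      inv_mem' := fun {a} ha => (E_norm a ha).2.2.2 }
  have hle : O ≤ Ep.map S.φ := by
    refine h.trans (sup_le ?_ (iSup_le fun i => ?_))
    · rintro g ⟨hg, hc⟩
      exact ⟨1, Or.inl rfl, by rw [map_one, nw g hg (mem_centralizer_singleton_iff.1 hc)]⟩
    · rintro g ⟨hg, hc⟩
      have hc' := mem_centralizer_singleton_iff.1 hc
      rcases (by decide : ∀ i : ZMod 3, i.val = 0 ∨ i.val = 1 ∨ i.val = 2) i with e | e | e <;> rw [e] at hc'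
      · rw [pow_zero, mul_one] at hc'
        obtain ⟨x, hx, hgx⟩ := nz g hg hc'
        exact ⟨x, hx, hgx.symm⟩
      · rw [pow_one, ← map_mul] at hc'
        exact ⟨1, Or.inl rfl, by rw [map_one, ny g hg hc']⟩
      · rw [← map_pow, ← map_mul] at hc'
        exact ⟨1, Or.inl rfl, by rw [map_one, ny' g hg hc']⟩
  intro g hg
  obtain ⟨e, he, rfl⟩ := hle hg
  exact ⟨e, he, rfl⟩

end Data8

end Cfsg.Agent.Lib.EightThree88.Sym
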