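import Cfsg.Agent.Lib.EightThree88.SymSix

/-!
# The four group in the centraliser of an involution of the symmetric group of degree six
-/

set_option autoImplicit false
set_option maxRecDepth 100000
set_option synthInstance.maxSize 2000
set_option synthInstance.maxHeartbeats 400000

namespace Cfsg.Agent.Lib.EightThree88.Sym

open Equiv

/-- Membership in `<g>`. -/
def InU2 (g x : P6) : Prop := x = 1 ∨ x = g
instance (g : P6) : DecidablePred (InU2 g) := fun x => by unfold InU2; infer_instance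

/-- The equations singling out the fixed element of the four group. -/
def Fixed4 (g Z A v : P6) : Prop :=
  v * g = g * v ∧ ¬ InU2 g v ∧ InU2 g (v * v) ∧ InU2 g (v * A * v⁻¹ * A⁻¹) ∧
    InU2 g ((v * (Z * v * Z⁻¹)) * (v * (Z * v * Z⁻¹)))
instance (g Z A v : P6) : Decidable (Fixed4 g Z A v) := by unfold Fixed4; infer_instance

def words (g Z A v : P6) : List P6 :=
  let l1 := [1, Z, Z * Z].flatMap fun a => [a, a * A]
  let l2 := l1.flatMap fun a => [a, a * v]
  let l3 := l2.flatMap fun a => [a, a * (Z * v * Z⁻¹)]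
  l3.flatMap fun a => [a, a * g]

theorem cent_card : (Finset.univ.filter fun x : P6 => x * g2 = g2 * x).card = 48 ∧
    (Finset.univ.filter fun x : P6 => x * g222 = g222 * x).card = 48 := by decide +kernel

theorem four_g2 : ∀ Z : P6, Z * g2 = g2 * Z → Z * Z * Z = 1 → Z ≠ 1 →
    ∀ A : P6, A * g2 = g2 * A → A * A = 1 → A * Z = Z⁻¹ * A →
    ∃ v : P6, Fixed4 g2 Z A v ∧ (∀ v', v' * g2 = g2 * v' → Fixed4 g2 Z A v' → v' = v ∨ v' = v * g2) ∧
      ∀ x, x * g2 = g2 * x → x ∈ words g2 Z A v := by decide +kernel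


theorem four_g222 : ∀ Z : P6, Z * g222 = g222 * Z → Z * Z * Z = 1 → Z ≠ 1 →
    ∀ A : P6, A * g222 = g222 * A → A * A = 1 → A * Z = Z⁻¹ * A →
    ∃ v : P6, Fixed4 g222 Z A v ∧ (∀ v', v' * g222 = g222 * v' → Fixed4 g222 Z A v' → v' = v ∨ v' = v * g222) ∧
      ∀ x, x * g222 = g222 * x → x ∈ words g222 Z A v := by decide +kernel


end Cfsg.Agent.Lib.EightThree88.Sym
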