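import Mathlib

/-!
# Involutions commuting with a given one in the symmetric group of degree six
-/

set_option autoImplicit false
set_option maxRecDepth 100000
set_option synthInstance.maxSize 2000
set_option synthInstance.maxHeartbeats 400000

namespace Cfsg.Agent.Lib.EightThree88.Sym

open Equiv

abbrev P6 := Perm (Fin 6)

def g2 : P6 := swap 0 1
def g222 : P6 := swap 0 1 * swap 2 3 * swap 4 5

theorem invol_class : ∀ g : P6, g * g = 1 → g ≠ 1 →
    (∃ x : P6, x * x * x = 1 ∧ x ≠ 1 ∧ g * x = x * g) →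
    ∃ h : P6, h * g * h⁻¹ = g2 ∨ h * g * h⁻¹ = g222 := by decide +kernel

/-- The pattern of three transposition-like elements in the centraliser of an involution. -/
def Pattern (g a b c : P6) : Prop :=
  c = b ∨ c = a * b * a ∨ c = b * g ∨ c = a * b * a * g ∨ b * c = c * b ∨
    b * (a * c * a) = a * c * a * b

instance (g a b c : P6) : Decidable (Pattern g a b c) := by unfold Pattern; infer_instance

theorem pattern_g2 : ∀ a : P6, a * a = 1 → a * g2 = g2 * a → ∀ b : P6, b * b = 1 →
    b * g2 = g2 * b → a * b * a = b * a * b → a ≠ b → ∀ c : P6, c * c = 1 → c * g2 = g2 * c →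
    a * c * a = c * a * c → a ≠ c → Pattern g2 a b c := by decide +kernel

theorem pattern_g222 : ∀ a : P6, a * a = 1 → a * g222 = g222 * a → ∀ b : P6, b * b = 1 →
    b * g222 = g222 * b → a * b * a = b * a * b → a ≠ b → ∀ c : P6, c * c = 1 → c * g222 = g222 * c →
    a * c * a = c * a * c → a ≠ c → Pattern g222 a b c := by decide +kernel

theorem pattern {g a b c x : P6} (hg : g * g = 1) (hg1 : g ≠ 1) (hx : x * x * x = 1) (hx1 : x ≠ 1)
    (hgx : g * x = x * g) (ha : a * a = 1) (hag : a * g = g * a) (hb : b * b = 1) (hbg : b * g = g * b)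
    (hc : c * c = 1) (hcg : c * g = g * c) (hab : a * b * a = b * a * b) (hne : a ≠ b)
    (hac : a * c * a = c * a * c) (hne2 : a ≠ c) : Pattern g a b c := by
  obtain ⟨h, hh⟩ := invol_class g hg hg1 ⟨x, hx, hx1, hgx⟩
  let C : P6 ≃* P6 := MulAut.conj h
  have hP : Pattern (C g) (C a) (C b) (C c) → Pattern g a b c := by
    intro p
    rcases p with e | e | e | e | e | e <;> simp only [← map_mul, C.injective.eq_iff] at e
    · exact Or.inl e
    · exact Or.inr (Or.inl e)
    · exact Or.inr (Or.inr (Or.inl e))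
    · exact Or.inr (Or.inr (Or.inr (Or.inl e)))
    · exact Or.inr (Or.inr (Or.inr (Or.inr (Or.inl e))))
    · exact Or.inr (Or.inr (Or.inr (Or.inr (Or.inr e))))
  refine hP ?_
  have sq : ∀ {y : P6}, y * y = 1 → C y * C y = 1 := fun e => by rw [← map_mul, e, map_one]
  have cm : ∀ {y z : P6}, y * z = z * y → C y * C z = C z * C y := fun e => by rw [← map_mul, e, map_mul]
  have br : ∀ {y z : P6}, y * z * y = z * y * z → C y * C z * C y = C z * C y * C z := fun e => by
    rw [← map_mul, ← map_mul, e, map_mul, map_mul]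
  have hne' : C a ≠ C b := fun e => hne (C.injective e)
  have hne2' : C a ≠ C c := fun e => hne2 (C.injective e)
  rcases (show C g = g2 ∨ C g = g222 from hh) with e | e <;> rw [e]
  · exact pattern_g2 _ (sq ha) (e ▸ cm hag) _ (sq hb) (e ▸ cm hbg) (br hab) hne' _ (sq hc) (e ▸ cm hcg)
      (br hac) hne2'
  · exact pattern_g222 _ (sq ha) (e ▸ cm hag) _ (sq hb) (e ▸ cm hbg) (br hab) hne' _ (sq hc) (e ▸ cm hcg)
      (br hac) hne2'

end Cfsg.Agent.Lib.EightThree88.Sym
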