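import Cfsg.Agent.Lib.EightThree88.SymDich
import Cfsg.Agent.Lib.EightThree88.SymSix
import Cfsg.Agent.Lib.EightThree88.ModelLocal
import Cfsg.Agent.Lib.Spectrum.CoxeterSym
import Cfsg.Agent.Lib.Alternating.Basic

/-!
# The symmetric group of degree eight inside the group
-/

set_option autoImplicit false
set_option maxHeartbeats 800000
set_option maxRecDepth 100000
set_option synthInstance.maxSize 2000
set_option synthInstance.maxHeartbeats 400000

namespace Cfsg.Agent.Lib.EightThree88.Sym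

open Subgroup Model Equiv

universe u

/-- `(67)` -/
def s4P : Pr := (swap 1 2, 1)
/-- `(12)` -/
def bP : Pr := (1, swap 1 2)
/-- `(23)` -/
def uP : Pr := (1, swap 2 3)
/-- `(03)`, the preimage of `(45)` -/
def eP : Pr := (1, swap 0 3)
/-- `(234)` -/
def xP : Pr := (1, swap 2 3 * swap 3 4)

theorem s4_eq : s4P = zP * a1P * zP⁻¹ ∧ bP = wP * a2P * wP⁻¹ := by decide +kernel

theorem L_rels :
    a2P * a2P = 1 ∧ bP * bP = 1 ∧ uP * uP = 1 ∧ tP * tP = 1 ∧ eP * eP = 1 ∧ a1P * a1P = 1 ∧ s4P * s4P = 1 ∧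
    a2P * bP * a2P = bP * a2P * bP ∧ bP * uP * bP = uP * bP * uP ∧ uP * tP * uP = tP * uP * tP ∧
    tP * eP * tP = eP * tP * eP ∧ eP * a2P * eP = a2P * eP * a2P ∧
    a1P * s4P * a1P = s4P * a1P * s4P ∧ a2P * uP = uP * a2P ∧ a2P * tP = tP * a2P ∧
    a2P * a1P = a1P * a2P ∧ a2P * s4P = s4P * a2P ∧ bP * tP = tP * bP ∧ bP * a1P = a1P * bP ∧
    bP * s4P = s4P * bP ∧ uP * a1P = a1P * uP ∧ uP * s4P = s4P * uP ∧ tP * a1P = a1P * tP ∧
    tP * s4P = s4P * tP ∧ a1P * eP = eP * a1P ∧ s4P * eP = eP * s4P ∧ eP * bP = bP * eP := by decide +kernel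

theorem excl : ∀ m ∈ ([eP, tP * eP * tP, eP * bP, tP * eP * tP * bP] : List Pr),
    m * a2P * m⁻¹ * a2P⁻¹ ≠ 1 ∧ m * a2P * m⁻¹ * a2P⁻¹ ≠ a1P := by decide +kernel

theorem cross_facts : eP ≠ tP ∧ eP ≠ tP * a1P ∧ xP ^ 3 = 1 ∧ xP ≠ 1 ∧ xP * s4P = s4P * xP ∧
    xP * a2P = a2P * xP ∧ uP ≠ tP ∧ uP ≠ tP * a2P ∧ s4P ≠ 1 ∧ s4P ≠ a2P ∧ a2P ≠ 1 ∧ xP ≠ a2P := by decide +kernel

theorem iota_gens : ∀ x : Pr, (x = a2P → iota x = swap 0 1) ∧ (x = bP → iota x = swap 1 2) ∧
    (x = uP → iota x = swap 2 3) ∧ (x = tP → iota x = swap 3 4) ∧ (x = a1P → iota x = swap 5 6) ∧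
    (x = s4P → iota x = swap 6 7) ∧ (x = eP → sigma * iota x * sigma = swap 4 5) := by decide +kernel

theorem sigma_swaps : sigma * iota a1P * sigma = iota a2P ∧ sigma * iota a2P * sigma = iota a1P ∧
    sigma * iota s4P * sigma = iota bP ∧ sigma * iota bP * sigma = iota s4P ∧
    sigma * iota tP * sigma = iota tP ∧ swap 4 5 * swap 4 5 = (1 : P8) ∧
    sigma * iota eP * sigma * swap 4 5 = 1 ∧ sigma * swap 4 5 * sigma = iota eP := by decide +kernel

theorem five_zero : ∀ x : Pr, InN x → x ^ 5 = 1 → x = 1 := by decide +kernel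

theorem center_Pr : ∀ x : Pr, InC x → x * a1P = a1P * x → x * uP = uP * x → x = 1 := by decide +kernel

variable {G : Type u} [Group G] [Finite G]

namespace Data8

/-- In the symmetric case `C(tau)/<tau>` is the symmetric group of degree six. -/
theorem big_of_sym (S : Data8 G) (hS : S.n * S.φ a1P * S.n⁻¹ = S.φ a2P) : Big S := by
  rcases S.dich with hsmall | hbig
  swap
  · exact hbig
  exfalso
  obtain ⟨k, hk, -, -⟩ := a2_conj_t
  obtain ⟨h5, h51, h5a⟩ := five_facts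
  set g := S.n * S.φ k with hg
  have hgt : g * S.φ tP * g⁻¹ = S.φ a1P := by
    have e : S.n * S.φ a2P * S.n⁻¹ = S.φ a1P := by
      rw [← hS, S.n_inv, show S.n * (S.n * S.φ a1P * S.n) * S.n = (S.n * S.n) * S.φ a1P * (S.n * S.n) by group,
        S.n_sq, one_mul, mul_one]
    rw [← e, ← hk, hg, map_mul, map_mul, map_inv]
    group
  set c := g⁻¹ * S.φ fiveP * g with hc
  have hct : c * S.φ tP = S.φ tP * c := by
    have h5' : S.φ fiveP * S.φ a1P = S.φ a1P * S.φ fiveP := S.φ_comm h5a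
    rw [← hgt] at h5'
    calc c * S.φ tP = g⁻¹ * (S.φ fiveP * (g * S.φ tP * g⁻¹)) * g := by rw [hc]; group
      _ = _ := by rw [h5', hc]; group
  have hc5 : c ^ 5 = 1 := by
    have e : c = g⁻¹ * S.φ fiveP * g⁻¹⁻¹ := by rw [hc, inv_inv]
    rw [e, conj_pow, ← map_pow, h5, map_one]; group
  have hc1 : c ≠ 1 := fun e => h51 (S.inj (by
    rw [map_one]
    calc S.φ fiveP = g * c * g⁻¹ := by rw [hc]; group
      _ = 1 := by rw [e]; group))
  obtain ⟨x, hx, e | e⟩ := S.norm_D (hsmall c hct)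
  · refine hc1 ?_
    rw [e, ← map_pow, ← map_one S.φ] at hc5
    rw [e, five_zero x hx (S.inj hc5), map_one]
  · refine S.n_not_range ?_
    have h2 : c * c ∈ S.φ.range := by
      have hw : S.φ x * S.φ zP * (S.φ x)⁻¹ = S.φ zP ∨ S.φ x * S.φ zP * (S.φ x)⁻¹ = (S.φ zP)⁻¹ := by
        rw [S.φ_conj]
        exact (conj_zP x).imp (congrArg S.φ) (fun h => (congrArg S.φ h).trans (map_inv _ _))
      have hw' : S.φ x * S.φ wP * (S.φ x)⁻¹ = S.φ wP ∨ S.φ x * S.φ wP * (S.φ x)⁻¹ = (S.φ wP)⁻¹ := by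
        rw [S.φ_conj]
        exact ((by decide +kernel : ∀ x : Pr, InN x → x * wP * x⁻¹ = wP ∨ x * wP * x⁻¹ = wP⁻¹) x hx).imp
          (congrArg S.φ) (fun h => (congrArg S.φ h).trans (map_inv _ _))
      refine S.range_of_conj ?_
      have e1 : c * c * S.φ zP * (c * c)⁻¹ =
          S.n * (S.φ x * (S.n * (S.φ x * S.φ zP * (S.φ x)⁻¹) * S.n⁻¹) * (S.φ x)⁻¹) * S.n⁻¹ := by
        rw [e]; group
      rw [e1]
      rcases hw with h | h <;> rw [h]
      · rw [S.n_z]
        rcases hw' with h' | h' <;> rw [h']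
        · exact Or.inl S.n_w
        · refine Or.inr ?_
          rw [← S.n_w]; group
      · rw [show S.n * (S.φ zP)⁻¹ * S.n⁻¹ = (S.n * S.φ zP * S.n⁻¹)⁻¹ by group, S.n_z,
          show S.φ x * (S.φ wP)⁻¹ * (S.φ x)⁻¹ = (S.φ x * S.φ wP * (S.φ x)⁻¹)⁻¹ by group]
        rcases hw' with h' | h' <;> rw [h']
        · refine Or.inr ?_
          rw [← S.n_w]; group
        · refine Or.inl ?_
          rw [inv_inv, S.n_w]
    have hcr : c ∈ S.φ.range := by
      have : c = (c * c) ^ 3 := by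
        rw [← pow_two, ← pow_mul, show 2 * 3 = 5 + 1 from rfl, pow_succ, hc5, one_mul]
      rw [this]; exact pow_mem h2 3
    rw [e] at hcr
    have := mul_mem hcr (inv_mem (⟨x, rfl⟩ : S.φ x ∈ S.φ.range))
    rwa [mul_inv_cancel_right] at this

/-- The crossing relation, after replacing `n` by `n * tau` if necessary. -/
theorem crossing (S : Data8 G) (hS : S.n * S.φ a1P * S.n⁻¹ = S.φ a2P) :
    Commute (S.φ uP) (S.n * S.φ eP * S.n⁻¹) ∨
      Commute (S.φ uP) (S.φ tP * (S.n * S.φ eP * S.n⁻¹) * S.φ tP) := by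
  obtain ⟨π, -, hπ⟩ := S.big_of_sym hS
  obtain ⟨k, hk, -, -⟩ := a2_conj_t
  obtain ⟨r1, r2, r3, r4, r5, r6, r7, r8, r9, r10, r11, r12, r13, r14, r15, r16, r17, r18, r19, r20, r21, r22,
    r23, r24, r25, r26, r27⟩ := L_rels
  obtain ⟨het, het2, hx3, hx1, hxs, hxa, hut, hut2, hs41, hs4a, ha21, hxa2⟩ := cross_facts
  set C2 := centralizer ({S.φ a2P} : Set G)
  have memC : ∀ g, g ∈ C2 ↔ g * S.φ a2P = S.φ a2P * g := fun g => mem_centralizer_singleton_iff
  let π' : C2 →* P6 := π.comp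
    (((MulAut.conj (S.φ k)⁻¹).toMonoidHom.comp C2.subtype).codRestrict _ fun g => by
      rw [mem_centralizer_singleton_iff]
      show (S.φ k)⁻¹ * (g : G) * (S.φ k)⁻¹⁻¹ * S.φ tP = S.φ tP * ((S.φ k)⁻¹ * (g : G) * (S.φ k)⁻¹⁻¹)
      have hg := (memC _).1 g.2
      rw [← hk, map_mul, map_mul, map_inv] at hg
      calc (S.φ k)⁻¹ * (g : G) * (S.φ k)⁻¹⁻¹ * S.φ tP
          = (S.φ k)⁻¹ * ((g : G) * (S.φ k * S.φ tP * (S.φ k)⁻¹)) * S.φ k := by group
        _ = _ := by rw [hg]; group)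
  have hπ' : ∀ g : C2, π' g = 1 → (g : G) = 1 ∨ (g : G) = S.φ a2P := by
    intro g hg
    have h0 : ((S.φ k)⁻¹ * (g : G) * (S.φ k)⁻¹⁻¹ = 1 ∨ (S.φ k)⁻¹ * (g : G) * (S.φ k)⁻¹⁻¹ = S.φ tP) :=
      (hπ _).1 hg
    refine h0.imp (fun h => ?_) (fun h => ?_)
    · calc (g : G) = S.φ k * ((S.φ k)⁻¹ * (g : G) * (S.φ k)⁻¹⁻¹) * (S.φ k)⁻¹ := by group
        _ = 1 := by rw [h]; group
    · calc (g : G) = S.φ k * ((S.φ k)⁻¹ * (g : G) * (S.φ k)⁻¹⁻¹) * (S.φ k)⁻¹ := by group
        _ = _ := by rw [h, S.φ_conj, hk]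
  have ni := S.n_inv
  set ψ : Pr →* G := (MulAut.conj S.n).toMonoidHom.comp S.φ with hψ
  have ψa : ∀ x, ψ x = S.n * S.φ x * S.n⁻¹ := fun _ => rfl
  have ψinj : Function.Injective ψ := fun a b h => S.inj (mul_left_cancel (mul_right_cancel h))
  have ψa1 : ψ a1P = S.φ a2P := hS
  have ψa2 : ψ a2P = S.φ a1P := by
    rw [ψa, ← hS, ni, show S.n * (S.n * S.φ a1P * S.n) * S.n = (S.n * S.n) * S.φ a1P * (S.n * S.n) by group,
      S.n_sq, one_mul, mul_one]
  have ψt : ψ tP = S.φ tP := S.n_t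
  have ψs4 : ψ s4P = S.φ bP := by
    rw [s4_eq.1, s4_eq.2, map_mul, map_mul, map_inv, ψa1, show ψ zP = S.φ wP from S.n_z, map_mul, map_mul,
      map_inv]
  have ψb : ψ bP = S.φ s4P := by
    rw [s4_eq.1, s4_eq.2, map_mul, map_mul, map_inv, ψa2, show ψ wP = S.φ zP from S.n_w, map_mul, map_mul,
      map_inv]
  have mC : ∀ x, x * a2P = a2P * x → S.φ x ∈ C2 := fun x h => (memC _).2 (S.φ_comm h)
  have mC' : ∀ x, x * a1P = a1P * x → ψ x ∈ C2 := fun x h => (memC _).2 (by
    rw [← ψa1, ← map_mul, ← map_mul, h])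
  let T : C2 := ⟨S.φ tP, mC _ r15.symm⟩
  let U : C2 := ⟨S.φ uP, mC _ r14.symm⟩
  let B : C2 := ⟨ψ eP, mC' _ r25.symm⟩
  let A1 : C2 := ⟨S.φ a1P, mC _ r16.symm⟩
  let R : C2 := ⟨S.φ s4P, mC _ r17.symm⟩
  let X : C2 := ⟨S.φ xP, mC _ hxa⟩
  have sub : ∀ {a b : C2}, (a : G) = b → a = b := fun h => Subtype.ext h
  have hRsq : R * R = 1 := sub (show S.φ s4P * S.φ s4P = 1 by rw [← map_mul, r7, map_one])
  have hTB : T * B * T = B * T * B := sub (show S.φ tP * ψ eP * S.φ tP = ψ eP * S.φ tP * ψ eP by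
    rw [← ψt, ← map_mul, ← map_mul, ← map_mul, ← map_mul, r11])
  have hBR : B * R = R * B := sub (show ψ eP * S.φ s4P = S.φ s4P * ψ eP by
    rw [← ψb, ← map_mul, ← map_mul, r27])
  have hpat : Pattern (π' R) (π' T) (π' B) (π' U) := by
    refine pattern (x := π' X) (by rw [← map_mul, hRsq, map_one]) ?_ ?_ ?_ ?_ ?_ ?_ ?_ ?_ ?_ ?_ ?_ ?_ ?_ ?_
    · intro h
      rcases hπ' R h with e | e
      · exact hs41 (S.inj (e.trans (map_one _).symm))
      · exact hs4a (S.inj e)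
    · rw [← map_mul, ← map_mul, show X * X * X = 1 from sub (show S.φ xP * S.φ xP * S.φ xP = 1 by
        rw [← map_mul, ← map_mul, ← pow_two, ← pow_succ, hx3, map_one]), map_one]
    · intro h
      rcases hπ' X h with e | e
      · exact hx1 (S.inj (e.trans (map_one _).symm))
      · exact hxa2 (S.inj e)
    · rw [← map_mul, ← map_mul, show R * X = X * R from sub (S.φ_comm hxs.symm)]
    · rw [← map_mul, show T * T = 1 from sub (show S.φ tP * S.φ tP = 1 by rw [← map_mul, r4, map_one]), map_one]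
    · rw [← map_mul, ← map_mul, show T * R = R * T from sub (S.φ_comm r24)]
    · rw [← map_mul, show B * B = 1 from sub (show ψ eP * ψ eP = 1 by rw [← map_mul, r5, map_one]), map_one]
    · rw [← map_mul, ← map_mul, hBR]
    · rw [← map_mul, show U * U = 1 from sub (show S.φ uP * S.φ uP = 1 by rw [← map_mul, r3, map_one]), map_one]
    · rw [← map_mul, ← map_mul, show U * R = R * U from sub (S.φ_comm r22)]
    · rw [← map_mul, ← map_mul, ← map_mul, ← map_mul, hTB]
    · intro h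
      rcases hπ' (T⁻¹ * B) (by rw [map_mul, map_inv, h, inv_mul_cancel]) with e | e
      · have e' : ψ eP = ψ tP := by rw [ψt]; exact (inv_mul_eq_one.1 e).symm
        exact het (ψinj e')
      · have e' : ψ eP = ψ (tP * a1P) := by
          rw [map_mul, ψt, ψa1]; exact inv_mul_eq_iff_eq_mul.1 e
        exact het2 (ψinj e')
    · rw [← map_mul, ← map_mul, ← map_mul, ← map_mul,
        show T * U * T = U * T * U from sub (show S.φ tP * S.φ uP * S.φ tP = S.φ uP * S.φ tP * S.φ uP by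
          rw [← map_mul, ← map_mul, ← map_mul, ← map_mul, r10])]
    · intro h
      rcases hπ' (T⁻¹ * U) (by rw [map_mul, map_inv, h, inv_mul_cancel]) with e | e
      · exact hut (S.inj (inv_mul_eq_one.1 e).symm)
      · refine hut2 (S.inj ?_)
        rw [map_mul]
        exact inv_mul_eq_iff_eq_mul.1 e
  -- `u` is not congruent to the elements moved by `(56)`
  have not_eq : ∀ m : Pr, m ∈ ([eP, tP * eP * tP, eP * bP, tP * eP * tP * bP] : List Pr) →
      ∀ M : C2, (M : G) = ψ m → π' U ≠ π' M := by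
    intro m hm M hM h
    have hUA : U * A1 = A1 * U := sub (S.φ_comm r21)
    have h1 : π' (M * A1 * M⁻¹ * A1⁻¹) = 1 := by
      rw [map_mul, map_mul, map_mul, ← h, ← map_mul, hUA, map_inv, map_inv, ← h, map_mul]
      group
    have hv : ((M * A1 * M⁻¹ * A1⁻¹ : C2) : G) = ψ (m * a2P * m⁻¹ * a2P⁻¹) := by
      show (M : G) * S.φ a1P * (M : G)⁻¹ * (S.φ a1P)⁻¹ = _
      rw [hM, ← ψa2, map_mul, map_mul, map_mul, map_inv, map_inv]
    rcases hπ' _ h1 with e | e <;> rw [hv] at e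
    · exact (excl m hm).1 (ψinj (e.trans (map_one _).symm))
    · exact (excl m hm).2 (ψinj (e.trans ψa1.symm))
  -- commuting modulo `(01)` is commuting
  have exact' : ∀ (Y : G), Y * Y = 1 → Commute Y (S.φ a2P) → Commute Y (S.φ a1P) →
      (Y * ψ eP * Y = ψ eP ∨ Y * ψ eP * Y = ψ eP * S.φ a2P) → Commute Y (ψ eP) := by
    intro Y hY hYa hY3 hor
    rcases hor with h | h
    · show Y * ψ eP = ψ eP * Y
      calc Y * ψ eP = Y * ψ eP * (Y * Y) := by rw [hY, mul_one]
        _ = Y * ψ eP * Y * Y := by group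
        _ = _ := by rw [h]
    · exfalso
      have a2e : Commute (S.φ a2P) (ψ eP) := by
        show _ = _
        rw [← ψa1, ← map_mul, ← map_mul, r25]
      have a23 : Commute (S.φ a2P) (S.φ a1P) := S.φ_comm r16
      have hbr : ψ eP * S.φ a1P * ψ eP = S.φ a1P * ψ eP * S.φ a1P := by
        rw [← ψa2, ← map_mul, ← map_mul, ← map_mul, ← map_mul, r12]
      set Xe := ψ eP
      set Z3 := S.φ a1P
      set A := S.φ a2P
      have hA2 : A * A = 1 := by rw [← map_mul, r1, map_one]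
      have e1 : Y * (Xe * Z3 * Xe) * Y = Xe * Z3 * Xe := by
        calc Y * (Xe * Z3 * Xe) * Y = (Y * Xe * Y) * (Y * Z3 * Y) * (Y * Xe * Y) := by
              rw [show (Y * Xe * Y) * (Y * Z3 * Y) * (Y * Xe * Y) = Y * Xe * (Y * Y) * Z3 * (Y * Y) * Xe * Y by group,
                hY]; group
          _ = Xe * A * Z3 * (Xe * A) := by
              rw [h, hY3.eq, mul_assoc Z3 Y Y, hY, mul_one]
          _ = Xe * (A * Z3) * (Xe * A) := by group
          _ = Xe * Z3 * (A * Xe) * A := by rw [a23.eq]; group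
          _ = Xe * Z3 * Xe * (A * A) := by rw [a2e.eq]; group
          _ = _ := by rw [hA2, mul_one]
      have e2 : Y * (Z3 * Xe * Z3) * Y = Z3 * Xe * Z3 * A := by
        calc Y * (Z3 * Xe * Z3) * Y = (Y * Z3 * Y) * (Y * Xe * Y) * (Y * Z3 * Y) := by
              rw [show (Y * Z3 * Y) * (Y * Xe * Y) * (Y * Z3 * Y) = Y * Z3 * (Y * Y) * Xe * (Y * Y) * Z3 * Y by group,
                hY]; group
          _ = Z3 * (Xe * A) * Z3 := by rw [h, hY3.eq, mul_assoc Z3 Y Y, hY, mul_one]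
          _ = Z3 * Xe * (A * Z3) := by group
          _ = _ := by rw [a23.eq]; group
      rw [← hbr, e1] at e2
      exact ha21 (S.inj ((mul_eq_left.1 e2.symm).trans (map_one _).symm))
  have conv : ∀ W : C2, W * W = 1 → π' B * π' W = π' W * π' B →
      ((W : G) * ψ eP * W = ψ eP ∨ (W : G) * ψ eP * W = ψ eP * S.φ a2P) := by
    intro W hW hc
    have h1 : π' (B⁻¹ * (W * B * W)) = 1 := by
      rw [map_mul, map_inv, map_mul, map_mul, ← hc, mul_assoc, ← map_mul π' W W, hW, map_one, mul_one,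
        inv_mul_cancel]
    rcases hπ' _ h1 with e | e
    · exact Or.inl (inv_mul_eq_one.1 e).symm
    · exact Or.inr (inv_mul_eq_iff_eq_mul.1 e)
  rcases hpat with e | e | e | e | e | e
  · exact absurd e (not_eq eP (by simp) B rfl)
  · rw [← map_mul, ← map_mul] at e
    exact absurd e (not_eq (tP * eP * tP) (by simp) (T * B * T) (by
      show S.φ tP * ψ eP * S.φ tP = _; rw [map_mul, map_mul, ψt]))
  · rw [← map_mul] at e
    exact absurd e (not_eq (eP * bP) (by simp) (B * R) (by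
      show ψ eP * S.φ s4P = _; rw [map_mul, ψb]))
  · rw [← map_mul, ← map_mul, ← map_mul] at e
    exact absurd e (not_eq (tP * eP * tP * bP) (by simp) (T * B * T * R) (by
      show S.φ tP * ψ eP * S.φ tP * S.φ s4P = _; rw [map_mul, map_mul, map_mul, ψt, ψb]))
  · left
    have hU2 : U * U = 1 := sub (show S.φ uP * S.φ uP = 1 by rw [← map_mul, r3, map_one])
    exact exact' _ (congrArg Subtype.val hU2) (S.φ_comm r14.symm) (S.φ_comm r21) (conv U hU2 e)
  · right
    rw [← map_mul, ← map_mul] at e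
    have hT2 : S.φ tP * S.φ tP = 1 := by rw [← map_mul, r4, map_one]
    have hU2 : S.φ uP * S.φ uP = 1 := by rw [← map_mul, r3, map_one]
    set W : C2 := T * U * T
    have hW2 : W * W = 1 := sub (by
      show S.φ tP * S.φ uP * S.φ tP * (S.φ tP * S.φ uP * S.φ tP) = 1
      rw [show S.φ tP * S.φ uP * S.φ tP * (S.φ tP * S.φ uP * S.φ tP) =
        S.φ tP * S.φ uP * (S.φ tP * S.φ tP) * S.φ uP * S.φ tP by group, hT2, mul_one,
        mul_assoc (S.φ tP) _ _, hU2, mul_one, hT2])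
    have hc := exact' (W : G) (congrArg Subtype.val hW2) ((memC _).1 W.2) (by
        show Commute (S.φ tP * S.φ uP * S.φ tP) (S.φ a1P)
        exact ((show Commute _ _ from S.φ_comm r23).mul_left (S.φ_comm r21)).mul_left (S.φ_comm r23))
      (conv W hW2 e)
    have h2 : Commute (S.φ tP * (S.φ tP * S.φ uP * S.φ tP) * S.φ tP) (S.φ tP * ψ eP * S.φ tP) := by
      have h3 := hc.map (MulAut.conj (S.φ tP)).toMonoidHom
      simp only [MulEquiv.coe_toMonoidHom, MulAut.conj_apply, inv_eq_of_mul_eq_one_right hT2] at h3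
      exact h3
    rwa [show S.φ tP * (S.φ tP * S.φ uP * S.φ tP) * S.φ tP = (S.φ tP * S.φ tP) * S.φ uP * (S.φ tP * S.φ tP) by group,
      hT2, one_mul, mul_one] at h2

/-- The map from the symmetric group of degree eight. -/
theorem exists_map (S0 : Data8 G) (hS : S0.n * S0.φ a1P * S0.n⁻¹ = S0.φ a2P) :
    ∃ (S : Data8 G) (f : Perm (Fin 8) →* G), S.φ = S0.φ ∧ Big S ∧ Function.Injective f ∧
      (∀ x, f (iota x) = S.φ x) ∧ f sigma = S.n := by
  obtain ⟨r1, r2, r3, r4, r5, r6, r7, r8, r9, r10, r11, r12, r13, r14, r15, r16, r17, r18, r19, r20, r21, r22,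
    r23, r24, r25, r26, r27⟩ := L_rels
  obtain ⟨S, hSφ, hS', hcross⟩ : ∃ S : Data8 G, S.φ = S0.φ ∧ S.n * S.φ a1P * S.n⁻¹ = S.φ a2P ∧
      Commute (S.φ uP) (S.n * S.φ eP * S.n⁻¹) := by
    rcases S0.crossing hS with h | h
    · exact ⟨S0, rfl, hS, h⟩
    have ht : S0.φ tP * S0.φ tP = 1 := by rw [← map_mul, r4, map_one]
    have hti : (S0.φ tP)⁻¹ = S0.φ tP := inv_eq_of_mul_eq_one_right ht
    have ni := S0.n_inv
    have hni : (S0.φ tP * S0.n)⁻¹ = S0.n * S0.φ tP := by rw [mul_inv_rev, ni, hti]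
    have hconj : ∀ x, S0.φ tP * S0.n * x * (S0.φ tP * S0.n)⁻¹ = S0.φ tP * (S0.n * x * S0.n⁻¹) * (S0.φ tP)⁻¹ :=
      fun x => by group
    have tfix : ∀ x : Pr, tP * x = x * tP → S0.φ tP * S0.φ x * (S0.φ tP)⁻¹ = S0.φ x := fun x hx =>
      mul_inv_eq_iff_eq_mul.2 (S0.φ_comm hx)
    refine ⟨{ S0 with
      n := S0.φ tP * S0.n
      n_sq := by
        rw [mul_assoc, ← mul_assoc S0.n, S0.n_comm_t, ← mul_assoc, ← mul_assoc, ht, one_mul, S0.n_sq]
      n_z := by rw [hconj, S0.n_z, tfix _ (InD_three _ (by decide +kernel : InD wP)).2.2.2.symm]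
      n_w := by rw [hconj, S0.n_w, tfix _ (InD_three _ (by decide +kernel : InD zP)).2.2.2.symm]
      n_t := by rw [hconj, S0.n_t, tfix _ rfl]
      n_a := Or.inl (by rw [hconj, hS, tfix _ r15.symm]) }, rfl, ?_, ?_⟩
    · show S0.φ tP * S0.n * S0.φ a1P * (S0.φ tP * S0.n)⁻¹ = S0.φ a2P
      rw [hconj, hS, tfix _ r15.symm]
    · show Commute (S0.φ uP) (S0.φ tP * S0.n * S0.φ eP * (S0.φ tP * S0.n)⁻¹)
      rw [hconj, hti]; exact h
  refine ⟨S, ?_⟩
  have ni := S.n_inv
  set ψ : Pr →* G := (MulAut.conj S.n).toMonoidHom.comp S.φ with hψ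
  have ψa : ∀ x, ψ x = S.n * S.φ x * S.n⁻¹ := fun _ => rfl
  have ψa1 : ψ a1P = S.φ a2P := hS'
  have ψa2 : ψ a2P = S.φ a1P := by
    rw [ψa, ← hS', ni, show S.n * (S.n * S.φ a1P * S.n) * S.n = (S.n * S.n) * S.φ a1P * (S.n * S.n) by group,
      S.n_sq, one_mul, mul_one]
  have ψt : ψ tP = S.φ tP := S.n_t
  have ψs4 : ψ s4P = S.φ bP := by
    rw [s4_eq.1, s4_eq.2, map_mul, map_mul, map_inv, ψa1, show ψ zP = S.φ wP from S.n_z, map_mul, map_mul,
      map_inv]
  have ψb : ψ bP = S.φ s4P := by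
    rw [s4_eq.1, s4_eq.2, map_mul, map_mul, map_inv, ψa2, show ψ wP = S.φ zP from S.n_w, map_mul, map_mul,
      map_inv]
  let s : ℕ → G := fun i => [S.φ a2P, S.φ bP, S.φ uP, S.φ tP, ψ eP, S.φ a1P, S.φ s4P].getD i 1
  have br : ∀ (F : Pr →* G) {a b : Pr}, a * b * a = b * a * b → F a * F b * F a = F b * F a * F b :=
    fun F a b h => by rw [← map_mul, ← map_mul, h, map_mul, map_mul]
  have cm : ∀ (F : Pr →* G) {a b : Pr}, a * b = b * a → F a * F b = F b * F a :=
    fun F a b h => by rw [← map_mul, h, map_mul]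
  have hrel : Cfsg.Agent.Lib.Spectrum.CoxeterSym.SymRel 7 s := by
    refine ⟨fun i hi => ?_, fun i hi => ?_, fun i j hij hj => ?_⟩
    · interval_cases i <;> simp only [s, List.getD_cons_zero, List.getD_cons_succ]
      all_goals rw [← map_mul]
      · rw [r1, map_one]
      · rw [r2, map_one]
      · rw [r3, map_one]
      · rw [r4, map_one]
      · rw [r5, map_one]
      · rw [r6, map_one]
      · rw [r7, map_one]
    · have hi' : i < 6 := by omega
      interval_cases i <;> simp only [s, List.getD_cons_zero, List.getD_cons_succ]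
      · exact br S.φ r8
      · exact br S.φ r9
      · exact br S.φ r10
      · rw [← ψt]; exact br ψ r11
      · rw [← ψa2]; exact br ψ r12
      · exact br S.φ r13
    · have hi' : i < 5 := by omega
      interval_cases i <;> interval_cases j <;> simp only [s, List.getD_cons_zero, List.getD_cons_succ]
      · exact cm S.φ r14
      · exact cm S.φ r15
      · rw [← ψa1]; exact cm ψ r25
      · exact cm S.φ r16
      · exact cm S.φ r17
      · exact cm S.φ r18
      · rw [← ψs4]; exact cm ψ r26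
      · exact cm S.φ r19
      · exact cm S.φ r20
      · exact hcross
      · exact cm S.φ r21
      · exact cm S.φ r22
      · exact cm S.φ r23
      · exact cm S.φ r24
      · rw [← ψb]; exact cm ψ r27
  obtain ⟨f, hf, -⟩ := Cfsg.Agent.Lib.Spectrum.CoxeterSym.exists_lift hrel
  have g0 : f (swap 0 1) = S.φ a2P := hf 0
  have g1 : f (swap 1 2) = S.φ bP := hf 1
  have g2 : f (swap 2 3) = S.φ uP := hf 2
  have g3 : f (swap 3 4) = S.φ tP := hf 3
  have g4 : f (swap 4 5) = ψ eP := hf 4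
  have g5 : f (swap 5 6) = S.φ a1P := hf 5
  have g6 : f (swap 6 7) = S.φ s4P := hf 6
  have hiota : f.comp iota = S.φ := by
    have hright : (f.comp iota).comp (MonoidHom.inr _ _) = S.φ.comp (MonoidHom.inr _ _) := by
      refine MonoidHom.eq_of_eqOn_denseM (Equiv.Perm.mclosure_swap_castSucc_succ 4) ?_
      rintro _ ⟨i, rfl⟩
      show f (iota (1, _)) = S.φ (1, _)
      fin_cases i
      · exact ((iota_gens a2P).1 rfl ▸ g0 :)
      · exact ((iota_gens bP).2.1 rfl ▸ g1 :)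
      · exact ((iota_gens uP).2.2.1 rfl ▸ g2 :)
      · exact ((iota_gens tP).2.2.2.1 rfl ▸ g3 :)
    have hleft : (f.comp iota).comp (MonoidHom.inl _ _) = S.φ.comp (MonoidHom.inl _ _) := by
      refine MonoidHom.eq_of_eqOn_denseM (Equiv.Perm.mclosure_swap_castSucc_succ 2) ?_
      rintro _ ⟨i, rfl⟩
      show f (iota (_, 1)) = S.φ (_, 1)
      fin_cases i
      · exact ((iota_gens a1P).2.2.2.2.1 rfl ▸ g5 :)
      · exact ((iota_gens s4P).2.2.2.2.2.1 rfl ▸ g6 :)
    refine MonoidHom.ext fun ⟨a, b⟩ => ?_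
    rw [show ((a, b) : Pr) = (a, 1) * (1, b) from Prod.ext (mul_one a).symm (one_mul b).symm, map_mul, map_mul]
    exact congrArg₂ (· * ·) (DFunLike.congr_fun hleft a) (DFunLike.congr_fun hright b)
  have hi : ∀ x, f (iota x) = S.φ x := fun x => DFunLike.congr_fun hiota x
  have hinj : Function.Injective f := by
    rw [← MonoidHom.ker_eq_bot_iff]
    rcases Cfsg.Agent.Lib.Alternating.normal_perm (α := Fin 8) (by simp) f.ker with h | h | h
    · exact h
    all_goals exfalso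
    · have hm : iota dP ∈ f.ker := h ▸ Perm.mem_alternatingGroup.2 (by decide +kernel)
      rw [MonoidHom.mem_ker, hi, ← map_one S.φ] at hm
      exact (by decide +kernel : dP ≠ (1 : Pr)) (S.inj hm)
    · have hm : iota dP ∈ f.ker := h ▸ mem_top _
      rw [MonoidHom.mem_ker, hi, ← map_one S.φ] at hm
      exact (by decide +kernel : dP ≠ (1 : Pr)) (S.inj hm)
  have hss : sigma * sigma = 1 := sigma_sq
  have hfs : f sigma = S.n := by
    obtain ⟨w1, w2, w3, w4, w5, -, w7, w8⟩ := sigma_swaps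
    set c := (f sigma)⁻¹ * S.n with hc
    have fsi : (f sigma)⁻¹ = f sigma := inv_eq_of_mul_eq_one_right (by rw [← map_mul, hss, map_one])
    have key : ∀ (x : Pr) (y : Perm (Fin 8)), sigma * iota x * sigma = y → ψ x = f y →
        Commute c (S.φ x) := by
      intro x y hy hψx
      have e1 : ψ x = f sigma * S.φ x * (f sigma)⁻¹ := by
        rw [hψx, ← hy, map_mul, map_mul, hi, fsi]
      show c * S.φ x = S.φ x * c
      calc c * S.φ x = (f sigma)⁻¹ * (S.n * S.φ x * S.n⁻¹) * S.n := by rw [hc]; group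
        _ = _ := by rw [← ψa, e1, hc]; group
    have c1 := key a1P _ w1 (ψa1.trans (hi _).symm)
    have c2 := key a2P _ w2 (ψa2.trans (hi _).symm)
    have c3 := key s4P _ w3 (ψs4.trans (hi _).symm)
    have c4 := key bP _ w4 (ψb.trans (hi _).symm)
    have c5 := key tP _ w5 (ψt.trans (hi _).symm)
    have c6 := key eP (swap 4 5) ((iota_gens eP).2.2.2.2.2.2 rfl) g4.symm
    have cu : Commute c (S.φ uP) := by
      rw [(by decide +kernel : uP = a2P * bP * a2P * eP * a2P * bP * a2P), map_mul, map_mul, map_mul,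
        map_mul, map_mul, map_mul]
      exact (((((c2.mul_right c4).mul_right c2).mul_right c6).mul_right c2).mul_right c4).mul_right c2
    have cz : Commute c (S.φ zP) := by
      rw [(by decide +kernel : zP = a1P * s4P), map_mul]; exact c1.mul_right c3
    have cw : Commute c (S.φ wP) := by
      rw [(by decide +kernel : wP = a2P * bP), map_mul]; exact c2.mul_right c4
    obtain ⟨x, hx, hcx⟩ := S.cent_zw cz.eq cw.eq
    have hx1 : x = 1 := center_Pr x hx (S.inj (by rw [map_mul, map_mul, ← hcx]; exact c1.eq))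
      (S.inj (by rw [map_mul, map_mul, ← hcx]; exact cu.eq))
    rw [hx1, map_one, hc, inv_mul_eq_one] at hcx
    exact hcx
  exact ⟨f, hSφ, S.big_of_sym hS', hinj, hi, hfs⟩

end Data8

end Cfsg.Agent.Lib.EightThree88.Sym
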