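import Cfsg.Agent.Lib.EightThree88.Model

/-!
# Decidable facts in `Perm 3 × Perm 5`, the normaliser of a 3-cycle in `S₈`
-/

set_option autoImplicit false
set_option maxRecDepth 100000
set_option synthInstance.maxSize 2000
set_option synthInstance.maxHeartbeats 400000

namespace Cfsg.Agent.Lib.EightThree88.Sym

open Equiv Model

/-- `(567)` -/
def zP : Pr := (swap 0 1 * swap 1 2, 1)
/-- `(012)` -/
def wP : Pr := (1, swap 0 1 * swap 1 2)
/-- `(34)` -/
def tP : Pr := (1, swap 3 4)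
/-- an involution inverting `zP` -/
def a1P : Pr := (swap 0 1, 1)
/-- `(01)` -/
def a2P : Pr := (1, swap 0 1)
/-- `(03)(14)` -/
def hP : Pr := (1, swap 0 3 * swap 1 4)
/-- the double transposition `(01)(34)` -/
def dP : Pr := (1, swap 0 1 * swap 3 4)

/-- The standard Sylow 3-subgroup. -/
def InD (x : Pr) : Prop :=
  x = 1 ∨ x = zP ∨ x = zP⁻¹ ∨ x = wP ∨ x = wP⁻¹ ∨
    x = zP * wP ∨ x = zP * wP⁻¹ ∨ x = zP⁻¹ * wP ∨ x = zP⁻¹ * wP⁻¹

instance : DecidablePred InD := fun x => by unfold InD; infer_instance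

/-- The centraliser of the standard Sylow 3-subgroup. -/
def InC (x : Pr) : Prop := InD x ∨ InD (x * tP)

instance : DecidablePred InC := fun x => by unfold InC; infer_instance

/-- The normaliser of the standard Sylow 3-subgroup. -/
def InN (x : Pr) : Prop := InD (x * zP * x⁻¹) ∧ InD (x * wP * x⁻¹)

instance : DecidablePred InN := fun x => by unfold InN; infer_instance

theorem card_InD : (Finset.univ.filter InD).card = 9 := by decide +kernel

theorem card_InC : (Finset.univ.filter InC).card = 18 := by decide +kernel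

theorem card_InN : (Finset.univ.filter InN).card = 72 := by decide +kernel

theorem normal_three : ∀ x : Pr, x * x * x = 1 → x ≠ 1 →
    (∀ g : Pr, g * x * g⁻¹ = x ∨ g * x * g⁻¹ = x⁻¹) → x = zP ∨ x = zP⁻¹ := by decide +kernel

theorem three_std : ∀ x : Pr, x * x * x = 1 → ∃ g : Pr, InD (g * x * g⁻¹) := by decide +kernel

theorem conj_zP : ∀ g : Pr, g * zP * g⁻¹ = zP ∨ g * zP * g⁻¹ = zP⁻¹ := by decide +kernel

theorem InD_three : ∀ d : Pr, InD d → d ^ 3 = 1 ∧ d * zP = zP * d ∧ d * wP = wP * d ∧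
    d * tP = tP * d := by decide +kernel

theorem InD_mul : ∀ d : Pr, InD d → InD d⁻¹ ∧ InD (d * zP) ∧ InD (d * wP) ∧ InN d := by decide +kernel

theorem InN_mem : ∀ x : Pr, InN x → InD (x * (zP * wP) * x⁻¹) ∧ InD (x * (zP * wP⁻¹) * x⁻¹) := by
  decide +kernel

theorem InN_conj : ∀ x : Pr, InN x → ∀ d : Pr, InD d → InD (x * d * x⁻¹) := by decide +kernel

theorem lines : ∀ d : Pr, InD d → d ≠ 1 →
    (d = zP ∨ d = zP⁻¹) ∨ (d = wP ∨ d = wP⁻¹) ∨
      (d = zP * wP ∨ d = (zP * wP)⁻¹ ∨ d = a2P * (zP * wP) * a2P⁻¹ ∨ d = (a2P * (zP * wP) * a2P⁻¹)⁻¹) := by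
  decide +kernel

theorem a_facts :
    a1P * a1P = 1 ∧ a2P * a2P = 1 ∧ tP * tP = 1 ∧ a1P * zP * a1P⁻¹ = zP⁻¹ ∧ a1P * wP * a1P⁻¹ = wP ∧
    a2P * zP * a2P⁻¹ = zP ∧ a2P * wP * a2P⁻¹ = wP⁻¹ ∧ InN a1P ∧ InN a2P ∧ InN tP ∧
    zP ^ 3 = 1 ∧ wP ^ 3 = 1 ∧ zP ≠ 1 ∧ wP ≠ 1 ∧ zP * wP = wP * zP ∧ a1P * a2P = a2P * a1P ∧
    a1P * tP = tP * a1P ∧ a2P * tP = tP * a2P ∧ tP ≠ 1 ∧ InN zP ∧ InN wP := by decide +kernel

/-- The elements commuting with `zP` and `wP`. -/
theorem cent_zw : ∀ x : Pr, x * zP = zP * x → x * wP = wP * x → InC x := by decide +kernel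

theorem invC : ∀ x : Pr, InC x → x * x = 1 → x = 1 ∨ x = tP := by decide +kernel

theorem InC_t : ∀ x : Pr, InC x → x ^ 3 = 1 → InD x := by decide +kernel

/-- The image of `a1P` under the swap, up to the Sylow group. -/
theorem swap_a1 : ∀ x : Pr, x * x = 1 → x * zP = zP * x → x * wP * x⁻¹ = wP⁻¹ →
    ∃ i : Fin 3, wP ^ i.val * x * (wP ^ i.val)⁻¹ = a2P ∨ wP ^ i.val * x * (wP ^ i.val)⁻¹ = a2P * tP := by
  decide +kernel

/-- The centraliser of `zP` and `tP` normalises the Sylow group. -/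
theorem cent_zt : ∀ x : Pr, x * zP = zP * x → x * tP = tP * x → InN x := by decide +kernel

theorem card_cent_zP : (Finset.univ.filter fun x : Pr => x * zP = zP * x).card = 360 := by
  decide +kernel

theorem wP_pow : ∀ i : Fin 3, wP ^ i.val * a1P = a1P * wP ^ i.val ∧ wP ^ i.val * tP = tP * wP ^ i.val ∧
    wP ^ i.val * zP = zP * wP ^ i.val ∧ wP ^ i.val * wP = wP * wP ^ i.val ∧ InD (wP ^ i.val) := by
  decide +kernel

/-- `(01234)` centralises `a1P`. -/
def fiveP : Pr := (1, swap 0 1 * swap 1 2 * swap 2 3 * swap 3 4)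

theorem five_facts : fiveP ^ 5 = 1 ∧ fiveP ≠ 1 ∧ fiveP * a1P = a1P * fiveP := by decide +kernel

theorem a2_conj_t : ∃ k : Pr, k * tP * k⁻¹ = a2P ∧ k * a1P = a1P * k ∧ k * zP = zP * k := by
  decide +kernel

end Cfsg.Agent.Lib.EightThree88.Sym
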